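import Groth.Agent.Lib.FormalCohH7.Colim
import Groth.Agent.Lib.FormalCohH7.ColimExact
import Groth.Agent.Lib.ComplFormalH7.Finite
import Groth.Agent.Lib.ModM1.Coh
import Groth.Agent.S1575
import Groth.Agent.Lib.DPerf.Noeth
import Groth.Agent.Lib.ModM1.FT

/-!
# Sections of `M~` extend across depth two, and the colimit comparison becomes the plain one
-/

set_option autoImplicit false
set_option backward.isDefEq.respectTransparency false
set_option linter.style.haveILetI false

universe u

open CategoryTheory Limits AlgebraicGeometry TopologicalSpace Opposite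

noncomputable section

namespace Groth.Agent.FormalColim28

open Groth.Agent.M1 Groth.Agent.CohFound Groth.Agent.LocCohSheafLib Groth.Agent.LocCohLib Groth.Agent.InjHullLib
  Groth.Agent.FormalCohH7

variable {A : Type u} [CommRing A] [IsNoetherianRing A] (I a : Ideal A) (M : Type u) [AddCommGroup M] [Module A M]
  [Module.Finite A M]

theorem rho_congr {V V' W W' : (Spec (CommRingCat.of A)).Opens} (hV : V' = V) (hW : W' = W) (h : V ≤ W)
    (h' : V' ≤ W') (hb : Function.Bijective (rho M h')) : Function.Bijective (rho M h) := by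
  subst hV; subst hW; exact hb

/-- Sections extend across points of depth two. -/
theorem rho_bijective_of_depth {V W : (Spec (CommRingCat.of A)).Opens} (h : V ≤ W)
    (hd : ∀ p : Spec (CommRingCat.of A), p ∈ W → p ∉ V →
      (2 : ℕ∞) ≤ LocCoh.depth (Localization.AtPrime (p : PrimeSpectrum A).asIdeal)
        (LocalizedModule (p : PrimeSpectrum A).asIdeal.primeCompl M)) :
    Function.Bijective (rho M h) := by
  let X : Scheme.{u} := (W : Scheme.{u})
  let F := Formal2.tmod A M
  haveI : Module.FinitePresentation A M := Module.finitePresentation_of_finite A M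
  have hF : Coh.IsCoh F := (M1.isCoh_iff_isFP _).2 (M1.isFP_tilde (R := CommRingCat.of A) (ModuleCat.of A M))
  haveI : IsLocallyNoetherian X := LocallyOfFiniteType.isLocallyNoetherian W.ι
  have hb := Groth.Agent.S1575.result X (F.restrict W.ι) (DPerf.isCoh_restrict hF W.ι) (W.ι ⁻¹ᵁ V)
    (fun x hx => by
      rw [← LocCohZQ.depth_restrict F W x]
      exact le_of_le_of_eq (hd (W.ι x) x.2 hx) (ComplFormalH7.depth_tilde (R := CommRingCat.of A) (ModuleCat.of A M) _).symm) ⊤
  refine rho_congr M (V' := W.ι ''ᵁ (⊤ ⊓ W.ι ⁻¹ᵁ V)) (W' := W.ι ''ᵁ ⊤) ?_ (Scheme.Opens.ι_image_top W) h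
    (Scheme.Hom.image_mono _ inf_le_left) hb
  refine TopologicalSpace.Opens.ext (Set.ext fun y => ⟨?_, fun hy => ?_⟩)
  · rintro ⟨x, ⟨-, hx⟩, rfl⟩
    exact hx
  · exact ⟨⟨y, h hy⟩, ⟨trivial, hy⟩, rfl⟩

variable {M}

/-- The plain comparison from the colimit one. -/
theorem formalCohBijective_of_colim (h : Formal2.FormalCohColimBijective A I M 0 (LocCoh.puncturedOpen A a))
    (hd : ∀ (p : Ideal A) [p.IsPrime], ¬ a ≤ p →
      (∀ r : Ideal A, r.IsPrime → p ≤ r → I ≤ r → a ≤ r) →
        (2 : ℕ∞) ≤ LocCoh.depth (Localization.AtPrime p) (LocalizedModule p.primeCompl M)) :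
    Formal2.FormalCohBijective A I M 0 (LocCoh.puncturedOpen A a) := by
  let U := LocCoh.puncturedOpen A a
  obtain ⟨h1, h2⟩ := (formalCohColimBijective_iff I M U).1 h
  have hb : ∀ V : (Spec (CommRingCat.of A)).Opens, ∀ hV : Formal2.Admissible A I U V,
      Function.Bijective (rho M hV.1) := fun V hV =>
    rho_bijective_of_depth M hV.1 fun p hpU hpV =>
      hd (p : PrimeSpectrum A).asIdeal ((mem_punctured_iff a p).1 hpU) fun r hr hpr hIr => by
        by_contra har
        have hrV : (⟨r, hr⟩ : Spec (CommRingCat.of A)) ∈ V :=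
          hV.2 ⟨r, hr⟩ ((mem_punctured_iff a (⟨r, hr⟩ : Spec (CommRingCat.of A))).2 har)
            ((PrimeSpectrum.mem_zeroLocus _ _).2 hIr)
        exact hpV (((PrimeSpectrum.le_iff_specializes (p : PrimeSpectrum A) ⟨r, hr⟩).1 hpr).mem_open V.isOpen hrV)
  refine ⟨fun x x' hxx' => ?_, fun y hy => ?_⟩
  · obtain ⟨V', hV', h0⟩ := h1 U ⟨le_rfl, fun _ hp _ => hp⟩ (hvG M 0 U x - hvG M 0 U x') fun n => by
      rw [map_sub, ← hvG_natural, ← hvG_natural, hxx' n, sub_self]
    apply (hvG M 0 U).injective
    rw [← sub_eq_zero]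
    apply (g0 M U).injective
    apply (hb V' hV'.1).1
    rw [map_zero, map_zero, ← g0_rs, h0, map_zero]
  · obtain ⟨V, hV, x, hx⟩ := h2 (fun n => hvG _ 0 U (y n)) fun n => by rw [← hvG_natural, hy n]
    obtain ⟨x', hx'⟩ := (hb V hV).2 (g0 M V x)
    refine ⟨(hvG M 0 U).symm ((g0 M U).symm x'), fun n => (hvG _ 0 U).injective ?_⟩
    rw [hvG_natural, AddEquiv.apply_symm_apply]
    have hinj : Function.Injective (rho (Formal2.quotPow A I M n) hV.1) := (injective_iff_map_eq_zero _).2
      fun s hs => by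
        obtain ⟨b, rfl⟩ := exists_eq_punctured V
        obtain ⟨k, hk⟩ := exists_pow_smul_eq_toS a s
        refine eq_zero_of_pow_smul a s k fun r hr => ?_
        obtain ⟨m, hm⟩ := hk r hr
        rw [← hm, toS_eq_zero_iff]
        have h3 : toS _ (LocCoh.puncturedOpen A b) m = 0 := by
          rw [← rho_toS (M := Formal2.quotPow A I M n) hV.1 m, hm, map_smul, hs, smul_zero]
        obtain ⟨l, hl⟩ := mem_powTors_iff.1 ((toS_eq_zero_iff b m).1 h3)
        have hI : ∀ c ∈ I ^ (n + 1), c • m = 0 := fun c hc => by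
          obtain ⟨m, rfl⟩ := Submodule.Quotient.mk_surjective _ m
          rw [← Submodule.Quotient.mk_smul, Submodule.Quotient.mk_eq_zero]
          exact Submodule.smul_mem_smul hc Submodule.mem_top
        let K : Ideal A := LinearMap.ker (LinearMap.toSpanSingleton A (Formal2.quotPow A I M n) m)
        have hrad : a ≤ K.radical := by
          rw [Ideal.radical_eq_sInf]
          refine le_sInf fun q hq => ?_
          haveI := hq.2
          by_contra haq
          have hIq : I ≤ q := Ideal.IsPrime.le_of_pow_le (fun c hc => hq.1 (hI c hc))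
          have hbq := (mem_punctured_iff b (⟨q, hq.2⟩ : Spec (CommRingCat.of A))).1
            (hV.2 ⟨q, hq.2⟩ ((mem_punctured_iff a (⟨q, hq.2⟩ : Spec (CommRingCat.of A))).2 haq)
              ((PrimeSpectrum.mem_zeroLocus _ _).2 hIq))
          exact hbq (Ideal.IsPrime.le_of_pow_le (fun c hc => hq.1 (hl c hc)))
        obtain ⟨j, hj⟩ := Ideal.exists_pow_le_of_le_radical_of_fg hrad (IsNoetherian.noetherian _)
        exact mem_powTors_iff.2 ⟨j, fun c hc => hj hc⟩
    apply (g0 _ U).injective
    apply hinj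
    have hrho : rho (Formal2.quotPow A I M n) hV.1 (secMap (Formal2.quotPowπ A I M n) U x') =
        secMap (Formal2.quotPowπ A I M n) V (rho M hV.1 x') :=
      (ConcreteCategory.congr_hom ((((modulesSpecToSheaf.map (tilde.map (R := CommRingCat.of A)
        (ModuleCat.ofHom (Formal2.quotPowπ A I M n))))).hom.naturality (homOfLE hV.1).op)) x').symm
    rw [g0_gmap, AddEquiv.apply_symm_apply, hrho, hx', ← g0_gmap, ← hx n, g0_rs]

end Groth.Agent.FormalColim28
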