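import Groth.Agent.Lib.QAffFormalH7.Torsion

/-!
# Formal functions on a punctured affine scheme from the elementwise comparison
-/

set_option autoImplicit false
set_option linter.style.haveILetI false
set_option backward.isDefEq.respectTransparency false
set_option backward.isDefEq.respectTransparency.types false

universe u

open CategoryTheory CategoryTheory.Limits AlgebraicGeometry Opposite

noncomputable section

namespace Groth.Agent.FormalColim28

open Groth.Agent Groth.Agent.GExistH7 Groth.Agent.FormalH7 Groth.Agent.NFlatFormalH7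
open Groth.Agent.ComplFormalH7 (PU tR isQuot_iso_comp)
open Groth.Agent.LocCohSheafLib Groth.Agent.QAffFormalH7

variable {A : Type u} [CommRing A]

/-- Bijectivity of the formal comparison in terms of sections. -/
theorem formal_sec {J : Ideal A} {V W : (Spec (CommRingCat.of A)).Opens} (hVW : W = V)
    (h : Formal2.FormalCohBijective A J A 0 V) :
    (∀ x : Sec A W, (∀ n, secMap (Formal2.quotPowπ A J A n) W x = 0) → x = 0) ∧
    ∀ y : ∀ n, Sec (Formal2.quotPow A J A n) W,
      (∀ n, secMap (Formal2.quotPowTrans A J A n) W (y (n + 1)) = y n) →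
        ∃ x, ∀ n, secMap (Formal2.quotPowπ A J A n) W x = y n := by
  subst hVW
  let e := fun (N : Type u) [AddCommGroup N] [Module A N] => (FormalCohH7.hvG N 0 W).trans (FormalCohH7.g0 N W)
  have he : ∀ (N N' : Type u) [AddCommGroup N] [Module A N] [AddCommGroup N'] [Module A N'] (φ : N →ₗ[A] N')
      (x : Formal2.HV A N 0 W), e N' (Formal2.HVmap A φ 0 W x) = secMap φ W (e N x) := fun N N' _ _ _ _ φ x => by
    exact (congrArg (FormalCohH7.g0 N' W) (FormalCohH7.hvG_natural φ 0 W x)).trans (FormalCohH7.g0_gmap W φ _)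
  refine ⟨fun x hx => ?_, fun y hy => ?_⟩
  · have h0 : (e A).symm x = 0 := h.1 _ 0 fun n => (e _).injective (by
      rw [he, AddEquiv.apply_symm_apply, hx n, map_zero, map_zero])
    rw [← (e A).apply_symm_apply x, h0, map_zero]
  · obtain ⟨x, hx⟩ := h.2 (fun n => (e _).symm (y n)) fun n => (e _).injective (by
      rw [he, AddEquiv.apply_symm_apply, AddEquiv.apply_symm_apply, hy n])
    refine ⟨e A x, fun n => ?_⟩
    rw [← he, hx n, AddEquiv.apply_symm_apply]

variable [IsNoetherianRing A]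

/-- Functions on the punctured scheme are the limit of functions on the thickenings. -/
theorem bijective_toHHlim_structureModule (J 𝔞 : Ideal A)
    (h : Formal2.FormalCohBijective A J A 0 (LocCoh.puncturedOpen A 𝔞)) :
    Function.Bijective (Formal.toHHlim J (Coh.structureModule (PU 𝔞)) 0) := by
  let O := Coh.structureModule (PU 𝔞)
  let L : ModuleCat.{u} (CommRingCat.of A) := ModuleCat.of A A
  let π : ∀ n : ℕ, L ⟶ ModuleCat.of A (Formal2.quotPow A J A n) := fun n =>
    ModuleCat.ofHom (Formal2.quotPowπ A J A n)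
  have hq : ∀ n, IsQuot (J ^ (n + 1)) ((tR 𝔞).map (π n)) := fun n =>
    isQuot_tR _ L _ (π n) (Submodule.mkQ_surjective _) (Submodule.ker_mkQ _)
  choose e he using fun n =>
    (isQuot_iso_comp (isQuot_modPowπ J (n + 1) O) (tRSelf (I := 𝔞))).exists_iso (hq n)
  have het : ∀ n, (e (n + 1)).hom ≫ (tR 𝔞).map (ModuleCat.ofHom (Formal2.quotPowTrans A J A n)) =
      Formal.modPowTrans J (n + 1) O ≫ (e n).hom := fun n => by
    refine (isQuot_iso_comp (isQuot_modPowπ J (n + 1 + 1) O) (tRSelf (I := 𝔞))).hom_ext ?_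
    rw [← Category.assoc, he (n + 1), ← Functor.map_comp, Category.assoc,
      ← Category.assoc (Formal.modPowπ J (n + 1 + 1) O), Formal.modPowπ_trans, ← Category.assoc, he n]
    rfl
  have hW : (LocCoh.puncturedOpen A 𝔞).ι ''ᵁ ⊤ = LocCoh.puncturedOpen A 𝔞 := Scheme.Opens.ι_image_top _
  obtain ⟨h1, h2⟩ := formal_sec hW h
  have hkey : ∀ n (x : Γ((tR 𝔞).obj L, ⊤)),
      (e n).hom.app ⊤ ((Formal.modPowπ J (n + 1) O).app ⊤ ((tRSelf (I := 𝔞)).hom.app ⊤ x)) =
        ((tR 𝔞).map (π n)).app ⊤ x := fun n x => by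
    rw [← he n]
    rfl
  haveI := PunctFree27.quasiCompact_puncturedOpen 𝔞 (IsNoetherian.noetherian 𝔞)
  haveI : IsLocallyNoetherian (PU 𝔞) := LocallyOfFiniteType.isLocallyNoetherian (LocCoh.puncturedOpen A 𝔞).ι
  haveI : CompactSpace (PU 𝔞) := QuasiCompact.compactSpace_of_compactSpace (LocCoh.puncturedOpen A 𝔞).ι
  haveI : AlgebraicGeometry.IsNoetherian (PU 𝔞) := ⟨⟩
  have hinv : ∀ {M N : (PU 𝔞).Modules} (i : M ≅ N) (x : Γ(N, ⊤)), i.hom.app ⊤ (i.inv.app ⊤ x) = x := fun i x => by
    have := congrArg (fun g => g.app ⊤ x) i.inv_hom_id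
    exact this
  have hinv' : ∀ {M N : (PU 𝔞).Modules} (i : M ≅ N) (x : Γ(M, ⊤)), i.inv.app ⊤ (i.hom.app ⊤ x) = x := fun i x => by
    have := congrArg (fun g => g.app ⊤ x) i.hom_inv_id
    exact this
  rw [QAffFormalH7.bijective_iff J O]
  refine ⟨fun x hx => ?_, fun y hy => ?_⟩
  · have h0 := h1 ((tRSelf (I := 𝔞)).inv.app ⊤ x) fun n => by
      show ((tR 𝔞).map (π n)).app ⊤ ((tRSelf (I := 𝔞)).inv.app ⊤ x) = 0
      rw [← hkey n, hinv, hx n, map_zero]
    rw [← hinv tRSelf x]
    exact (congrArg ((tRSelf (I := 𝔞)).hom.app ⊤) h0).trans (map_zero _)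
  · obtain ⟨x, hx⟩ := h2 (fun n => (e n).hom.app ⊤ (y n)) fun n => by
      show ((tR 𝔞).map (ModuleCat.ofHom (Formal2.quotPowTrans A J A n))).app ⊤ ((e (n + 1)).hom.app ⊤ (y (n + 1))) =
        (e n).hom.app ⊤ (y n)
      rw [← hy n]
      exact congrArg (fun g => g.app ⊤ (y (n + 1))) (het n)
    refine ⟨(tRSelf (I := 𝔞)).hom.app ⊤ x, fun n => ?_⟩
    rw [← hinv' (e n) (y n), ← hinv' (e n) ((Formal.modPowπ J (n + 1) O).app ⊤ _), hkey n]
    exact congrArg ((e n).inv.app ⊤) (hx n)

end Groth.Agent.FormalColim28
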