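import Groth.Agent.Lib.FormalColim28.Main
import Groth.Agent.Lib.FormalColim28.Extend
import Groth.Agent.Lib.FormalColim28.PunctHH
import Groth.Agent.Lib.NFlatFormalH7.HomBij
import Groth.Agent.Lib.TateZero11.LefZero
import Groth.Agent.Lib.CIPic27.Restrict
import Groth.Agent.Lib.LocCoh.Localize
import Groth.Agent.Lib.RelPure25.Stalk
import Groth.Agent.Lib.FGA3.FormalTriv
import Groth.Agent.Lib.GorOpen27.Basic

/-!
# The Lefschetz condition on a punctured spectrum from depth two at the closed points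
-/

set_option autoImplicit false
set_option linter.style.haveILetI false
set_option backward.isDefEq.respectTransparency false
set_option backward.isDefEq.respectTransparency.types false

universe u

open CategoryTheory CategoryTheory.Limits AlgebraicGeometry Opposite IsLocalRing

noncomputable section

namespace Groth.Agent.FormalColim28

open Groth.Agent Groth.Agent.GExistH7 Groth.Agent.FormalH7 Groth.Agent.NFlatFormalH7
open Groth.Agent.ComplFormalH7 (PU tR isQuot_iso_comp)

variable {A : Type u} [CommRing A]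

/-- Formal bijectivity of the structure module from formal functions. -/
theorem homToFormal_of_sections {X : Scheme.{u}} [X.Over (Spec (CommRingCat.of A))] [AlgebraicGeometry.IsNoetherian X]
    (J : Ideal A) (𝓘 : X.IdealSheafData)
    (hq : ∀ n : ℕ, IsQuot (J ^ (n + 1)) (ClSub.toSubscheme (𝓘 ^ (n + 1))))
    (h : Function.Bijective (Formal.toHHlim J (Coh.structureModule X) 0)) :
    Lef.HomToFormalBijective 𝓘 (Coh.structureModule X) := by
  let O := Coh.structureModule X
  let one : Γ(O, ⊤) := (show Γ(O, ⊤) from (1 : Γ(X, ⊤)))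
  choose e he using fun n => (isQuot_modPowπ J (n + 1) O).exists_iso (hq n)
  have hes : ∀ n (x : Γ(O, ⊤)),
      (e n).hom.app ⊤ ((Formal.modPowπ J (n + 1) O).app ⊤ x) = (ClSub.toSubscheme (𝓘 ^ (n + 1))).app ⊤ x :=
    fun n x => congrArg (fun g => g.app ⊤ x) (he n)
  have het : ∀ n, (e (n + 1)).hom ≫ Lef.quotMap (Lef.pow_succ_le 𝓘 n) =
      Formal.modPowTrans J (n + 1) O ≫ (e n).hom := fun n => by
    refine (isQuot_modPowπ J (n + 1 + 1) O).hom_ext ?_
    rw [← Category.assoc, he (n + 1), NFlatFormalH7.toSubscheme_quotMap, ← Category.assoc,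
      Formal.modPowπ_trans, he n]
  have hinv : ∀ {M N : X.Modules} (i : M ≅ N) (x : Γ(N, ⊤)), i.hom.app ⊤ (i.inv.app ⊤ x) = x :=
    fun i x => congrArg (fun g => g.app ⊤ x) i.inv_hom_id
  have hinv' : ∀ {M N : X.Modules} (i : M ≅ N) (x : Γ(M, ⊤)), i.inv.app ⊤ (i.hom.app ⊤ x) = x :=
    fun i x => congrArg (fun g => g.app ⊤ x) i.hom_inv_id
  obtain ⟨h1, h2⟩ := (QAffFormalH7.bijective_iff J O).1 h
  refine ⟨fun φ ψ hφψ => FGA3.hom_ext_one φ ψ ?_, fun y hy => ?_⟩
  · rw [← sub_eq_zero]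
    refine h1 _ fun n => ?_
    rw [← hinv' (e n) ((Formal.modPowπ J (n + 1) O).app ⊤ _), hes n, map_sub]
    have hn : (ClSub.toSubscheme (𝓘 ^ (n + 1))).app ⊤ (φ.app ⊤ one) =
        (ClSub.toSubscheme (𝓘 ^ (n + 1))).app ⊤ (ψ.app ⊤ one) := congrArg (fun g => g.app ⊤ one) (hφψ n)
    rw [hn, sub_self, map_zero]
  · obtain ⟨x, hx⟩ := h2 (fun n => (e n).inv.app ⊤ ((y n).app ⊤ one)) fun n => by
      have hyn : (Lef.quotMap (Lef.pow_succ_le 𝓘 n)).app ⊤ ((y (n + 1)).app ⊤ one) = (y n).app ⊤ one :=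
        congrArg (fun g => g.app ⊤ one) (hy n)
      have hh : (Lef.quotMap (Lef.pow_succ_le 𝓘 n)).app ⊤
          ((e (n + 1)).hom.app ⊤ ((e (n + 1)).inv.app ⊤ ((y (n + 1)).app ⊤ one))) =
          (e n).hom.app ⊤ ((Formal.modPowTrans J (n + 1) O).app ⊤ ((e (n + 1)).inv.app ⊤ ((y (n + 1)).app ⊤ one))) :=
        congrArg (fun g => g.app ⊤ ((e (n + 1)).inv.app ⊤ ((y (n + 1)).app ⊤ one))) (het n)
      rw [hinv, hyn] at hh
      rw [hh, hinv']
    refine ⟨FGA3.homOfTop x, fun n => FGA3.hom_ext_one _ _ ?_⟩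
    show (ClSub.toSubscheme (𝓘 ^ (n + 1))).app ⊤ ((FGA3.homOfTop x).app ⊤ one) = (y n).app ⊤ one
    rw [FGA3.homOfTop_app_one, ← hes n, hx n, hinv]

variable [IsLocalRing A] [IsNoetherianRing A]

/-- An associated prime off `V(t)` with a point of `V(t)` below the closed point has coheight at least three. -/
theorem three_le_dim_of_associated {t : A}
    (hdepth : ∀ p : PrimeSpectrum A, ringKrullDim (A ⧸ p.asIdeal) = 1 →
      (2 : ℕ∞) ≤ LocCoh.depth (Localization.AtPrime p.asIdeal) (Localization.AtPrime p.asIdeal))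
    (P R : PrimeSpectrum A) (hP : P.asIdeal ∈ associatedPrimes A A) (htP : t ∉ P.asIdeal) (hPR : P ≤ R)
    (htR : t ∈ R.asIdeal) (hR : R ≠ IsLocalRing.closedPoint A) :
    (2 : WithBot ℕ∞) < Formal2.dimBetween A P.asIdeal (maximalIdeal A) := by
  let Q : PrimeSpectrum A := IsLocalRing.closedPoint A
  have hQ : ∀ S : PrimeSpectrum A, S ≤ Q := fun S => IsLocalRing.le_maximalIdeal S.isPrime.ne_top
  have hPR' : P < R := lt_of_le_of_ne hPR fun e => htP (e ▸ htR)
  have hRQ : R < Q := lt_of_le_of_ne (hQ R) hR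
  show (2 : WithBot ℕ∞) < Formal2.dimBetween A P.asIdeal Q.asIdeal
  rw [← Bootstrap27.krullDim_Icc_eq_dimBetween P Q]
  refine lt_of_not_ge fun h2 => ?_
  have hno : ∀ a b : PrimeSpectrum A, P < a → a < b → b < Q → False := fun a b h1 h3 h4 => by
    let s : LTSeries (Set.Icc P Q) := (((RelSeries.singleton _ (⟨P, le_rfl, hQ P⟩ : Set.Icc P Q)).snoc
      ⟨a, h1.le, hQ a⟩ h1).snoc ⟨b, h1.le.trans h3.le, hQ b⟩ (by rw [RelSeries.last_snoc]; exact h3)).snoc
      ⟨Q, hQ P, le_rfl⟩ (by rw [RelSeries.last_snoc]; exact h4)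
    have := (Order.LTSeries.length_le_krullDim s).trans h2
    have h' : ((3 : ℕ) : WithBot ℕ∞) ≤ ((2 : ℕ) : WithBot ℕ∞) := this
    exact absurd (Nat.cast_le.1 (WithBot.coe_le_coe.1 h')) (by norm_num)
  obtain ⟨t', ht'm, ht'R⟩ : ∃ t', t' ∈ maximalIdeal A ∧ t' ∉ R.asIdeal :=
    Set.not_subset.1 fun h => hR (PrimeSpectrum.ext (le_antisymm (hQ R) h))
  have hdim : ringKrullDim (A ⧸ R.asIdeal) = 1 :=
    CIPic27.dim_quotient_eq_one ht'm (fun h => ht'R (h ht'm)) fun S hS htS => by
      by_contra hS'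
      exact hno R S hPR' (lt_of_le_of_ne hS fun e => ht'R (e ▸ htS))
        (lt_of_le_of_ne (hQ S) fun e => hS' (e ▸ le_rfl))
  have hd := hdepth R hdim
  have hheight : (R.asIdeal.map (Ideal.Quotient.mk P.asIdeal)).height ≤ 1 := by
    let π := Ideal.Quotient.mk P.asIdeal
    haveI : (R.asIdeal.map π).IsPrime :=
      Ideal.map_isPrime_of_surjective Ideal.Quotient.mk_surjective (by rw [Ideal.mk_ker]; exact hPR)
    refine Ideal.height_le_one_of_isPrincipal_of_mem_minimalPrimes (Ideal.span {π t}) _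
      ⟨⟨inferInstance, (Ideal.span_singleton_le_iff_mem _).2 (Ideal.mem_map_of_mem π htR)⟩, fun S hS hSR => ?_⟩
    haveI := hS.1
    let S' : PrimeSpectrum A := ⟨S.comap π, Ideal.IsPrime.comap π⟩
    have hPS : P < S' := lt_of_le_of_ne (fun a ha => by
      show π a ∈ S
      rw [Ideal.Quotient.eq_zero_iff_mem.2 ha]
      exact S.zero_mem) fun e => htP (e ▸ (hS.2 (Ideal.mem_span_singleton_self _) : t ∈ S'.asIdeal))
    have hSR' : S' ≤ R := fun a ha => by
      have h := hSR (show π a ∈ S from ha)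
      rw [Ideal.mem_quotient_iff_mem_sup, sup_eq_left.2 (show P.asIdeal ≤ R.asIdeal from hPR)] at h
      exact h
    rcases eq_or_lt_of_le hSR' with e | hlt
    · exact Ideal.map_le_iff_le_comap.2 (show R.asIdeal ≤ S'.asIdeal from e ▸ le_rfl)
    · exact (hno S' R hPS hlt hRQ).elim
  haveI : Module.Finite A A := inferInstance
  have hle := LocCohLib.depth_localization_le (R := A) A P.asIdeal R.asIdeal hPR
  rw [DepthLib.depth_localizedModule_self, DepthLib.depth_localizedModule_self] at hle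
  have h0 : LocCoh.depth (Localization.AtPrime P.asIdeal) (Localization.AtPrime P.asIdeal) = 0 := by
    by_contra hne
    refine ClosedAlong.notMem_associatedPrimes_of_one_le_depth (A := A) (M := A) P.asIdeal ?_ hP
    rw [DepthLib.depth_localizedModule_self]
    exact Order.one_le_iff_ne_zero.2 hne
  rw [h0, zero_add] at hle
  exact absurd (hd.trans (hle.trans hheight)) (by norm_num)

variable {t : A} (ht : t ∈ maximalIdeal A)
  (hdepth : ∀ p : PrimeSpectrum A, ringKrullDim (A ⧸ p.asIdeal) = 1 →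
    (2 : ℕ∞) ≤ LocCoh.depth (Localization.AtPrime p.asIdeal) (Localization.AtPrime p.asIdeal))
  (hdc : ∃ ω : Dual.D A, Dual.IsDualizing A ω) [IsAdicComplete (Ideal.span {t}) A]

omit [IsAdicComplete (Ideal.span {t}) A] in
include ht hdepth in
theorem two_le_depth_of_isolated (p : Ideal A) [hp : p.IsPrime] (hpm : ¬ maximalIdeal A ≤ p)
    (h : ∀ r : Ideal A, r.IsPrime → p ≤ r → t ∈ r → maximalIdeal A ≤ r) :
    (2 : ℕ∞) ≤ LocCoh.depth (Localization.AtPrime p) (Localization.AtPrime p) :=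
  hdepth ⟨p, hp⟩ (CIPic27.dim_quotient_eq_one (p := ⟨p, hp⟩) ht hpm fun q hq htq => h q.asIdeal q.isPrime hq htq)

include ht hdepth hdc in
theorem formalCohBijective_punctured :
    Formal2.FormalCohBijective A (Ideal.span {t}) A 0 (LocCoh.puncturedOpen A (maximalIdeal A)) := by
  have hI : Ideal.span {t} ≤ maximalIdeal A := (Ideal.span_singleton_le_iff_mem _).2 ht
  refine formalCohBijective_of_colim (Ideal.span {t}) (maximalIdeal A) (M := A) (formalCohColimBijective hI hdc 1
    (LocCohLib.cdLE_span_singleton t) A fun p hp _ htp hr q hq hpq hmq => ?_) ?_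
  · haveI := hq
    have hpP : p.IsPrime := IsAssociatedPrime.isPrime hp
    obtain ⟨r, hr, hpr, htr, hmr⟩ := hr
    obtain rfl : q = maximalIdeal A := (IsLocalRing.le_maximalIdeal hq.ne_top).antisymm hmq
    exact three_le_dim_of_associated hdepth ⟨p, hpP⟩ ⟨r, hr⟩ hp
      (fun h => htp ((Ideal.span_singleton_le_iff_mem _).2 h)) hpr ((Ideal.span_singleton_le_iff_mem _).1 htr)
      fun e => hmr (le_of_eq (congrArg PrimeSpectrum.asIdeal e).symm)
  · intro p hp hpm h
    rw [DepthLib.depth_localizedModule_self]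
    exact two_le_depth_of_isolated ht hdepth p hpm fun r hr hpr htr =>
      h r hr hpr ((Ideal.span_singleton_le_iff_mem _).2 htr)

include ht hdepth hdc in
/-- The Lefschetz condition along `V(t)` on the punctured spectrum. -/
theorem lefCond_punctured : Lef.LefCond (PU (maximalIdeal A))
    ((FSch.idealSpec A (Ideal.span {t})).comap (LocCoh.puncturedOpen A (maximalIdeal A)).ι) := by
  let 𝔞 := maximalIdeal A
  let J := Ideal.span {t}
  let P := LocCoh.puncturedOpen A 𝔞
  let 𝓘 := (FSch.idealSpec A J).comap P.ι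
  haveI := PunctFree27.quasiCompact_puncturedOpen 𝔞 (IsNoetherian.noetherian 𝔞)
  haveI : IsLocallyNoetherian (PU 𝔞) := LocallyOfFiniteType.isLocallyNoetherian P.ι
  haveI : CompactSpace (PU 𝔞) := QuasiCompact.compactSpace_of_compactSpace P.ι
  haveI : AlgebraicGeometry.IsNoetherian (PU 𝔞) := ⟨⟩
  haveI : (PU 𝔞).IsQuasiAffine := Scheme.IsQuasiAffine.of_isImmersion P.ι
  have hstr : Lef.HomToFormalBijective 𝓘 (Coh.structureModule (PU 𝔞)) :=
    homToFormal_of_sections J 𝓘 (isQuot_toSubscheme 𝓘 rfl)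
      (bijective_toHHlim_structureModule J 𝔞 (formalCohBijective_punctured ht hdepth hdc))
  have hO : Coh.IsCoh (Coh.structureModule (PU 𝔞)) :=
    Snapper.isCoh_of_isInvertible (PicLoc.isInvertible_structureModule _)
  haveI := hO.1
  intro U hU D hD
  have hclosed : ∀ z : PU 𝔞, z ∉ U →
      (2 : ℕ∞) ≤ LocCoh.depth ((PU 𝔞).presheaf.stalk z) ((PU 𝔞).presheaf.stalk z) := by
    intro z hz
    let y : Spec (CommRingCat.of A) := P.ι z
    have hy : ¬ 𝔞 ≤ (y : PrimeSpectrum A).asIdeal :=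
      (FormalCohH7.mem_punctured_iff 𝔞 y).1 z.2
    rw [RelPure25.depth_stalk_opens]
    let O := (Spec (CommRingCat.of A)).presheaf.stalk y
    letI : Algebra A O := StructureSheaf.stalkAlgebra A y
    haveI : IsLocalization.AtPrime O (y : PrimeSpectrum A).asIdeal := StructureSheaf.IsLocalization.to_stalk A y
    refine le_of_le_of_eq (two_le_depth_of_isolated ht hdepth (y : PrimeSpectrum A).asIdeal hy ?_)
      (SMT.depth_eq_of_ringEquiv (IsLocalization.algEquiv (y : PrimeSpectrum A).asIdeal.primeCompl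
        (Localization.AtPrime (y : PrimeSpectrum A).asIdeal) O).toRingEquiv.symm)
    intro r hr hyr htr
    by_contra hmr
    let w : PU 𝔞 := ⟨(⟨r, hr⟩ : PrimeSpectrum A), (FormalCohH7.mem_punctured_iff 𝔞 (⟨r, hr⟩ : Spec (CommRingCat.of A))).2 hmr⟩
    have hwU : w ∈ U := hU (by
      show w ∈ (((FSch.idealSpec A J).comap P.ι).support : Set (PU 𝔞))
      rw [Scheme.IdealSheafData.support_comap]
      show (⟨r, hr⟩ : PrimeSpectrum A) ∈ ((FSch.idealSpec A J).support : Set (Spec (CommRingCat.of A)))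
      rw [FormalH7.support_idealSpec]
      exact (PrimeSpectrum.mem_zeroLocus _ _).2 ((Ideal.span_singleton_le_iff_mem _).2 htr))
    exact hz (((subtype_specializes_iff z w).2
      ((PrimeSpectrum.le_iff_specializes (y : PrimeSpectrum A) ⟨r, hr⟩).1 hyr) : z ⤳ w).mem_open U.isOpen hwU)
  have hextO : RH26.ExtU U (Coh.structureModule (PU 𝔞)) := DepthAlong11.extU_of_hasSlicePair _
    (DepthAlong11.hasSlicePair_of_depth _ hO U fun z hz => by
      rw [ES11.depth_structureModule]; exact hclosed z hz)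
  have hextQ : ∀ n : ℕ, RH26.ExtU U (ClSub.quotMod (𝓘 ^ (n + 1))) := fun n => by
    have hQc : Coh.IsCoh (ClSub.quotMod (𝓘 ^ (n + 1))) := CohFound.isCoh_push_closedImm _
      (CohFound.isCoh_of_isFinLocFree (M2.isFinLocFree_of_isInvertible (PicLoc.isInvertible_structureModule _)))
    haveI := hQc.1
    refine DepthAlong11.extU_of_hasSlicePair _ (DepthAlong11.hasSlicePair_of_depth _ hQc U fun z hz => ?_)
    rw [ES11.depth_push_stalk_notMem]
    · exact le_top
    · rw [Scheme.IdealSheafData.range_subschemeι, Scheme.IdealSheafData.support_pow_succ]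
      exact fun h => hz (hU h)
  haveI : AlgebraicGeometry.IsNoetherian (U : Scheme.{u}) := LocImm12.isNoetherian_of_isOpenImmersion U.ι
  obtain ⟨F, α, hF, hα⟩ := KCoh4.exists_ext U.ι (CohFound.isCoh_of_isFinLocFree hD)
  haveI : IsIso ((Scheme.Modules.restrictFunctor U.ι).map α) := hα
  exact TZ11.homToFormal_restrict U hextO hextQ
    (asIso ((Scheme.Modules.restrictFunctor U.ι).map α) ≪≫
      asIso ((Scheme.Modules.restrictAdjunction U.ι).counit.app D))
    (LefFEt11.homToFormal_of_isQuasiAffine hstr hF)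

end Groth.Agent.FormalColim28
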