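import Groth.Agent.Lib.NFlatFormalH7.Lef
import Groth.Agent.Lib.NFlatFormalH7.Normal
import Groth.Agent.Lib.FormalH7.LocFree
import Groth.Agent.Lib.CIPic27.Hypersurface
import Groth.Agent.Lib.FlatDepth.Fibre
import Groth.Agent.Lib.FormalColim28.LefPunct
import Groth.Prelude.Def_LefX
import Groth.Prelude.Def_FSch3
import Groth.Agent.Lib.ComplFormalH7.CompletionEq

/-!
# Algebraization near the formal completion: locally free systems, and the punctured spectrum
-/

set_option autoImplicit false
set_option linter.style.haveILetI false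
set_option linter.unusedSectionVars false
set_option backward.isDefEq.respectTransparency false
set_option backward.isDefEq.respectTransparency.types false

universe u

open CategoryTheory CategoryTheory.Limits AlgebraicGeometry TopologicalSpace Opposite IsLocalRing
open scoped TensorProduct

noncomputable section

namespace Groth.Agent.AlgPunct28

open Groth.Agent

variable {X : Scheme.{u}}

/-- Locally free on every thickening implies free at the points of the closed subscheme. -/
theorem free_stalk_of_levels [IsLocallyNoetherian X] {M : X.Modules} (hM : Coh.IsQCoh M) (hM' : CohB1.IsFT M)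
    (J : X.IdealSheafData)
    (h : ∀ n : ℕ, FlatMod.IsFinLocFree ((Scheme.Modules.pullback (J ^ (n + 1)).subschemeι).obj M))
    {x : X} (hx : x ∈ (J.support : Set X)) :
    Module.Free (X.presheaf.stalk x) (M.presheaf.stalk x) := by
  haveI := M1.finite_stalk hM hM' x
  obtain ⟨U, hU, hxU, -⟩ := exists_isAffineOpen_mem_and_subset (x := x) (U := ⊤) trivial
  let Jx := (J.ideal ⟨U, hU⟩).map (X.presheaf.germ U x hxU).hom
  have hker : ∀ n : ℕ, ∃ (S : Type u) (_ : CommRing S) (_ : Algebra (X.presheaf.stalk x) S),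
      Function.Surjective (algebraMap (X.presheaf.stalk x) S) ∧
      RingHom.ker (algebraMap (X.presheaf.stalk x) S) = Jx ^ (n + 1) ∧ Nontrivial S ∧
      Module.Flat S (S ⊗[X.presheaf.stalk x] (M.presheaf.stalk x : Type u)) := by
    intro n
    obtain ⟨d, rfl⟩ : x ∈ Set.range (J ^ (n + 1)).subschemeι := by
      rw [(J ^ (n + 1)).range_subschemeι, Scheme.IdealSheafData.support_pow_succ]
      exact hx
    refine ⟨_, inferInstance, M2.stAlg (J ^ (n + 1)).subschemeι d,
      (J ^ (n + 1)).subschemeι.stalkMap_surjective d, ?_, inferInstance, ?_⟩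
    · refine (FormalH7.ker_stalkMap_subscheme (J ^ (n + 1)) ⟨U, hU⟩ d hxU).trans ?_
      rw [Scheme.IdealSheafData.ideal_pow, Pi.pow_apply, Ideal.map_pow]
    · haveI := ((M1.isFinLocFree_iff _).1 (h n)).2 d
      exact Module.Flat.of_linearEquiv (M2.pullStalkEquiv (J ^ (n + 1)).subschemeι d M)
  haveI : Module.Flat (X.presheaf.stalk x) (M.presheaf.stalk x) := by
    refine FlatH4.flat_of_forall_flat_quotient_pow (S := X.presheaf.stalk x) Jx ?_ fun n hn => ?_
    · rw [Algebra.algebraMap_self, Ideal.map_id]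
      refine le_trans ?_ (IsLocalRing.maximalIdeal_le_jacobson _)
      obtain ⟨S, _, _, hs, hk, hS, -⟩ := hker 0
      rw [pow_one] at hk
      exact hk ▸ IsLocalRing.le_maximalIdeal (RingHom.ker_ne_top _)
    · obtain ⟨m, rfl⟩ := Nat.exists_eq_succ_of_ne_zero hn.ne'
      obtain ⟨S, _, _, hs, hk, -, hf⟩ := hker m
      haveI := hf
      exact FormalH7.flat_quotient_tensor hs hk
  exact Module.free_of_flat_of_isLocalRing

/-- The transition isomorphisms of completions are natural. -/
theorem completionMod_comm (𝓘 : X.IdealSheafData) {F G : X.Modules} (φ : F ⟶ G) (n : ℕ) :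
    (Scheme.Modules.pullback ((FSch.completionAlong X 𝓘).ι n)).map
        ((Scheme.Modules.pullback (FSch.completionToX X 𝓘 (n + 1))).map φ) ≫
      ((FSch.completionMod 𝓘 G).e n).hom =
    ((FSch.completionMod 𝓘 F).e n).hom ≫ (Scheme.Modules.pullback (FSch.completionToX X 𝓘 n)).map φ :=
  by
  rw [ComplFormalH7.completionMod_e_eq_complMod_e, ComplFormalH7.completionMod_e_eq_complMod_e]
  exact (FSch.complModMap 𝓘 φ).comm n

/-- A coherent algebraization of a levelwise locally free system is locally free near the closed subscheme. -/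
theorem exists_locFree_of_coherent [IsLocallyNoetherian X] (𝓘 : X.IdealSheafData) (F : X.Modules) (hF : Coh.IsCoh F)
    (𝔐 : FSch.ModSys (FSch.completionAlong X 𝓘)) (h𝔐 : LefX.LevelwiseFinLocFree 𝔐)
    (eF : FSch.completionMod 𝓘 F ≅ 𝔐) :
    ∃ (U : X.Opens) (E : (U : Scheme.{u}).Modules), (𝓘.support : Set X) ⊆ (U : Set X) ∧ FlatMod.IsFinLocFree E ∧
      Nonempty (FSch.completionMod 𝓘 ((Scheme.Modules.pushforward U.ι).obj E) ≅ 𝔐) := by
  have hlev : ∀ n, FlatMod.IsFinLocFree ((Scheme.Modules.pullback (𝓘 ^ (n + 1)).subschemeι).obj F) := fun n =>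
    M2.isFinLocFree_of_iso (⟨eF.inv.app n, eF.hom.app n, congrArg (fun f => f.app n) eF.inv_hom_id,
      congrArg (fun f => f.app n) eF.hom_inv_id⟩ : 𝔐.F n ≅ (FSch.completionMod 𝓘 F).F n) (h𝔐 n)
  let U : X.Opens := ⟨{x | ∃ (V : X.Opens) (r : ℕ), x ∈ V ∧
      Nonempty (F.restrict V.ι ≅ FlatMod.freeMod (V : Scheme.{u}) r)}, isOpen_iff_forall_mem_open.2
        fun x ⟨V, r, hxV, hV⟩ => ⟨V, fun y hy => ⟨V, r, hy, hV⟩, V.isOpen, hxV⟩⟩
  have hU : (𝓘.support : Set X) ⊆ (U : Set X) := fun x hx => by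
    obtain ⟨V, r, hxV, hV⟩ := M1.exists_freeMod_of_free_stalk (M1.isFP_of_isCoh hF) x
      (hx := free_stalk_of_levels hF.1 hF.2 𝓘 hlev hx)
    exact ⟨V, r, hxV, hV⟩
  let E := F.restrict U.ι
  have hE : FlatMod.IsFinLocFree E := fun x => by
    obtain ⟨V, r, hxV, ⟨eV⟩⟩ := x.2
    refine ⟨U.ι ⁻¹ᵁ V, r, hxV, ⟨?_⟩⟩
    exact (Scheme.Modules.restrictFunctorIsoPullback (U.ι ⁻¹ᵁ V).ι).app _ ≪≫
      (Scheme.Modules.pullback (U.ι ⁻¹ᵁ V).ι).mapIso ((Scheme.Modules.restrictFunctorIsoPullback U.ι).app F) ≪≫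
      (Scheme.Modules.pullbackComp (U.ι ⁻¹ᵁ V).ι U.ι).app F ≪≫
      (Scheme.Modules.pullbackCongr (morphismRestrict_ι U.ι V).symm).app F ≪≫
      ((Scheme.Modules.pullbackComp (U.ι ∣_ V) V.ι).app F).symm ≪≫
      (Scheme.Modules.pullback (U.ι ∣_ V)).mapIso
        (((Scheme.Modules.restrictFunctorIsoPullback V.ι).app F).symm ≪≫ eV) ≪≫ M2.freeModPullbackIso _ r
  let adj := Scheme.Modules.restrictAdjunction U.ι
  let η : F ⟶ (Scheme.Modules.pushforward U.ι).obj E := adj.unit.app F
  haveI hη : IsIso ((Scheme.Modules.restrictFunctor U.ι).map η) := by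
    haveI : IsIso (adj.counit.app ((Scheme.Modules.restrictFunctor U.ι).obj F)) := inferInstance
    have h1 := adj.left_triangle_components F
    haveI : IsIso ((Scheme.Modules.restrictFunctor U.ι).map η ≫
        adj.counit.app ((Scheme.Modules.restrictFunctor U.ι).obj F)) := by rw [h1]; infer_instance
    exact IsIso.of_isIso_comp_right _ (adj.counit.app ((Scheme.Modules.restrictFunctor U.ι).obj F))
  have happ : ∀ n, IsIso ((Scheme.Modules.pullback (FSch.completionToX X 𝓘 n)).map η) := fun n => by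
    have hr : Set.range (FSch.completionToX X 𝓘 n) ⊆ Set.range U.ι := by
      show Set.range (𝓘 ^ (n + 1)).subschemeι ⊆ _
      rw [Scheme.IdealSheafData.range_subschemeι, Scheme.Opens.range_ι, Scheme.IdealSheafData.support_pow_succ]
      exact hU
    let g := IsOpenImmersion.lift U.ι _ hr
    haveI : IsIso ((Scheme.Modules.pullback U.ι).map η) :=
      (NatIso.isIso_map_iff (Scheme.Modules.restrictFunctorIsoPullback U.ι) η).1 hη
    haveI : IsIso ((Scheme.Modules.pullback U.ι ⋙ Scheme.Modules.pullback g).map η) :=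
      inferInstanceAs (IsIso ((Scheme.Modules.pullback g).map ((Scheme.Modules.pullback U.ι).map η)))
    exact (NatIso.isIso_map_iff (Scheme.Modules.pullbackComp g U.ι ≪≫
      Scheme.Modules.pullbackCongr (IsOpenImmersion.lift_fac U.ι _ hr)) η).1 inferInstance
  let φ : FSch.completionMod 𝓘 F ⟶ FSch.completionMod 𝓘 ((Scheme.Modules.pushforward U.ι).obj E) :=
    ⟨fun n => (Scheme.Modules.pullback (FSch.completionToX X 𝓘 n)).map η, completionMod_comm 𝓘 η⟩
  haveI := happ
  let ψ : FSch.completionMod 𝓘 ((Scheme.Modules.pushforward U.ι).obj E) ⟶ FSch.completionMod 𝓘 F :=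
    ⟨fun n => inv ((Scheme.Modules.pullback (FSch.completionToX X 𝓘 n)).map η), fun n => by
      rw [← cancel_mono ((Scheme.Modules.pullback (FSch.completionToX X 𝓘 n)).map η), Category.assoc, Category.assoc,
        IsIso.inv_hom_id, Category.comp_id, ← φ.comm n]
      show _ ≫ (Scheme.Modules.pullback _).map ((Scheme.Modules.pullback _).map η) ≫ _ = _
      rw [← Category.assoc, ← Functor.map_comp, IsIso.inv_hom_id, CategoryTheory.Functor.map_id, Category.id_comp]⟩
  exact ⟨U, E, hU, hE, ⟨(Iso.mk ψ φ (FSch.ModSys.Hom.ext (funext fun n => IsIso.inv_hom_id _))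
    (FSch.ModSys.Hom.ext (funext fun n => IsIso.hom_inv_id _))) ≪≫ eF⟩⟩

variable {A : Type u} [CommRing A] [IsNoetherianRing A] {t : A}

omit [IsNoetherianRing A] in
/-- The graded pieces of a regular principal ideal are free. -/
theorem flat_gr_span_singleton (hreg : IsSMulRegular A t) (n : ℕ) :
    Module.Flat (A ⧸ Ideal.span {t}) (↥(Ideal.span {t} ^ n) ⧸
      (Ideal.span {t} • (⊤ : Submodule A ↥(Ideal.span {t} ^ n)))) := by
  let J := Ideal.span {t}
  have hmem : ∀ a : A, t ^ n * a ∈ J ^ n := fun a =>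
    Ideal.mul_mem_right _ _ (Ideal.pow_mem_pow (Ideal.mem_span_singleton_self t) n)
  let f : A →ₗ[A] ↥(J ^ n) := LinearMap.codRestrict (J ^ n) (LinearMap.lsmul A A (t ^ n)) hmem
  have hf : Function.Bijective f := by
    refine ⟨fun a b h => (hreg.pow n) (congrArg Subtype.val h), fun x => ?_⟩
    have hx : (x : A) ∈ Ideal.span {t ^ n} := Ideal.span_singleton_pow t n ▸ x.2
    obtain ⟨a, ha⟩ := Ideal.mem_span_singleton'.1 hx
    exact ⟨a, Subtype.ext ((mul_comm _ _).trans ha)⟩
  let e : A ≃ₗ[A] ↥(J ^ n) := LinearEquiv.ofBijective f hf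
  let e' : (A ⧸ J) ≃ₗ[A] (↥(J ^ n) ⧸ (J • (⊤ : Submodule A ↥(J ^ n)))) :=
    Submodule.Quotient.equiv J _ e (by
      have hJ : (J : Submodule A A) = J • (⊤ : Submodule A A) := (Ideal.mul_top J).symm
      refine (congrArg (Submodule.map (e : A →ₗ[A] ↥(J ^ n))) hJ).trans ?_
      rw [Submodule.map_smul'', Submodule.map_top, LinearEquiv.range])
  exact Module.Flat.of_linearEquiv (e'.extendScalarsOfSurjective Ideal.Quotient.mk_surjective).symm

variable [IsLocalRing A]

/-- Levelwise locally free systems on the completed punctured spectrum come from neighbourhoods. -/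
theorem exists_algebraization (S : Type u) [CommRing S] [IsRegularRing S] (π : S →+* A) (hπ : Function.Surjective π)
    [IsAdicComplete (Ideal.span {t}) A] (ht : t ∈ maximalIdeal A) (hreg : IsSMulRegular A t)
    (h3 : ∀ p : PrimeSpectrum A, t ∈ p.asIdeal → ringKrullDim (A ⧸ p.asIdeal) = 1 →
      (3 : ℕ∞) ≤ LocCoh.depth (Localization.AtPrime p.asIdeal) (Localization.AtPrime p.asIdeal))
    {U : (Spec (CommRingCat.of A)).Opens} (hU : U = LocCoh.puncturedOpen A (maximalIdeal A))
    (𝔐 : FSch.ModSys (FSch.completionAlong (↑U : Scheme.{u})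
      ((Spec.map (CommRingCat.ofHom (Ideal.Quotient.mk (Ideal.span {t})))).ker.comap U.ι)))
    (h𝔐 : LefX.LevelwiseFinLocFree 𝔐) :
    ∃ F : (↑U : Scheme.{u}).Modules, Coh.IsCoh F ∧
      Nonempty (FSch.completionMod ((Spec.map (CommRingCat.ofHom (Ideal.Quotient.mk (Ideal.span {t})))).ker.comap U.ι)
        F ≅ 𝔐) := by
  refine NFlatFormalH7.exists_completionMod_iso (flat_gr_span_singleton hreg) (fun i hi => ?_) hU 𝔐 h𝔐
  refine NFlatFormalH7.finite_H_quotient (maximalIdeal A) (Ideal.span {t}) S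
    ((Ideal.Quotient.mk (Ideal.span {t})).comp π) (Ideal.Quotient.mk_surjective.comp hπ) 2
    (fun x hx hJx => ?_) i hi
  rintro ⟨y, hy, -, hxy, hdim⟩
  obtain rfl : y = closedPoint A := PrimeSpectrum.ext (le_antisymm (le_maximalIdeal y.isPrime.ne_top) hy)
  have htx : t ∈ x.asIdeal := hJx (Ideal.mem_span_singleton_self t)
  have h1 : ringKrullDim (A ⧸ x.asIdeal) = 1 := by
    rw [ringKrullDim_quotient, ← hdim, ← Bootstrap27.krullDim_Icc_eq_dimBetween x (closedPoint A)]
    exact Order.krullDim_eq_of_orderIso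
      { toFun := fun q => ⟨q.1, q.2, le_maximalIdeal q.1.isPrime.ne_top⟩
        invFun := fun q => ⟨q.1, q.2.1⟩
        map_rel_iff' := Iff.rfl }
  have hd := h3 x htx h1
  let B := Localization.AtPrime x.asIdeal
  have htm : algebraMap A B t ∈ maximalIdeal B :=
    (IsLocalization.AtPrime.to_map_mem_maximal_iff B x.asIdeal t).2 htx
  have hr : IsSMulRegular B (algebraMap A B t) :=
    IsSMulRegular.of_flat (S := B) hreg
  haveI : IsLocalRing (B ⧸ Ideal.span {algebraMap A B t}) :=
    haveI : Nontrivial (B ⧸ Ideal.span {algebraMap A B t}) := Ideal.Quotient.nontrivial_iff.2 fun h =>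
      (maximalIdeal.isMaximal B).ne_top (eq_top_iff.2 (h.ge.trans ((Ideal.span_singleton_le_iff_mem _).2 htm)))
    IsLocalRing.of_surjective' (Ideal.Quotient.mk _) Ideal.Quotient.mk_surjective
  have he := GorenLib.depth_quotient_add_one htm hr
  rw [← he, ← FlatDepth.depth_eq_of_surjective (A := B) (B := B ⧸ Ideal.span {algebraMap A B t})
    (M := B ⧸ Ideal.span {algebraMap A B t}) Ideal.Quotient.mk_surjective] at hd
  rw [Ideal.map_span, Set.image_singleton]
  refine (ENat.add_le_add_iff_right ENat.one_ne_top).1 (le_trans (le_of_eq ?_) hd)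
  norm_num

end Groth.Agent.AlgPunct28
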