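import Groth.Agent.Lib.FormalColim28.NearBij

/-!
# Open partitions of `V(I) ∖ V(a)` spread out
-/

set_option autoImplicit false
set_option backward.isDefEq.respectTransparency false
set_option backward.isDefEq.respectTransparency.types false
set_option linter.style.haveILetI false

universe u

open CategoryTheory Limits AlgebraicGeometry TopologicalSpace Opposite

noncomputable section

namespace Groth.Agent.FormalColim28

open Groth.Agent.M1 Groth.Agent.CohFound Groth.Agent.LocCohSheafLib Groth.Agent.LocCohLib Groth.Agent.InjHullLib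
  Groth.Agent.FormalCohH7

variable {A : Type u} [CommRing A] [IsNoetherianRing A] {ι : Type} {x : ι → A} {I a N : Ideal A}

theorem secMap_quot_eq_zero (n : ℕ) (M : Type u) [AddCommGroup M] [Module A M]
    (W : (Spec (CommRingCat.of A)).Opens) (s : Sec (Formal2.quotPow A I M n) W) {r : A} (hr : r ∈ I ^ (n + 1)) :
    r • s = 0 := by
  have h : (r • LinearMap.id : Formal2.quotPow A I M n →ₗ[A] Formal2.quotPow A I M n) = 0 := by
    refine Submodule.linearMap_qext _ (LinearMap.ext fun z => ?_)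
    show r • Submodule.Quotient.mk z = (0 : Formal2.quotPow A I M n)
    rw [← Submodule.Quotient.mk_smul, Submodule.Quotient.mk_eq_zero]
    exact Submodule.smul_mem_smul hr Submodule.mem_top
  rw [← secMap_smul_id, h, secMap_zero]

theorem quotPow_mk_eq_zero (n : ℕ) (z : A) :
    Formal2.quotPowπ A I (A ⧸ N) n (Submodule.mkQ N z) = 0 ↔ z ∈ I ^ (n + 1) ⊔ N := by
  have h : (I ^ (n + 1) • ⊤ : Submodule A (A ⧸ N)) = Submodule.map N.mkQ (I ^ (n + 1) • ⊤ : Submodule A A) := by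
    rw [Submodule.map_smul'', Submodule.map_top, Submodule.range_mkQ]
  rw [show Formal2.quotPowπ A I (A ⧸ N) n (Submodule.mkQ N z) = Submodule.Quotient.mk (Submodule.mkQ N z) from rfl,
    Submodule.Quotient.mk_eq_zero, h, ← Submodule.mem_comap, Submodule.comap_map_mkQ, sup_comm,
    Ideal.smul_top_eq_map, Algebra.algebraMap_self, Ideal.map_id]
  rfl

/-- A formal family comes from a fraction near each point of `V(I)`. -/
theorem exists_near_family (hx : Ideal.span (Set.range x) = a)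
    (hb : GColimSurj I (A ⧸ N) (LocCoh.puncturedOpen A a))
    (q : PrimeSpectrum A) (hIq : I ≤ q.asIdeal) (hqa : ¬ a ≤ q.asIdeal)
    (k : ℕ → ℕ) (e : ℕ → ι → A)
    (hfam : ∀ n (i j : ι), x j ^ k n * e n i - x i ^ k n * e n j ∈ I ^ (n + 1) ⊔ N)
    (hcomp : ∀ n (i : ι), ∃ p : ℕ, x i ^ p * (x i ^ k n * e (n + 1) i - x i ^ k (n + 1) * e n i) ∈ I ^ (n + 1) ⊔ N) :
    ∃ g : A, g ∉ q.asIdeal ∧ ∃ b : A, ∀ n (i : ι), ∃ p : ℕ, x i ^ p * (g * e n i - x i ^ k n * b) ∈ I ^ (n + 1) ⊔ N := by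
  let M := A ⧸ N
  let U := LocCoh.puncturedOpen A a
  let π : ∀ n, A →ₗ[A] Formal2.quotPow A I M n := fun n => Formal2.quotPowπ A I M n ∘ₗ Submodule.mkQ N
  have hπ : ∀ n z, π n z = 0 ↔ z ∈ I ^ (n + 1) ⊔ N := fun n z => quotPow_mk_eq_zero n z
  choose s hs using fun n => exists_glue_num (M := Formal2.quotPow A I M n) hx (k n)
    (fun i => π n (e n i)) fun i j => by
      rw [← sub_eq_zero, ← map_smul, ← map_smul, ← map_sub, hπ]
      exact hfam n i j
  have hc : ∀ n, secMap (Formal2.quotPowTrans A I M n) U (s (n + 1)) = s n := fun n => by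
    refine sub_eq_zero.1 (eq_zero_of_forall hx _ fun i => ?_)
    obtain ⟨p, hp⟩ := hcomp n i
    refine ⟨p + k n + k (n + 1), ?_⟩
    have e1 : x i ^ (p + k n + k (n + 1)) = (x i ^ p * x i ^ k n) * x i ^ k (n + 1) := by ring
    have e2 : (x i ^ p * x i ^ k n) * x i ^ k (n + 1) = (x i ^ p * x i ^ k (n + 1)) * x i ^ k n := by ring
    rw [smul_sub, sub_eq_zero, e1]
    conv_lhs => rw [mul_smul, ← map_smul (secMap (Formal2.quotPowTrans A I M n) U), hs, secMap_toS, ← map_smul]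
    conv_rhs => rw [e2, mul_smul, hs, ← map_smul]
    refine congrArg (toS (R := A) _ U) ?_
    show (x i ^ p * x i ^ k n) • π n (e (n + 1) i) = (x i ^ p * x i ^ k (n + 1)) • π n (e n i)
    rw [← sub_eq_zero, ← map_smul, ← map_smul, ← map_sub, hπ]
    convert hp using 1
    simp only [smul_eq_mul]
    ring
  obtain ⟨V, hV, X, hX⟩ := hb (fun n => (g0 _ U).symm (s n)) fun n => (g0 _ U).injective (by
    rw [g0_gmap, AddEquiv.apply_symm_apply, AddEquiv.apply_symm_apply]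
    exact hc n)
  obtain ⟨b, rfl⟩ := exists_eq_punctured V
  have hqb : ¬ b ≤ q.asIdeal := (FormalCohH7.mem_punctured_iff b _).1 (hV.2 q
    ((FormalCohH7.mem_punctured_iff a _).2 hqa) ((PrimeSpectrum.mem_zeroLocus _ _).2 hIq))
  obtain ⟨g, hg, c, hc'⟩ := exists_smul_eq_toS b hqb (g0 M _ X)
  obtain ⟨c, rfl⟩ := Submodule.mkQ_surjective _ c
  refine ⟨g, hg, c, fun n i => ?_⟩
  have hd : g • s n = toS _ U (π n c) := by
    have h1 : rho _ hV.1 (g • s n - toS _ U (π n c)) = 0 := by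
      have h2 := congrArg (g0 _ (LocCoh.puncturedOpen A b)) (hX n)
      rw [g0_rs, AddEquiv.apply_symm_apply, g0_gmap] at h2
      rw [map_sub, map_smul, h2, rho_toS, ← map_smul, hc', secMap_toS, sub_eq_zero]
      rfl
    obtain ⟨l, hl⟩ := mem_iSup_torsionBy.1 ((ker_rho _ hV.1).le (LinearMap.mem_ker.2 h1))
    refine sub_eq_zero.1 (eq_zero_of_forall hx _ fun j => ?_)
    set Z : Ideal A := LinearMap.ker (LinearMap.toSpanSingleton A _ (g • s n - toS _ U (π n c))) with hZ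
    have hrad : a ≤ Z.radical := by
      rw [Ideal.radical_eq_sInf]
      refine le_sInf fun P ⟨hP, hPp⟩ => ?_
      haveI := hPp
      by_contra haP
      have hIP : I ≤ P := Ideal.IsPrime.le_of_pow_le fun r hr => hP (secMap_quot_eq_zero n M U _ hr)
      have hbP : ¬ b ≤ P := (FormalCohH7.mem_punctured_iff b (⟨P, hPp⟩ : Spec (CommRingCat.of A))).1
        (hV.2 ⟨P, hPp⟩ ((FormalCohH7.mem_punctured_iff a _).2 haP) ((PrimeSpectrum.mem_zeroLocus _ _).2 hIP))
      exact hbP (Ideal.IsPrime.le_of_pow_le (fun r hr => hP (hl r hr)))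
    exact hrad (hx ▸ Ideal.subset_span ⟨j, rfl⟩)
  have h0 : toS _ U (π n (g * e n i - x i ^ k n * c)) = 0 := by
    rw [map_sub, map_sub, ← smul_eq_mul, ← smul_eq_mul, map_smul, map_smul, map_smul, map_smul,
      show toS _ U (π n (e n i)) = x i ^ k n • s n from (hs n i).symm, smul_comm, hd, sub_self]
  obtain ⟨p, hp⟩ := mem_powTors_iff.1 ((toS_eq_zero_iff a _).1 h0)
  refine ⟨p, (hπ n _).1 ?_⟩
  rw [← smul_eq_mul, map_smul]
  exact hp _ (Ideal.pow_mem_pow (hx ▸ Ideal.subset_span ⟨i, rfl⟩) p)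

/-- What vanishes formally vanishes near each point of `V(I)`. -/
theorem exists_kill_formal (hN : N ≤ nilradical A) (q : PrimeSpectrum A) (hIq : I ≤ q.asIdeal) (i₀ : ι)
    (hi₀ : x i₀ ∉ q.asIdeal) :
    ∃ h : A, h ∉ q.asIdeal ∧ ∀ b : A, (∀ n (i : ι), ∃ p : ℕ, x i ^ p * b ∈ I ^ (n + 1) ⊔ N) → h * b ∈ N := by
  classical
  let K : Ideal A :=
    { carrier := {b | ∀ n (i : ι), ∃ p : ℕ, x i ^ p * b ∈ I ^ (n + 1) ⊔ N}
      add_mem' := fun {b c} hb hc n i => by
        obtain ⟨p, hp⟩ := hb n i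
        obtain ⟨p', hp'⟩ := hc n i
        refine ⟨p + p', ?_⟩
        rw [show x i ^ (p + p') * (b + c) = x i ^ p' * (x i ^ p * b) + x i ^ p * (x i ^ p' * c) by ring]
        exact add_mem (Ideal.mul_mem_left _ _ hp) (Ideal.mul_mem_left _ _ hp')
      zero_mem' := fun n i => ⟨0, by simp⟩
      smul_mem' := fun c b hb n i => by
        obtain ⟨p, hp⟩ := hb n i
        exact ⟨p, by rw [smul_eq_mul, mul_left_comm]; exact Ideal.mul_mem_left _ _ hp⟩ }
  let f := Ideal.Quotient.mk N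
  have hNq : N ≤ q.asIdeal := hN.trans (nilradical_le_prime _)
  let q' : Ideal (A ⧸ N) := q.asIdeal.map f
  have hq' : q'.comap f = q.asIdeal := by
    rw [Ideal.comap_map_of_surjective f Ideal.Quotient.mk_surjective, ← RingHom.ker_eq_comap_bot, Ideal.mk_ker, sup_eq_left.2 hNq]
  haveI : q'.IsPrime := Ideal.map_isPrime_of_surjective Ideal.Quotient.mk_surjective
    (by rwa [Ideal.mk_ker])
  let R := Localization.AtPrime q'
  have hout : ∀ {z : A}, z ∉ q.asIdeal → f z ∈ q'.primeCompl := fun {z} hz h => hz (hq' ▸ h)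
  have hz : ∀ b ∈ K, ∃ c ∉ q.asIdeal, c * b ∈ N := fun b hb => by
    have hmem : algebraMap (A ⧸ N) R (f b) ∈ ⨅ n : ℕ, IsLocalRing.maximalIdeal R ^ n := by
      refine Ideal.mem_iInf.2 fun n => ?_
      obtain ⟨p, hp⟩ := hb n i₀
      have hu : IsUnit (algebraMap (A ⧸ N) R (f (x i₀ ^ p))) :=
        IsLocalization.map_units (M := q'.primeCompl) _ ⟨_, hout fun h => hi₀ (q.isPrime.mem_of_pow_mem p h)⟩
      rw [← Ideal.unit_mul_mem_iff_mem _ hu, ← map_mul, ← map_mul]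
      have h1 : f (x i₀ ^ p * b) ∈ q' ^ (n + 1) := by
        have h2 := Ideal.mem_map_of_mem f hp
        rw [Ideal.map_sup, Ideal.map_quotient_self, sup_bot_eq, Ideal.map_pow] at h2
        exact Ideal.pow_right_mono (Ideal.map_mono hIq) _ h2
      have h3 := Ideal.mem_map_of_mem (algebraMap (A ⧸ N) R) h1
      rw [Ideal.map_pow, Localization.AtPrime.map_eq_maximalIdeal] at h3
      exact Ideal.pow_le_pow_right (Nat.le_succ n) h3
    rw [Ideal.iInf_pow_eq_bot_of_isLocalRing _ (IsLocalRing.maximalIdeal.isMaximal _).ne_top, Submodule.mem_bot] at hmem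
    obtain ⟨⟨c, hc⟩, h0⟩ := (IsLocalization.map_eq_zero_iff q'.primeCompl R _).1 hmem
    obtain ⟨c, rfl⟩ := Ideal.Quotient.mk_surjective c
    exact ⟨c, fun h => hc (Ideal.mem_map_of_mem f h), Ideal.Quotient.eq_zero_iff_mem.1 (by rw [map_mul]; exact h0)⟩
  obtain ⟨s, hs⟩ := IsNoetherian.noetherian K
  choose c hc h0 using fun b : s => hz b (hs ▸ Submodule.subset_span b.2)
  refine ⟨∏ b : s, c b, fun h => ?_, fun b hb => ?_⟩
  · obtain ⟨b, -, hb⟩ := (Ideal.IsPrime.prod_mem_iff (hp := q.isPrime)).1 h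
    exact hc b hb
  · have hle : K ≤ Submodule.comap (LinearMap.mulLeft A (∏ b : s, c b)) N := by
      rw [← hs, Submodule.span_le]
      intro b hb
      show (∏ b : s, c b) * b ∈ N
      rw [← Finset.prod_erase_mul _ _ (Finset.mem_univ (⟨b, hb⟩ : s)), mul_assoc]
      exact Ideal.mul_mem_left _ _ (h0 ⟨b, hb⟩)
    exact hle hb

set_option maxHeartbeats 800000 in
/-- A partition of `V(I) ∖ V(a)` extends to a neighbourhood. -/
theorem exists_partition_nhd [Finite ι] (hx : Ideal.span (Set.range x) = a) (hN : N ≤ nilradical A)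
    (hb : GColimSurj I (A ⧸ N) (LocCoh.puncturedOpen A a))
    {O O' : Set (PrimeSpectrum A)} (hO : IsOpen O) (hO' : IsOpen O')
    (h : ∀ P : PrimeSpectrum A, I ≤ P.asIdeal → ¬ a ≤ P.asIdeal → (P ∈ O' ↔ P ∉ O)) :
    ∃ D D' : Set (PrimeSpectrum A), IsOpen D ∧ IsOpen D' ∧ Disjoint D D' ∧
      ∀ P : PrimeSpectrum A, I ≤ P.asIdeal → ¬ a ≤ P.asIdeal → (P ∈ D ∨ P ∈ D') ∧ (P ∈ D ↔ P ∈ O) := by
  have hax : ∀ P : PrimeSpectrum A, (∃ i, x i ∉ P.asIdeal) ↔ ¬ a ≤ P.asIdeal := fun P => by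
    rw [← hx, Ideal.span_le]
    simp only [Set.range_subset_iff, SetLike.mem_coe, not_forall]
  set J : ℕ → Ideal A := fun n => I ^ (n + 1) ⊔ N with hJ
  have hNP : ∀ P : PrimeSpectrum A, N ≤ P.asIdeal := fun P => hN.trans (nilradical_le_prime _)
  have hIq : ∀ (n : ℕ) (P : PrimeSpectrum A), J n ≤ P.asIdeal ↔ I ≤ P.asIdeal := fun n P =>
    ⟨fun hP => P.isPrime.le_of_pow_le (le_sup_left.trans hP),
      fun hP => sup_le ((Ideal.pow_le_self n.succ_ne_zero).trans hP) (hNP P)⟩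
  have hex : ∀ n, ∃ (k : ℕ) (m : ι → A), (∀ i j, x j ^ k * m i - x i ^ k * m j ∈ J n) ∧
      (∀ i, m i * m i - x i ^ k * m i ∈ J n) ∧
      ∀ (i : ι) (P : PrimeSpectrum A), J n ≤ P.asIdeal → x i ∉ P.asIdeal → (P ∈ O ↔ m i ∉ P.asIdeal) := fun n => by
    obtain ⟨k, m, h1, h2, h3⟩ := Pur25.exists_fam_idem (A := A) (B := A) x (J n) hO hO' fun P hP hP' =>
      h P ((hIq n P).1 hP) ((hax P).1 (by simpa using hP'))
    exact ⟨k, m, by simpa using h1, by simpa using h2, by simpa using h3⟩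
  choose k m hm hmm hmO using hex
  have hcomp : ∀ n (i : ι), ∃ p : ℕ, x i ^ p * (x i ^ k n * m (n + 1) i - x i ^ k (n + 1) * m n i) ∈ J n := by
    intro n i
    let Y := x i ^ (k n + k (n + 1) + 1)
    let u := x i ^ (k (n + 1) + 1) * m n i
    let v := x i ^ (k n + 1) * m (n + 1) i
    have hsub : J (n + 1) ≤ J n := sup_le_sup_right (Ideal.pow_le_pow_right (by omega)) N
    obtain ⟨Q, hQ⟩ := Pur25.sat_sub_of_agree (J n) Y v u
      ⟨0, by
        rw [pow_zero, one_mul, show v * v - Y * v = x i ^ (2 * (k n + 1)) *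
          (m (n + 1) i * m (n + 1) i - x i ^ k (n + 1) * m (n + 1) i) by simp only [v, Y]; ring]
        exact Ideal.mul_mem_left _ _ (hsub (hmm (n + 1) i))⟩
      ⟨0, by
        rw [pow_zero, one_mul, show u * u - Y * u = x i ^ (2 * (k (n + 1) + 1)) *
          (m n i * m n i - x i ^ k n * m n i) by simp only [u, Y]; ring]
        exact Ideal.mul_mem_left _ _ (hmm n i)⟩
      (fun P hP hYP => by
        have hxi : x i ∉ P.asIdeal := fun hx' => hYP (P.asIdeal.pow_mem_of_mem hx' _ (Nat.succ_pos _))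
        have h1 := hmO n i P hP hxi
        have h2 := hmO (n + 1) i P ((hIq (n + 1) P).2 ((hIq n P).1 hP)) hxi
        have key : ∀ (d : ℕ) (w : A), (x i ^ d * w ∈ P.asIdeal ↔ w ∈ P.asIdeal) := fun d w =>
          ⟨fun h => (P.isPrime.mem_or_mem h).resolve_left fun h' => hxi (P.isPrime.mem_of_pow_mem _ h'),
            fun h => P.asIdeal.mul_mem_left _ h⟩
        rw [key, key]
        exact not_iff_not.1 (h2.symm.trans h1))
    refine ⟨(k n + k (n + 1) + 1) * Q + 1, ?_⟩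
    convert hQ using 1
    simp only [Y, u, v]
    ring
  let T := {q : PrimeSpectrum A // I ≤ q.asIdeal ∧ ¬ a ≤ q.asIdeal}
  choose g hg b hb' using fun σ : T => exists_near_family hx hb σ.1 σ.2.1 σ.2.2 k m hm hcomp
  choose c hc hcK using fun σ : T =>
    exists_kill_formal (x := x) (I := I) hN σ.1 σ.2.1 ((hax σ.1).2 σ.2.2).choose ((hax σ.1).2 σ.2.2).choose_spec
  have hz : ∀ ρ σ σ' (P : PrimeSpectrum A), c ρ * (b σ * b σ' - g σ * b σ') ∈ P.asIdeal := by
    intro ρ σ σ' P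
    refine hNP P (hcK ρ _ fun n i => ?_)
    obtain ⟨p, hp⟩ := hb' σ n i
    obtain ⟨p', hp'⟩ := hb' σ' n i
    refine ⟨p + p' + 2 * k n, ?_⟩
    rw [show x i ^ (p + p' + 2 * k n) * (b σ * b σ' - g σ * b σ') =
      -(x i ^ p' * x i ^ k n * b σ') * (x i ^ p * (g σ * m n i - x i ^ k n * b σ)) -
        (x i ^ p * g σ * (m n i - x i ^ k n)) * (x i ^ p' * (g σ' * m n i - x i ^ k n * b σ')) +
        (x i ^ (p + p') * g σ * g σ') * (m n i * m n i - x i ^ k n * m n i) by ring]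
    exact add_mem (sub_mem (Ideal.mul_mem_left _ _ hp) (Ideal.mul_mem_left _ _ hp'))
      (Ideal.mul_mem_left _ _ (hmm n i))
  let f : T → A := fun σ => c σ * g σ
  have hcases : ∀ σ (P : PrimeSpectrum A), f σ ∉ P.asIdeal → b σ ∈ P.asIdeal ∨ b σ - g σ ∈ P.asIdeal :=
    fun σ P hP => P.isPrime.mem_or_mem (((P.isPrime.mem_or_mem (hz σ σ σ P)).resolve_left
      fun h' => hP (P.asIdeal.mul_mem_right _ h')) |> fun h' => by
        convert h' using 1; ring)
  have hswitch : ∀ σ σ' (P : PrimeSpectrum A), f σ ∉ P.asIdeal → b σ ∈ P.asIdeal → b σ' ∈ P.asIdeal :=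
    fun σ σ' P hP hσ => by
      have h3 := (P.isPrime.mem_or_mem (hz σ σ σ' P)).resolve_left fun h' => hP (P.asIdeal.mul_mem_right _ h')
      exact (P.isPrime.mem_or_mem ((Submodule.sub_mem_iff_right _ (P.asIdeal.mul_mem_right _ hσ)).1 h3)).resolve_left
        fun h' => hP (P.asIdeal.mul_mem_left _ h')
  refine ⟨⋃ σ : T, (PrimeSpectrum.basicOpen (f σ * b σ) : Set (PrimeSpectrum A)),
    ⋃ σ : T, (PrimeSpectrum.basicOpen (f σ * (b σ - g σ)) : Set (PrimeSpectrum A)),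
    isOpen_iUnion fun _ => (PrimeSpectrum.basicOpen _).2, isOpen_iUnion fun _ => (PrimeSpectrum.basicOpen _).2,
    Set.disjoint_left.2 fun P h1 h2 => ?_, fun P hPI hPa => ?_⟩
  · obtain ⟨σ, hσ⟩ := Set.mem_iUnion.1 h1
    obtain ⟨σ', hσ'⟩ := Set.mem_iUnion.1 h2
    have e2 : f σ' ∉ P.asIdeal := fun h => hσ' (P.asIdeal.mul_mem_right _ h)
    exact hσ (P.asIdeal.mul_mem_left _ (hswitch σ' σ P e2
      ((hcases σ' P e2).resolve_right fun h4 => hσ' (P.asIdeal.mul_mem_left _ h4))))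
  · have hiff : ∀ σ, f σ ∉ P.asIdeal → (b σ ∈ P.asIdeal ↔ P ∉ O) := fun σ hσ => by
      obtain ⟨i, hi⟩ := (hax P).2 hPa
      rw [hmO 0 i P ((hIq 0 P).2 hPI) hi, not_not]
      obtain ⟨d, hd⟩ := hb' σ 0 i
      have h3 : g σ * m 0 i - x i ^ k 0 * b σ ∈ P.asIdeal :=
        (P.isPrime.mem_or_mem ((hIq 0 P).2 hPI hd)).resolve_left fun h => hi (P.isPrime.mem_of_pow_mem _ h)
      exact ⟨fun h2 => (P.isPrime.mem_or_mem ((Submodule.sub_mem_iff_left _ (P.asIdeal.mul_mem_left _ h2)).1 h3)).resolve_left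
          fun h' => hσ (P.asIdeal.mul_mem_left _ h'),
        fun h2 => (P.isPrime.mem_or_mem ((Submodule.sub_mem_iff_right _ (P.asIdeal.mul_mem_left _ h2)).1 h3)).resolve_left
          fun h => hi (P.isPrime.mem_of_pow_mem _ h)⟩
    let σ : T := ⟨P, hPI, hPa⟩
    have h1 : f σ ∉ P.asIdeal := fun h' => (P.isPrime.mem_or_mem h').elim (hc σ) (hg σ)
    have hmem : b σ ∉ P.asIdeal → P ∈ ⋃ σ : T, (PrimeSpectrum.basicOpen (f σ * b σ) : Set (PrimeSpectrum A)) :=
      fun h2 => Set.mem_iUnion.2 ⟨σ, P.isPrime.mul_notMem h1 h2⟩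
    refine ⟨?_, ⟨fun hD => ?_, fun hPO => hmem fun h2 => (hiff σ h1).1 h2 hPO⟩⟩
    · by_cases h2 : b σ ∈ P.asIdeal
      · refine Or.inr (Set.mem_iUnion.2 ⟨σ, P.isPrime.mul_notMem h1 fun h4 => hg σ ?_⟩)
        simpa using P.asIdeal.sub_mem h2 h4
      · exact Or.inl (hmem h2)
    · obtain ⟨ρ, hρ⟩ := Set.mem_iUnion.1 hD
      by_contra hPO
      exact hρ (P.asIdeal.mul_mem_left _ ((hiff ρ fun h => hρ (P.asIdeal.mul_mem_right _ h)).2 hPO))

end Groth.Agent.FormalColim28
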