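import Groth.Agent.Lib.FormalCohH7.Opens

/-!
# The map from sections on the punctured spectrum to `H^1`, naturally
-/

set_option autoImplicit false
set_option backward.isDefEq.respectTransparency false
set_option linter.style.haveILetI false

universe u

open CategoryTheory Limits AlgebraicGeometry TopologicalSpace Opposite

noncomputable section

namespace Groth.Agent.FormalColim28

open Groth.Agent.LocCohSheafLib Groth.Agent.LocCohLib Groth.Agent.InjHullLib Groth.Agent.FormalCohH7

variable {A : Type u} [CommRing A] (a : Ideal A)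

theorem δ_natural {B C D B' C' D' : Type u} [AddCommGroup B] [Module A B] [AddCommGroup C] [Module A C]
    [AddCommGroup D] [Module A D] [AddCommGroup B'] [Module A B'] [AddCommGroup C'] [Module A C']
    [AddCommGroup D'] [Module A D'] {f : B →ₗ[A] C} {g : C →ₗ[A] D} {f' : B' →ₗ[A] C'} {g' : C' →ₗ[A] D'}
    (hf : Function.Injective f) (hg : Function.Surjective g) (hfg : Function.Exact f g)
    (hf' : Function.Injective f') (hg' : Function.Surjective g') (hfg' : Function.Exact f' g')
    (u : B →ₗ[A] B') (v : C →ₗ[A] C') (w : D →ₗ[A] D') (h1 : f' ∘ₗ u = v ∘ₗ f) (h2 : g' ∘ₗ v = w ∘ₗ g)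
    (i : ℕ) (x : LocCoh.H a i D) :
    hmap a (i + 1) u (δ a i (shortExact_mk f g hf hg hfg) x) =
      δ a i (shortExact_mk f' g' hf' hg' hfg') (hmap a i w x) := by
  have hS := shortExact_mk f g hf hg hfg
  have hS' := shortExact_mk f' g' hf' hg' hfg'
  let φ : ShortComplex.moduleCatMk f g hfg.linearMap_comp_eq_zero ⟶
      ShortComplex.moduleCatMk f' g' hfg'.linearMap_comp_eq_zero :=
    { τ₁ := ModuleCat.ofHom u
      τ₂ := ModuleCat.ofHom v
      τ₃ := ModuleCat.ofHom w
      comm₁₂ := congrArg ModuleCat.ofHom h1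
      comm₂₃ := congrArg ModuleCat.ofHom h2 }
  have hn := CategoryTheory.ShortComplex.ShortExact.extClass_naturality hS hS' φ
  obtain ⟨n, y, rfl⟩ := exists_ι a i _ x
  unfold hmap
  erw [δ_ι, map_ι, map_ι, δ_ι]
  refine congrArg _ ?_
  rw [Abelian.Ext.comp_assoc _ _ _ rfl (add_zero 1) (by omega),
    Abelian.Ext.comp_assoc _ _ _ (add_zero i) (zero_add 1) (by omega)]
  exact congrArg (fun e => y.comp e rfl) hn

variable (C : Type u) [AddCommGroup C] [Module A C]

/-- Sections on the punctured spectrum. -/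
abbrev S := Sec C (LocCoh.puncturedOpen A a)

/-- The image of `C` in the sections. -/
abbrev img : Submodule A (S a C) := LinearMap.range (toS C (LocCoh.puncturedOpen A a))

/-- Sections modulo global elements. -/
abbrev Q := S a C ⧸ img a C

variable {C} {C' : Type u} [AddCommGroup C'] [Module A C']

/-- Functoriality of the image. -/
def imgMap (φ : C →ₗ[A] C') : img a C →ₗ[A] img a C' :=
  (secMap φ (LocCoh.puncturedOpen A a)).restrict (p := img a C) (q := img a C')
    (by rintro _ ⟨c, rfl⟩; exact ⟨φ c, (secMap_toS φ _ c).symm⟩)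

/-- Functoriality of the cokernel. -/
def qMap (φ : C →ₗ[A] C') : Q a C →ₗ[A] Q a C' :=
  Submodule.mapQ _ _ (secMap φ (LocCoh.puncturedOpen A a))
    (by rintro _ ⟨c, rfl⟩; exact ⟨φ c, (secMap_toS φ _ c).symm⟩)

variable [IsNoetherianRing A]

theorem isPowerTorsion_Q : LocCoh.IsPowerTorsion a (Q a C) := fun x => by
  obtain ⟨s, rfl⟩ := Submodule.Quotient.mk_surjective _ x
  obtain ⟨n, hn⟩ := exists_pow_smul_eq_toS a s
  refine ⟨n, fun r hr => ?_⟩
  rw [← Submodule.Quotient.mk_smul, Submodule.Quotient.mk_eq_zero]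
  exact hn r hr

theorem subsingleton_S_of_isPowerTorsion (hC : LocCoh.IsPowerTorsion a C) : Subsingleton (S a C) := by
  refine subsingleton_of_forall_eq 0 fun s => ?_
  obtain ⟨n, hn⟩ := exists_pow_smul_eq_toS a s
  refine eq_zero_of_pow_smul a s n fun r hr => ?_
  obtain ⟨c, hc⟩ := hn r hr
  rw [← hc, toS_eq_zero_iff]
  exact mem_powTors_iff.2 (hC c)

theorem subsingleton_G_of_isPowerTorsion (hC : LocCoh.IsPowerTorsion a C) :
    Subsingleton (G (A := A) C 1 (LocCoh.puncturedOpen A a)) := by
  have h : Subsingleton (LocCoh.H a 2 C) := subsingleton_of_isPowerTorsion (I := a) 1 C hC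
  refine subsingleton_of_forall_eq 0 fun x => ?_
  have := gmap_smul_eq_zero a 1 0 C (fun y => h.elim _ _) x
  rwa [one_smul, gmap_id] at this

theorem bijective_secMap_of_torsion {φ : C →ₗ[A] C'} (hK : LocCoh.IsPowerTorsion a (LinearMap.ker φ))
    (hQ : LocCoh.IsPowerTorsion a (C' ⧸ LinearMap.range φ)) :
    Function.Bijective (secMap φ (LocCoh.puncturedOpen A a)) := by
  let V := LocCoh.puncturedOpen A a
  haveI := subsingleton_S_of_isPowerTorsion a hK
  haveI := subsingleton_S_of_isPowerTorsion a hQ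
  have h1 := (gmap_bijective_of_subsingleton (f := (LinearMap.ker φ).subtype) (g := φ.rangeRestrict)
    (Submodule.injective_subtype _) φ.surjective_rangeRestrict
    (LinearMap.exact_iff.2 (by rw [LinearMap.ker_rangeRestrict, Submodule.range_subtype])) V).1
    ((g0 _ V).toEquiv.subsingleton_congr.2 inferInstance) (subsingleton_G_of_isPowerTorsion a hK)
  have h2 := (gmap_bijective_of_subsingleton (f := (LinearMap.range φ).subtype) (g := (LinearMap.range φ).mkQ)
    (Submodule.injective_subtype _) (Submodule.mkQ_surjective _) (LinearMap.exact_subtype_mkQ _) V).2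
    ((g0 _ V).toEquiv.subsingleton_congr.2 inferInstance)
  have h : ⇑(gmap φ 0 V) = gmap (LinearMap.range φ).subtype 0 _ ∘ gmap φ.rangeRestrict 0 _ := funext fun x => by
    rw [Function.comp_apply, ← gmap_comp,
      show (LinearMap.range φ).subtype ∘ₗ φ.rangeRestrict = φ from LinearMap.ext fun _ => rfl]
  have hb : Function.Bijective (gmap φ 0 V) := h ▸ h2.comp h1
  have e : ⇑(secMap φ V) = (g0 C' V) ∘ gmap φ 0 V ∘ (g0 C V).symm := funext fun s => by
    rw [Function.comp_apply, Function.comp_apply, g0_gmap, AddEquiv.apply_symm_apply]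
  rw [e]
  exact (g0 C' V).bijective.comp (hb.comp (g0 C V).symm.bijective)

theorem subsingleton_H_zero_S : Subsingleton (LocCoh.H a 0 (S a C)) := by
  rw [subsingleton_zero_iff, Submodule.eq_bot_iff]
  intro s hs
  obtain ⟨n, hn⟩ := mem_powTors_iff.1 hs
  exact eq_zero_of_pow_smul a s n hn

theorem subsingleton_H_one_S : Subsingleton (LocCoh.H a 1 (S a C)) := by
  let V := LocCoh.puncturedOpen A a
  let ι := toS C V
  have hb : Function.Bijective (secMap ι V) := by
    refine bijective_secMap_of_torsion a (fun x => ?_) (isPowerTorsion_Q a)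
    obtain ⟨n, hn⟩ := mem_powTors_iff.1 ((toS_eq_zero_iff a x.1).1 x.2)
    exact ⟨n, fun r hr => Subtype.ext (hn r hr)⟩
  have hs : LinearMap.range (toS (S a C) V) = ⊤ := by
    rw [LinearMap.range_eq_top]
    intro y
    obtain ⟨s, rfl⟩ := hb.2 y
    refine ⟨s, sub_eq_zero.1 ?_⟩
    obtain ⟨n, hn⟩ := exists_pow_smul_eq_toS a s
    refine eq_zero_of_pow_smul a _ n fun r hr => ?_
    obtain ⟨c, hc⟩ := hn r hr
    rw [smul_sub, ← map_smul, ← map_smul, ← hc, secMap_toS, sub_self]
  obtain ⟨e⟩ := nonempty_coker_toS_equiv a (S a C)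
  haveI : Subsingleton (Sec (S a C) V ⧸ LinearMap.range (toS (S a C) V)) :=
    Submodule.Quotient.subsingleton_iff.2 hs
  exact e.symm.toEquiv.subsingleton

theorem bijective_hmap_toImg :
    Function.Bijective (hmap a 1 (toS C (LocCoh.puncturedOpen A a)).rangeRestrict) := by
  let q := (toS C (LocCoh.puncturedOpen A a)).rangeRestrict
  let K := LinearMap.ker (toS C (LocCoh.puncturedOpen A a))
  have hK : LocCoh.IsPowerTorsion a K := fun x => by
    obtain ⟨n, hn⟩ := mem_powTors_iff.1 ((toS_eq_zero_iff a x.1).1 x.2)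
    exact ⟨n, fun r hr => Subtype.ext (hn r hr)⟩
  have hex : Function.Exact K.subtype q :=
    LinearMap.exact_iff.2 (by rw [LinearMap.ker_rangeRestrict, Submodule.range_subtype])
  have hS := shortExact_mk K.subtype q K.injective_subtype (LinearMap.surjective_rangeRestrict _) hex
  refine ⟨(injective_iff_map_eq_zero _).2 fun x hx => ?_,
    hmap_g_surjective a K.injective_subtype (LinearMap.surjective_rangeRestrict _) hex 1
      (subsingleton_of_isPowerTorsion (I := a) 1 K hK)⟩
  obtain ⟨y, rfl⟩ := (exact_map_map a 1 hS x).1 hx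
  exact (congrArg _ ((subsingleton_of_isPowerTorsion (I := a) 0 K hK).elim y 0)).trans (map_zero _)

variable (C) in
/-- `H^1_a(C)` against `H^1_a` of the image. -/
def h1Img : LocCoh.H a 1 C ≃ₗ[A] LocCoh.H a 1 (img a C) :=
  LinearEquiv.ofBijective _ (bijective_hmap_toImg a)

variable (C) in
theorem shortExact_sections :
    (ShortComplex.moduleCatMk (img a C).subtype (img a C).mkQ
      (LinearMap.exact_subtype_mkQ (img a C)).linearMap_comp_eq_zero).ShortExact :=
  shortExact_mk (img a C).subtype (img a C).mkQ (img a C).injective_subtype (img a C).mkQ_surjective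
    (LinearMap.exact_subtype_mkQ _)

variable (C) in
/-- The connecting map. -/
def dl : S a C →ₗ[A] LocCoh.H a 1 C :=
  (h1Img a C).symm.toLinearMap ∘ₗ δ a 0 (shortExact_sections a C) ∘ₗ (zeroEquiv a (Q a C)).symm.toLinearMap ∘ₗ
    LinearMap.codRestrict (powTors a (Q a C)) (img a C).mkQ fun s => mem_powTors_iff.2 (isPowerTorsion_Q a _)

theorem h1Img_dl (s : S a C) : h1Img a C (dl a C s) = δ a 0 (shortExact_sections a C)
    ((zeroEquiv a (Q a C)).symm ⟨(img a C).mkQ s, mem_powTors_iff.2 (isPowerTorsion_Q a _)⟩) :=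
  (h1Img a C).apply_symm_apply _

theorem zeroMap_symm {M : Type u} [AddCommGroup M] [Module A M] (z : powTors a M) :
    zeroMap a M ((zeroEquiv a M).symm z) = z.1 :=
  congrArg Subtype.val ((zeroEquiv a M).apply_symm_apply z)

theorem dl_natural (φ : C →ₗ[A] C') (s : S a C) :
    dl a C' (secMap φ (LocCoh.puncturedOpen A a) s) = hmap a 1 φ (dl a C s) := by
  apply (h1Img a C').injective
  have h1 : hmap a 1 (imgMap a φ) (h1Img a C (dl a C s)) = h1Img a C' (hmap a 1 φ (dl a C s)) := by
    show (hmap a 1 (imgMap a φ) ∘ₗ hmap a 1 (toS C (LocCoh.puncturedOpen A a)).rangeRestrict) _ =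
      (hmap a 1 (toS C' (LocCoh.puncturedOpen A a)).rangeRestrict ∘ₗ hmap a 1 φ) _
    rw [← hmap_comp, ← hmap_comp]
    congr 2
    exact LinearMap.ext fun c => Subtype.ext (secMap_toS φ _ c)
  rw [← h1, h1Img_dl, h1Img_dl,
    δ_natural a (img a C).injective_subtype (img a C).mkQ_surjective (LinearMap.exact_subtype_mkQ _)
      (img a C').injective_subtype (img a C').mkQ_surjective (LinearMap.exact_subtype_mkQ _)
      (imgMap a φ) (secMap φ _) (qMap a φ) rfl rfl 0]
  refine congrArg (δ a 0 (shortExact_sections a C')) (zeroMap_injective a _ ?_)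
  rw [zeroMap_symm]
  refine Eq.symm ((zeroMap_natural a (qMap a φ) _).trans ?_)
  rw [zeroMap_symm]
  rfl

theorem dl_eq_zero_iff (s : S a C) : dl a C s = 0 ↔ s ∈ img a C := by
  rw [← map_eq_zero_iff _ (h1Img a C).injective, h1Img_dl]
  constructor
  · intro h
    obtain ⟨y, hy⟩ := (exact_map_δ a 0 (shortExact_sections a C) _).1 h
    rw [(subsingleton_H_zero_S (C := C) a).elim y 0, map_zero] at hy
    have := congrArg (zeroMap a (Q a C)) hy.symm
    rw [zeroMap_symm, map_zero] at this
    exact (Submodule.Quotient.mk_eq_zero _).1 this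
  · intro h
    have : (⟨(img a C).mkQ s, mem_powTors_iff.2 (isPowerTorsion_Q a _)⟩ : powTors a (Q a C)) = 0 :=
      Subtype.ext ((Submodule.Quotient.mk_eq_zero _).2 h)
    rw [this]; exact (congrArg _ (LinearEquiv.map_zero _)).trans (LinearMap.map_zero _)

theorem dl_surjective : Function.Surjective (dl a C) := fun x => by
  obtain ⟨y, hy⟩ := (exact_δ_map a 0 (shortExact_sections a C) (h1Img a C x)).1
    ((subsingleton_H_one_S (C := C) a).elim _ _)
  obtain ⟨s, hs⟩ := Submodule.Quotient.mk_surjective _ (zeroMap a (Q a C) y)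
  refine ⟨s, (h1Img a C).injective ?_⟩
  rw [h1Img_dl, ← hy]
  refine congrArg (δ a 0 (shortExact_sections a C)) (zeroMap_injective a _ ?_)
  rw [zeroMap_symm]
  exact hs

end Groth.Agent.FormalColim28
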