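import Groth.Agent.Lib.FormalColim28.FlatThick
import Groth.Agent.Lib.Algz27.Completion27
import Groth.Agent.Lib.ComplFormalH7.FreeLevels

/-!
# Coherent formal modules and flat morphisms which are isomorphisms on the closed fibre
-/

set_option autoImplicit false
set_option linter.style.haveILetI false
set_option backward.isDefEq.respectTransparency false
set_option backward.isDefEq.respectTransparency.types false

universe u

open CategoryTheory CategoryTheory.Limits AlgebraicGeometry Opposite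

noncomputable section

namespace Groth.Agent.FlatThick28

open Groth.Agent Groth.Agent.FormalH7 Groth.Agent.GExistH7

variable {A : Type u} [CommRing A] (I : Ideal A) {X X' : Scheme.{u}}
  [X.Over (Spec (CommRingCat.of A))] [X'.Over (Spec (CommRingCat.of A))]
  [IsNoetherian X] [IsNoetherian X'] (f : X' ⟶ X) [Flat f]
  (hf : f ≫ (X ↘ Spec (CommRingCat.of A)) = X' ↘ Spec (CommRingCat.of A))
  (hZ : IsIso (fn I f hf 0))

theorem killedBy_of_le {m n : ℕ} (h : m ≤ n) {M : X.Modules} (hM : Formal.KilledBy (I ^ (m + 1)) M) :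
    Formal.KilledBy (I ^ (n + 1)) M :=
  killedBy_mono (Ideal.pow_le_pow_right (by omega)) hM

include hf hZ in
theorem whiskerRight_bijective (G₁ G₂ : ℕᵒᵖ ⥤ X.Modules) (h₁ : Formal.IsCohFormal I G₁)
    (h₂ : Formal.IsCohFormal I G₂) :
    Function.Bijective fun φ : G₁ ⟶ G₂ => Functor.whiskerRight φ (Scheme.Modules.pullback f) := by
  have hb := fun (x y : ℕᵒᵖ) (k : ℕ) (hx : x.unop ≤ k) (hy : y.unop ≤ k) =>
    pullback_bijective I f hf hZ k (h₁.1 x.unop).1 (killedBy_of_le I hx (h₁.2.1 x.unop))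
      (h₂.1 y.unop).1 (killedBy_of_le I hy (h₂.2.1 y.unop))
  refine ⟨fun φ ψ h => NatTrans.ext (funext fun x => (hb x x x.unop le_rfl le_rfl).1 ?_), fun ψ => ?_⟩
  · exact congrArg (fun α => α.app x) h
  choose φ hφ using fun x : ℕᵒᵖ => (hb x x x.unop le_rfl le_rfl).2 (ψ.app x)
  simp only at hφ
  refine ⟨{ app := φ, naturality := fun x y g => (hb x y x.unop le_rfl (leOfHom g.unop)).1 ?_ },
    NatTrans.ext (funext hφ)⟩
  show (Scheme.Modules.pullback f).map (G₁.map g ≫ φ y) = (Scheme.Modules.pullback f).map (φ x ≫ G₂.map g)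
  rw [Functor.map_comp, Functor.map_comp, hφ y, hφ x]
  exact ψ.naturality g

include hf hZ in
theorem exists_formal_preimage (G' : ℕᵒᵖ ⥤ X'.Modules) (hG' : Formal.IsCohFormal I G') :
    ∃ G : ℕᵒᵖ ⥤ X.Modules, Formal.IsCohFormal I G ∧ Nonempty (G ⋙ Scheme.Modules.pullback f ≅ G') := by
  let P := Scheme.Modules.pullback f
  choose N hN hk he using fun x : ℕᵒᵖ => exists_preimage I f hf hZ x.unop (G'.obj x) (hG'.1 x.unop) (hG'.2.1 x.unop)
  let e : ∀ x, P.obj (N x) ≅ G'.obj x := fun x => (he x).some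
  have hb := fun (x y : ℕᵒᵖ) (k : ℕ) (hx : x.unop ≤ k) (hy : y.unop ≤ k) =>
    pullback_bijective I f hf hZ k (hN x).1 (killedBy_of_le I hx (hk x)) (hN y).1 (killedBy_of_le I hy (hk y))
  choose t ht using fun (x y : ℕᵒᵖ) (g : x ⟶ y) =>
    (hb x y x.unop le_rfl (leOfHom g.unop)).2 ((e x).hom ≫ G'.map g ≫ (e y).inv)
  simp only at ht
  let G : ℕᵒᵖ ⥤ X.Modules :=
    { obj := N
      map := fun {x y} g => t x y g
      map_id := fun x => (hb x x x.unop le_rfl le_rfl).1 (by
        show P.map (t x x (𝟙 x)) = P.map (𝟙 (N x))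
        rw [ht, CategoryTheory.Functor.map_id, CategoryTheory.Functor.map_id, Category.id_comp, Iso.hom_inv_id])
      map_comp := fun {x y z} g g' => (hb x z x.unop le_rfl (leOfHom (g ≫ g').unop)).1 (by
        show P.map (t x z (g ≫ g')) = P.map (t x y g ≫ t y z g')
        rw [Functor.map_comp, ht, ht, ht, Functor.map_comp]
        simp only [Category.assoc, Iso.inv_hom_id_assoc]) }
  refine ⟨G, ⟨fun n => hN (op n), fun n => hk (op n), fun n => ?_⟩,
    ⟨NatIso.ofComponents e fun {x y} g => ?_⟩⟩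
  · let p : N (op (n + 1)) ⟶ N (op n) := G.map (homOfLE (Nat.le_succ n)).op
    have hp : ∀ a ∈ I ^ (n + 1), Formal.smulMod A (N (op (n + 1))) a ≫ p = 0 := fun a ha => by
      rw [smulMod_naturality, hk (op n) a ha, comp_zero]
    refine ⟨(smulFamily_comp_eq_zero_iff p).2 hp, ?_⟩
    let π := modIπ (I ^ (n + 1)) (N (op (n + 1)))
    have hπ := isQuot_modIπ (I ^ (n + 1)) (N (op (n + 1)))
    obtain ⟨w, hw⟩ := hπ.isIso_desc
    obtain ⟨w', hw'⟩ := isQuot_pullback f hf π w hw
    have hq1 : IsQuot (I ^ (n + 1)) (P.map π) := isQuot_of_isIso_desc w' hw'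
    obtain ⟨h0, hi⟩ := hG'.2.2 n
    have hq2 : IsQuot (I ^ (n + 1)) (P.map p) :=
      ((ComplFormalH7.isQuot_iso_comp (isQuot_of_isIso_desc h0 hi) (e (op (n + 1)))).comp_iso (e (op n)).symm).of_eq (by
        show _ = P.map (t _ _ _)
        rw [ht]
        simp)
    obtain ⟨d, hd⟩ := hπ.desc p hp
    obtain ⟨ε, hε⟩ := hq1.exists_iso hq2
    have hdε : P.map d = ε.hom := hq1.hom_ext (by rw [← Functor.map_comp, hd, hε])
    have hQc : Coh.IsCoh (modI (I ^ (n + 1)) (N (op (n + 1)))) := Algz27C.isCoh_modPow I (n + 1) (hN _)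
    have hQk := hπ.killed
    obtain ⟨d', hd'⟩ := (pullback_bijective I f hf hZ n (hN (op n)).1 (hk (op n)) hQc.1 hQk).2 ε.inv
    simp only at hd'
    have hiso : IsIso d := ⟨d',
      (pullback_bijective I f hf hZ n hQc.1 hQk hQc.1 hQk).1 (by
        show P.map (d ≫ d') = P.map (𝟙 _)
        rw [Functor.map_comp, hdε, hd', Iso.hom_inv_id, CategoryTheory.Functor.map_id]),
      (pullback_bijective I f hf hZ n (hN (op n)).1 (hk (op n)) (hN (op n)).1 (hk (op n))).1 (by
        show P.map (d' ≫ d) = P.map (𝟙 _)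
        rw [Functor.map_comp, hdε, hd', Iso.inv_hom_id, CategoryTheory.Functor.map_id])⟩
    have hq : IsQuot (I ^ (n + 1)) p := (hπ.comp_iso (@asIso _ _ _ _ d hiso)).of_eq hd
    exact hq.isIso_desc.choose_spec
  · show P.map (t x y g) ≫ (e y).hom = (e x).hom ≫ G'.map g
    rw [ht, Category.assoc, Category.assoc, Iso.inv_hom_id, Category.comp_id]

end Groth.Agent.FlatThick28
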