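import Groth.Agent.Lib.FormalH7.Thick
import Groth.Agent.Lib.FormalH7.ModPow
import Groth.Agent.Lib.GExistH7.Quot
import Groth.Agent.Lib.GExistH7.Pieces
import Groth.Agent.Lib.GExistH7.PullLoc
import Groth.Agent.Lib.FGA3.UnitsThick
import Groth.Agent.Lib.ProEtTop19.Section
import Groth.Agent.Lib.ModM1.ClosedImm
import Groth.Agent.Lib.CohMop.ClosedCounit
import Groth.Prelude.Def_CohB1
import Groth.Prelude.Def_Formal

/-!
# Formal modules along a flat morphism which is an isomorphism on the closed fibre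
-/

set_option autoImplicit false
set_option linter.style.haveILetI false
set_option backward.isDefEq.respectTransparency false
set_option backward.isDefEq.respectTransparency.types false

universe u

open CategoryTheory CategoryTheory.Limits AlgebraicGeometry Opposite

noncomputable section

namespace Groth.Agent.FlatThick28

open Groth.Agent Groth.Agent.FormalH7 Groth.Agent.GExistH7

variable {A : Type u} [CommRing A] (I : Ideal A) {X X' : Scheme.{u}}
  [X.Over (Spec (CommRingCat.of A))] [X'.Over (Spec (CommRingCat.of A))]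

/-- The closed immersion of a thickening of the special fibre. -/
abbrev inc (X : Scheme.{u}) [X.Over (Spec (CommRingCat.of A))] (n : ℕ) :
    pullback (X ↘ Spec (CommRingCat.of A)) (CohB1.specQuot I n) ⟶ X := pullback.fst _ _

instance isClosedImmersion_specQuot (n : ℕ) : IsClosedImmersion (CohB1.specQuot I n) :=
  IsClosedImmersion.spec_of_surjective _ Ideal.Quotient.mk_surjective

instance isClosedImmersion_inc (n : ℕ) : IsClosedImmersion (inc I X n) :=
  MorphismProperty.pullback_fst _ _ (isClosedImmersion_specQuot I n)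

theorem inc_app_mult (n : ℕ) (a : A) (ha : a ∈ I ^ (n + 1)) (U : X.Opens) :
    (inc I X n).app U (FormalH7.mult X a U) = 0 := by
  let p := X ↘ Spec (CommRingCat.of A)
  let b := (Scheme.ΓSpecIso (CommRingCat.of A)).inv a
  have h0 : (CohB1.specQuot I n).appTop b = 0 := by
    have h := ConcreteCategory.congr_hom
      (Scheme.ΓSpecIso_inv_naturality (CommRingCat.ofHom (Ideal.Quotient.mk (I ^ (n + 1))))) a
    refine h.symm.trans ?_
    show (Scheme.ΓSpecIso (CommRingCat.of (A ⧸ I ^ (n + 1)))).inv (Ideal.Quotient.mk (I ^ (n + 1)) a) = 0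
    rw [Ideal.Quotient.eq_zero_iff_mem.2 ha, map_zero]
  have h1 : (inc I X n).appTop (p.appTop b) = 0 := by
    rw [← CommRingCat.comp_apply, ← Scheme.Hom.comp_appTop,
      show inc I X n ≫ p = pullback.snd _ _ ≫ CohB1.specQuot I n from pullback.condition, Scheme.Hom.comp_appTop,
      CommRingCat.comp_apply, h0, map_zero]
  show (inc I X n).app U (X.presheaf.map (homOfLE (le_top : U ≤ ⊤)).op (p.appTop b)) = 0
  refine (NatTrans.naturality_apply (inc I X n).c (homOfLE (le_top : U ≤ ⊤)).op (p.appTop b)).trans ?_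
  exact (congrArg _ h1).trans (map_zero _)

/-- The unit at a killed quasi-coherent module is an isomorphism. -/
theorem isIso_unit (n : ℕ) (M : X.Modules) (hM : Coh.IsQCoh M) (hk : Formal.KilledBy (I ^ (n + 1)) M) :
    IsIso ((Scheme.Modules.pullbackPushforwardAdjunction (inc I X n)).unit.app M) := by
  haveI := hM
  let i := inc I X n
  refine isIso_of_cover (fun W : X.affineOpens => W.1) (fun W => W.2)
    (fun x => by
      obtain ⟨W, hW, hx, -⟩ := exists_isAffineOpen_mem_and_subset (x := x) (U := (⊤ : X.Opens)) trivial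
      exact ⟨⟨W, hW⟩, hx⟩) hM (M1.isQCoh_push i (M1.isQCoh_pullback _ hM)) _ fun W => ?_
  have happ : i.appLE W.1 (i ⁻¹ᵁ W.1) le_rfl = i.app W.1 := by simp [Scheme.Hom.appLE]
  obtain ⟨h1, h2⟩ := res'_surjective_of_surjective i M W.2 (W.2.preimage i) (le_refl (i ⁻¹ᵁ W.1))
    (by rw [happ]; exact i.app_surjective W.1 W.2)
  have hu : ∀ s, ((Scheme.Modules.pullbackPushforwardAdjunction i).unit.app M).app W.1 s =
      ModLimH13.res' i M (le_refl (i ⁻¹ᵁ W.1)) s := fun s => unit_app_eq M i s
  refine ⟨(injective_iff_map_eq_zero _).2 fun s hs => ?_, fun t => ?_⟩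
  · have h := h2 s ((hu s).symm.trans hs)
    rw [happ] at h
    refine Submodule.smul_induction_on h (fun r hr m _ => ?_) fun a b ha hb => by rw [ha, hb, add_zero]
    have hr' : r ∈ (I ^ (n + 1)).map (FGA3.ψ (X ↘ Spec (CommRingCat.of A)) W.1) :=
      (FGA3.iq_app_eq_zero_iff (X ↘ Spec (CommRingCat.of A)) (I ^ (n + 1)) W r).1 (RingHom.mem_ker.1 hr)
    refine Submodule.span_induction (p := fun r _ => r • m = 0) ?_ (zero_smul _ m)
      (fun a b _ _ ha hb => by rw [add_smul, ha, hb, add_zero])
      (fun c a _ ha => by rw [smul_eq_mul, mul_smul, ha, smul_zero]) hr'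
    rintro _ ⟨a, ha, rfl⟩
    have h0 := congrArg (fun φ => φ.app W.1 m) (hk a ha)
    exact h0
  · obtain ⟨s, hs⟩ := h1 t
    exact ⟨s, (hu s).trans hs⟩

/-- Maps into a killed module are detected on the thickening. -/
theorem map_bijective (n : ℕ) {M N : X.Modules} (hM : Coh.IsQCoh M) (hkM : Formal.KilledBy (I ^ (n + 1)) M)
    (hN : Coh.IsQCoh N) (hkN : Formal.KilledBy (I ^ (n + 1)) N) :
    Function.Bijective fun φ : M ⟶ N => (Scheme.Modules.pullback (inc I X n)).map φ := by
  let adj := Scheme.Modules.pullbackPushforwardAdjunction (inc I X n)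
  haveI := isIso_unit I n N hN hkN
  have h : ∀ φ : M ⟶ N, (Scheme.Modules.pullback (inc I X n)).map φ =
      (adj.homEquiv M _).symm (φ ≫ adj.unit.app N) := fun φ => by
    apply (adj.homEquiv M _).injective
    rw [Equiv.apply_symm_apply, Adjunction.homEquiv_unit]
    exact (adj.unit.naturality φ).symm
  refine ⟨fun φ ψ hφψ => ?_, fun ψ => ⟨adj.homEquiv M _ ψ ≫ inv (adj.unit.app N), ?_⟩⟩
  · simp only at hφψ
    rw [h, h] at hφψ
    exact (cancel_mono (adj.unit.app N)).1 ((adj.homEquiv M _).symm.injective hφψ)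
  · simp only
    rw [h, Category.assoc, IsIso.inv_hom_id, Category.comp_id, Equiv.symm_apply_apply]

/-- Pullback along an isomorphism is an equivalence. -/
theorem isEquivalence_pullback {P Q : Scheme.{u}} (g : P ⟶ Q) [IsIso g] :
    (Scheme.Modules.pullback g).IsEquivalence :=
  (CategoryTheory.Equivalence.mk (Scheme.Modules.pullback g) (Scheme.Modules.pullback (inv g))
    (((Scheme.Modules.pullbackId Q).symm ≪≫ Scheme.Modules.pullbackCongr (IsIso.inv_hom_id g).symm) ≪≫
      (Scheme.Modules.pullbackComp (inv g) g).symm)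
    ((Scheme.Modules.pullbackComp g (inv g)) ≪≫ Scheme.Modules.pullbackCongr (IsIso.hom_inv_id g) ≪≫
      Scheme.Modules.pullbackId P)).isEquivalence_functor

section flat

variable [IsNoetherian X] [IsNoetherian X'] (f : X' ⟶ X) [Flat f]
  (hf : f ≫ (X ↘ Spec (CommRingCat.of A)) = X' ↘ Spec (CommRingCat.of A))

/-- The morphism of thickenings. -/
def fn (n : ℕ) : pullback (X' ↘ Spec (CommRingCat.of A)) (CohB1.specQuot I n) ⟶
    pullback (X ↘ Spec (CommRingCat.of A)) (CohB1.specQuot I n) :=
  pullback.map _ _ _ _ f (𝟙 _) (𝟙 _) ((Category.comp_id _).trans hf.symm)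
    ((Category.comp_id _).trans (Category.id_comp _).symm)

theorem fn_inc (n : ℕ) : fn I f hf n ≫ inc I X n = inc I X' n ≫ f := pullback.lift_fst _ _ _

theorem isPullback_fn (n : ℕ) : IsPullback (inc I X' n) (fn I f hf n) f (inc I X n) := by
  refine IsPullback.of_bot ?_ (fn_inc I f hf n).symm (IsPullback.of_hasPullback _ _)
  rw [hf, show fn I f hf n ≫ pullback.snd _ _ = pullback.snd _ _ ≫ 𝟙 _ from pullback.lift_snd _ _ _, Category.comp_id]
  exact IsPullback.of_hasPullback _ _

/-- The transition from the special fibre. -/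
def tr0 (n : ℕ) : Spec (CommRingCat.of (A ⧸ I ^ (0 + 1))) ⟶ Spec (CommRingCat.of (A ⧸ I ^ (n + 1))) :=
  Spec.map (CommRingCat.ofHom (Ideal.Quotient.factor (Ideal.pow_le_pow_right (show 0 + 1 ≤ n + 1 by omega))))

theorem tr0_specQuot (n : ℕ) : tr0 I n ≫ CohB1.specQuot I n = CohB1.specQuot I 0 := by
  rw [tr0, CohB1.specQuot, CohB1.specQuot, ← Spec.map_comp]
  rfl

instance isClosedImmersion_tr0 (n : ℕ) : IsClosedImmersion (tr0 I n) :=
  IsClosedImmersion.spec_of_surjective _ (Ideal.Quotient.factor_surjective (Ideal.pow_le_pow_right (show 0 + 1 ≤ n + 1 by omega)))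

instance surjective_tr0 (n : ℕ) : Surjective (tr0 I n) := by
  refine ⟨fun x => ?_⟩
  obtain ⟨y, hy⟩ : CohB1.specQuot I n x ∈ Set.range (CohB1.specQuot I 0) := by
    let P : PrimeSpectrum A := CohB1.specQuot I n x
    have hI : I ≤ P.asIdeal := fun a ha => P.isPrime.mem_of_pow_mem (n + 1) (by
      show Ideal.Quotient.mk (I ^ (n + 1)) (a ^ (n + 1)) ∈ (x : PrimeSpectrum (A ⧸ I ^ (n + 1))).asIdeal
      rw [Ideal.Quotient.eq_zero_iff_mem.2 (Ideal.pow_mem_pow ha _)]
      exact zero_mem _)
    show P ∈ Set.range (PrimeSpectrum.comap (Ideal.Quotient.mk (I ^ (0 + 1))))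
    rw [range_comap_of_surjective _ _ Ideal.Quotient.mk_surjective, Ideal.mk_ker,
      PrimeSpectrum.mem_zeroLocus, SetLike.coe_subset_coe, zero_add, pow_one]
    exact hI
  refine ⟨y, (CohB1.specQuot I n).isClosedEmbedding.injective ?_⟩
  rw [← Scheme.Hom.comp_apply, tr0_specQuot, hy]

/-- The inclusion of the special fibre. -/
def j0 (X : Scheme.{u}) [X.Over (Spec (CommRingCat.of A))] (n : ℕ) :
    pullback (X ↘ Spec (CommRingCat.of A)) (CohB1.specQuot I 0) ⟶
      pullback (X ↘ Spec (CommRingCat.of A)) (CohB1.specQuot I n) :=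
  pullback.map _ _ _ _ (𝟙 _) (tr0 I n) (𝟙 _) ((Category.comp_id _).trans (Category.id_comp _).symm)
    ((Category.comp_id _).trans (tr0_specQuot I n).symm)

theorem j0_inc (n : ℕ) : j0 I X n ≫ inc I X n = inc I X 0 := (pullback.lift_fst _ _ _).trans (Category.comp_id _)

theorem isPullback_j0 (n : ℕ) : IsPullback (j0 I X n) (pullback.snd _ _)
    (pullback.snd (X ↘ Spec (CommRingCat.of A)) (CohB1.specQuot I n)) (tr0 I n) := by
  refine IsPullback.of_right ?_ (pullback.lift_snd _ _ _) (IsPullback.of_hasPullback _ _).flip.flip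
  rw [show j0 I X n ≫ pullback.fst _ _ = pullback.fst _ _ from j0_inc I n, tr0_specQuot]
  exact IsPullback.of_hasPullback _ _

instance isClosedImmersion_j0 (n : ℕ) : IsClosedImmersion (j0 I X n) :=
  MorphismProperty.of_isPullback (isPullback_j0 I n).flip (isClosedImmersion_tr0 I n)

instance surjective_j0 (n : ℕ) : Surjective (j0 I X n) :=
  MorphismProperty.of_isPullback (P := @Surjective) (isPullback_j0 I n).flip (surjective_tr0 I n)

include hf in
theorem isIso_fn (hZ : IsIso (fn I f hf 0)) (n : ℕ) : IsIso (fn I f hf n) := by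
  have hw : j0 I X' n ≫ fn I f hf n = fn I f hf 0 ≫ j0 I X n := by
    refine pullback.hom_ext ?_ ?_ <;> simp [j0, fn]
  have hsq : IsPullback (j0 I X' n) (fn I f hf 0) (fn I f hf n) (j0 I X n) := by
    refine IsPullback.of_right ?_ hw (isPullback_fn I f hf n)
    rw [j0_inc, j0_inc]
    exact isPullback_fn I f hf 0
  haveI : IsLocallyNoetherian (pullback (X ↘ Spec (CommRingCat.of A)) (CohB1.specQuot I n)) :=
    LocallyOfFiniteType.isLocallyNoetherian (inc I X n)
  haveI : IsClosedImmersion (fn I f hf 0) := inferInstance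
  haveI : IsClosedImmersion (fn I f hf n) := FormalH7.isClosedImmersion_of_thickening hsq
  haveI : Surjective (fn I f hf n) := by
    haveI : Surjective (j0 I X' n ≫ fn I f hf n) := by rw [hw]; infer_instance
    exact Surjective.of_comp (j0 I X' n) (fn I f hf n)
  haveI : Flat (fn I f hf n) := MorphismProperty.of_isPullback (isPullback_fn I f hf n) ‹Flat f›
  exact ProEtTop19.isIso_of_flat_immersion _

/-- Pullback to the thickenings commutes with `f`. -/
def comm (n : ℕ) : Scheme.Modules.pullback f ⋙ Scheme.Modules.pullback (inc I X' n) ≅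
    Scheme.Modules.pullback (inc I X n) ⋙ Scheme.Modules.pullback (fn I f hf n) :=
  Scheme.Modules.pullbackComp (inc I X' n) f ≪≫ Scheme.Modules.pullbackCongr (fn_inc I f hf n).symm ≪≫
    (Scheme.Modules.pullbackComp (fn I f hf n) (inc I X n)).symm

variable (hZ : IsIso (fn I f hf 0))

include hf hZ in
theorem pullback_bijective (n : ℕ) {M N : X.Modules} (hM : Coh.IsQCoh M) (hkM : Formal.KilledBy (I ^ (n + 1)) M)
    (hN : Coh.IsQCoh N) (hkN : Formal.KilledBy (I ^ (n + 1)) N) :
    Function.Bijective fun φ : M ⟶ N => (Scheme.Modules.pullback f).map φ := by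
  haveI := isIso_fn I f hf hZ n
  haveI := isEquivalence_pullback (fn I f hf n)
  let P := Scheme.Modules.pullback f
  let Q := Scheme.Modules.pullback (inc I X' n)
  let R := Scheme.Modules.pullback (inc I X n)
  let S := Scheme.Modules.pullback (fn I f hf n)
  let c := comm I f hf n
  have hPM := M1.isQCoh_pullback f hM
  have hPN := M1.isQCoh_pullback f hN
  have hQ := map_bijective I n hPM (killedBy_pullback f hf hkM) hPN (killedBy_pullback f hf hkN)
  have hR := map_bijective I n hM hkM hN hkN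
  have key : ∀ φ : M ⟶ N, Q.map (P.map φ) = c.hom.app M ≫ S.map (R.map φ) ≫ c.inv.app N := fun φ => by
    rw [← Category.assoc]
    have h := c.hom.naturality φ
    simp only [Functor.comp_map] at h
    rw [← h, Category.assoc, Iso.hom_inv_id_app]
    exact (Category.comp_id _).symm
  refine ⟨fun φ ψ h => hR.1 (S.map_injective ?_), fun ψ => ?_⟩
  · have h' : Q.map (P.map φ) = Q.map (P.map ψ) := congrArg Q.map h
    rw [key, key, cancel_epi, cancel_mono] at h'
    exact h'
  · obtain ⟨χ, hχ⟩ := S.map_surjective (c.inv.app M ≫ Q.map ψ ≫ c.hom.app N)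
    obtain ⟨φ, rfl⟩ := hR.2 χ
    refine ⟨φ, hQ.1 ?_⟩
    show Q.map (P.map φ) = Q.map ψ
    rw [key, hχ]
    simp only [Category.assoc, Iso.hom_inv_id_app_assoc, Iso.hom_inv_id_app]
    exact Category.comp_id _

include hf hZ in
theorem exists_preimage (n : ℕ) (N' : X'.Modules) (hN' : Coh.IsCoh N') (hk : Formal.KilledBy (I ^ (n + 1)) N') :
    ∃ N : X.Modules, Coh.IsCoh N ∧ Formal.KilledBy (I ^ (n + 1)) N ∧
      Nonempty ((Scheme.Modules.pullback f).obj N ≅ N') := by
  haveI := isIso_fn I f hf hZ n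
  let i := inc I X n
  let i' := inc I X' n
  let g := fn I f hf n
  haveI : IsLocallyNoetherian (pullback (X ↘ Spec (CommRingCat.of A)) (CohB1.specQuot I n)) :=
    LocallyOfFiniteType.isLocallyNoetherian i
  let K := (Scheme.Modules.pullback (inv g)).obj ((Scheme.Modules.pullback i').obj N')
  have hK : Coh.IsCoh K := M1.isCoh_pullback _ (M1.isCoh_pullback _ hN')
  let N := (Scheme.Modules.pushforward i).obj K
  have hN : Coh.IsCoh N := CohFound.isCoh_push_closedImm i hK
  have hkN : Formal.KilledBy (I ^ (n + 1)) N := fun a ha => by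
    ext U s
    rw [FormalH7.smulMod_app]
    show i.app U (FormalH7.mult X a U) • (show Γ(K, i ⁻¹ᵁ U) from s) = 0
    rw [show i.app U (FormalH7.mult X a U) = 0 from ?_, zero_smul]
    exact inc_app_mult I n a ha U
  haveI := CohMop.isIso_counit_closedImmersion i K
  let e₁ : (Scheme.Modules.pullback i').obj ((Scheme.Modules.pullback f).obj N) ≅ (Scheme.Modules.pullback i').obj N' :=
    (comm I f hf n).app N ≪≫ (Scheme.Modules.pullback g).mapIso (asIso ((Scheme.Modules.pullbackPushforwardAdjunction i).counit.app K)) ≪≫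
      (Scheme.Modules.pullbackComp g (inv g)).app _ ≪≫ (Scheme.Modules.pullbackCongr (IsIso.hom_inv_id g)).app _ ≪≫
      (Scheme.Modules.pullbackId _).app _
  have hP := M1.isQCoh_pullback f hN.1
  have hkP := killedBy_pullback f hf hkN
  obtain ⟨a, ha⟩ := (map_bijective I n hP hkP hN'.1 hk).2 e₁.hom
  obtain ⟨b, hb⟩ := (map_bijective I n hN'.1 hk hP hkP).2 e₁.inv
  simp only at ha hb
  refine ⟨N, hN, hkN, ⟨a, b, (map_bijective I n hP hkP hP hkP).1 ?_, (map_bijective I n hN'.1 hk hN'.1 hk).1 ?_⟩⟩
  · show (Scheme.Modules.pullback i').map (a ≫ b) = (Scheme.Modules.pullback i').map (𝟙 _)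
    rw [Functor.map_comp, ha, hb, CategoryTheory.Functor.map_id, Iso.hom_inv_id]
  · show (Scheme.Modules.pullback i').map (b ≫ a) = (Scheme.Modules.pullback i').map (𝟙 _)
    rw [Functor.map_comp, ha, hb, CategoryTheory.Functor.map_id, Iso.inv_hom_id]

end flat

end Groth.Agent.FlatThick28
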