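import Groth.Agent.Lib.CIPic27.Restrict
import Groth.Agent.Lib.NFlatFormalH7.HomBij
import Groth.Agent.Lib.LefFEt11.Idem
import Groth.Agent.S0335

/-!
# Punctured spectra along an ideal with free graded pieces and depth three
-/

set_option autoImplicit false
set_option linter.style.haveILetI false
set_option backward.isDefEq.respectTransparency false
set_option backward.isDefEq.respectTransparency.types false

universe u

open CategoryTheory CategoryTheory.Limits AlgebraicGeometry TopologicalSpace Opposite IsLocalRing TensorProduct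

noncomputable section

namespace Groth.Agent.GrFreePunct28

open Groth.Agent Groth.Agent.M1 Groth.Agent.LocCohLib Groth.Agent.LocCohSheafLib Groth.Agent.InjHullLib
open Groth.Agent.ParaGr27 Groth.Agent.CIPic27

variable {A : Type u} [CommRing A] [IsLocalRing A] [IsNoetherianRing A] (J : Ideal A) [IsLocalRing (A ⧸ J)]

/-- The closed immersion of the punctured spectra. -/
abbrev inclJ (A : Type u) [CommRing A] [IsLocalRing A] (J : Ideal A) :=
  Spec.map (CommRingCat.ofHom (Ideal.Quotient.mk J)) ∣_ LocCoh.puncturedOpen A (maximalIdeal A)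

omit [IsNoetherianRing A] [IsLocalRing (A ⧸ J)] in
theorem ker_inclJ : (inclJ A J).ker = (Spec.map (CommRingCat.ofHom (Ideal.Quotient.mk J))).ker.comap
    (LocCoh.puncturedOpen A (maximalIdeal A)).ι := by
  haveI : IsClosedImmersion (Spec.map (CommRingCat.ofHom (Ideal.Quotient.mk J))) :=
    IsClosedImmersion.spec_of_surjective _ Ideal.Quotient.mk_surjective
  let e := (isPullback_morphismRestrict (Spec.map (CommRingCat.ofHom (Ideal.Quotient.mk J)))
    (LocCoh.puncturedOpen A (maximalIdeal A))).isoPullback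
  rw [← Scheme.IdealSheafData.ker_fst_of_isClosedImmersion, ← Scheme.Hom.ker_comp_of_isIso e.hom,
    IsPullback.isoPullback_hom_fst]

theorem inclJ_injective (hJ : J ≠ ⊤) (hgr : GrFree J) (hd : (3 : ℕ∞) ≤ LocCoh.depth (A ⧸ J) (A ⧸ J)) :
    Formal2.PicPullbackInjective (inclJ A J) := by
  intro L hL hLp
  obtain ⟨i⟩ := hLp
  let B := A ⧸ J
  have hs : Function.Surjective (algebraMap A B) := Ideal.Quotient.mk_surjective
  obtain ⟨N, _, hproj, ⟨eN⟩⟩ := PunctFree27.exists_model (maximalIdeal A) L (IsNoetherian.noetherian _)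
    (M2.isFinLocFree_of_isInvertible hL)
  haveI : Module.Finite A N := inferInstance
  have hfree : FreeOff A N := freeOff_of_invertible hproj (Twist.isInvertible_of_iso eN.symm hL)
  let eP : (Scheme.Modules.pullback (inclJ A J)).obj
        ((tilde (R := CommRingCat.of A) (ModuleCat.of A N)).restrict (LocCoh.puncturedOpen A (maximalIdeal A)).ι) ≅
      (tilde (R := CommRingCat.of B) (ModuleCat.of B (B ⊗[A] N))).restrict
        (Spec.map (CommRingCat.ofHom (Ideal.Quotient.mk J)) ⁻¹ᵁ LocCoh.puncturedOpen A (maximalIdeal A)).ι :=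
    (Twist.pullbackRestrictIso _ _ _).symm ≪≫ (Scheme.Modules.restrictFunctor _).mapIso
      (tildePullbackObjIso (CommRingCat.ofHom (Ideal.Quotient.mk J)) (ModuleCat.of A N))
  let V := Spec.map (CommRingCat.ofHom (Ideal.Quotient.mk J)) ⁻¹ᵁ LocCoh.puncturedOpen A (maximalIdeal A)
  have he : Nonempty ((tilde (R := CommRingCat.of B) (ModuleCat.of B (B ⊗[A] N))).restrict V.ι ≅
      (tilde (R := CommRingCat.of B) (ModuleCat.of B B)).restrict V.ι) :=
    ⟨eP.symm ≪≫ (Scheme.Modules.pullback (inclJ A J)).mapIso eN ≪≫ i ≪≫ (Scheme.Modules.restrictUnitIso _).symm ≪≫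
      (Scheme.Modules.restrictFunctor _).mapIso (tildeSelf (R := CommRingCat.of B)).symm⟩
  change Nonempty ((tilde (R := CommRingCat.of B) (ModuleCat.of B (B ⊗[A] N))).restrict
      (Spec.map (CommRingCat.ofHom (Ideal.Quotient.mk J)) ⁻¹ᵁ LocCoh.puncturedOpen A (maximalIdeal A)).ι ≅
      (tilde (R := CommRingCat.of B) (ModuleCat.of B B)).restrict
        (Spec.map (CommRingCat.ofHom (Ideal.Quotient.mk J)) ⁻¹ᵁ LocCoh.puncturedOpen A (maximalIdeal A)).ι) at he
  rw [CIPic27.preimage_puncturedOpen (Ideal.Quotient.mk J) Ideal.Quotient.mk_surjective] at he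
  obtain ⟨e⟩ := he
  have hvB : ∀ j < 3, Van B B j := (van_iff_natCast_le_depth 3).2 hd
  have hgB : Good B B := ⟨hvB 0 (by omega), hvB 1 (by omega)⟩
  obtain ⟨ψ, hψ⟩ := exists_hom_of_punct_iso hgB e
  let e₀ : (N →ₗ[A] B) ≃ₗ[B] B := (LinearMap.liftBaseChangeEquiv B).trans
    ((LinearEquiv.ofBijective (LinearMap.lcomp B B ψ) (precomp_bijective hgB hψ)).symm.trans
      (LinearMap.ringLmapEquivSelf B B B))
  let q1 : B ≃ₗ[A] Qn J 0 := Submodule.quotEquivOfEq _ _ (pow_one J).symm
  let e1 : (N →ₗ[A] Qn J 0) ≃ₗ[A] Qn J 0 :=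
    (LinearEquiv.congrRight q1.symm).trans ((e₀.restrictScalars A).trans q1)
  have hdQ : ∀ j < 3, Van A (Qn J 0) j := fun j hj => by
    have h1 : ∀ j < 3, Van A B j := (van_iff_natCast_le_depth 3).2 (by
      rw [FlatDepth.depth_eq_of_surjective (A := A) (B := B) (M := B) hs]
      exact hd)
    exact @Equiv.subsingleton _ _ (hcongr _ j q1.symm).toEquiv (h1 j hj)
  obtain ⟨eD⟩ := nonempty_dual_equiv hgr hdQ (fac_of_freeOff hfree) e1 hJ
  obtain ⟨j⟩ := nonempty_iso_of_dual_equiv (locData_of_freeOff hfree) eD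
  exact ⟨eN.symm ≪≫ j⟩

omit [IsNoetherianRing A] in
theorem connectedSpace_punctured (h : 2 ≤ LocCoh.depth A A) [IsNoetherianRing A] :
    ConnectedSpace ↥(FEt.puncturedSpec A) := by
  have h' : _root_.IsConnected (FEt.puncturedSpec A : Set ↥(Spec (CommRingCat.of A))) := by
    have h0 := S0335.result A h
    have hs : ({x : PrimeSpectrum A | x.asIdeal ≠ maximalIdeal A} : Set (PrimeSpectrum A)) =
        (FEt.puncturedSpec A : Set ↥(Spec (CommRingCat.of A))) := Set.ext fun x =>
      ⟨fun hx e => hx (congrArg PrimeSpectrum.asIdeal e), fun hx e => hx (PrimeSpectrum.ext e)⟩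
    exact hs ▸ h0
  exact isConnected_iff_connectedSpace.1 h'

/-- Connectedness, full faithfulness and injectivity on Picard groups. -/
theorem punctured_main (U : (Spec (CommRingCat.of A)).Opens) (hU : U = LocCoh.puncturedOpen A (maximalIdeal A))
    (hJ : J ≠ ⊤) (hgr : GrFree J) (hd : (3 : ℕ∞) ≤ LocCoh.depth (A ⧸ J) (A ⧸ J)) [IsAdicComplete J A] :
    (ConnectedSpace ↥U ∧ ConnectedSpace ↥((Spec.map (CommRingCat.ofHom (Ideal.Quotient.mk J))).ker.comap U.ι).subscheme ∧
      (FEt.restrict ((Spec.map (CommRingCat.ofHom (Ideal.Quotient.mk J))).ker.comap U.ι).subschemeι).Full ∧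
      (FEt.restrict ((Spec.map (CommRingCat.ofHom (Ideal.Quotient.mk J))).ker.comap U.ι).subschemeι).Faithful) ∧
    Formal2.PicPullbackInjective ((Spec.map (CommRingCat.ofHom (Ideal.Quotient.mk J))).ker.comap U.ι).subschemeι := by
  subst hU
  haveI : IsClosedImmersion (Spec.map (CommRingCat.ofHom (Ideal.Quotient.mk J))) :=
    IsClosedImmersion.spec_of_surjective _ Ideal.Quotient.mk_surjective
  have hdQ : ∀ i < 3, Van A (Qn J 0) i := fun i hi => by
    have h1 : ∀ j < 3, Van A (A ⧸ J) j := (van_iff_natCast_le_depth 3).2 (by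
      rw [FlatDepth.depth_eq_of_surjective (A := A) (B := A ⧸ J) (M := A ⧸ J) Ideal.Quotient.mk_surjective]
      exact hd)
    exact @Equiv.subsingleton _ _ (hcongr _ i (Submodule.quotEquivOfEq _ _ (pow_one J))).toEquiv (h1 i hi)
  refine ⟨⟨?_, ?_, ?_⟩, ?_⟩
  · rw [puncturedOpen_maximalIdeal]
    exact connectedSpace_punctured (le_trans (by norm_num) (three_le_depth_self hgr hdQ hJ))
  · rw [← ker_inclJ]
    haveI : ConnectedSpace ↥(Spec.map (CommRingCat.ofHom (Ideal.Quotient.mk J)) ⁻¹ᵁ
        LocCoh.puncturedOpen A (maximalIdeal A)) := by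
      rw [CIPic27.preimage_puncturedOpen (Ideal.Quotient.mk J) Ideal.Quotient.mk_surjective,
        puncturedOpen_maximalIdeal (A := A ⧸ J)]
      exact connectedSpace_punctured (le_trans (by norm_num) hd)
    haveI : ConnectedSpace (↑(Spec.map (CommRingCat.ofHom (Ideal.Quotient.mk J)) ⁻¹ᵁ
        LocCoh.puncturedOpen A (maximalIdeal A)) : Scheme.{u}) := this
    exact (asIso (inclJ A J).toImage).hom.surjective.connectedSpace (asIso (inclJ A J).toImage).hom.continuous
  · let 𝓘 := (FSch.idealSpec A J).comap (LocCoh.puncturedOpen A (maximalIdeal A)).ι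
    have hvan : ∀ n : ℕ, Subsingleton (LocCoh.H (maximalIdeal A) 0 (A ⧸ J ^ (n + 1))) ∧
        Subsingleton (LocCoh.H (maximalIdeal A) 1 (A ⧸ J ^ (n + 1))) := fun n =>
      ⟨van_Qn hgr hdQ n 0 (by omega), van_Qn hgr hdQ n 1 (by omega)⟩
    haveI := PunctFree27.quasiCompact_puncturedOpen (maximalIdeal A) (IsNoetherian.noetherian (maximalIdeal A))
    haveI : IsLocallyNoetherian (↑(LocCoh.puncturedOpen A (maximalIdeal A)) : Scheme.{u}) :=
      LocallyOfFiniteType.isLocallyNoetherian (LocCoh.puncturedOpen A (maximalIdeal A)).ι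
    exact LefFEt11.fullyFaithful_restrict (I := 𝓘)
      (NFlatFormalH7.homToFormal_of_locFree 𝓘 rfl hvan)
      (NFlatFormalH7.homToFormal_structureModule 𝓘 rfl hvan)
  · rw [← ker_inclJ]
    exact picPullbackInjective_of_iso_comp (asIso (inclJ A J).toImage) _ _ (inclJ A J).toImage_imageι
      (inclJ_injective J hJ hgr hd)

end Groth.Agent.GrFreePunct28
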