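import Groth.Agent.Lib.LocCoh.Seq
import Groth.Prelude.Def_DualLC

/-!
# Supports in a closed set against the ideal defining it, naturally
-/

set_option autoImplicit false
universe u

open CategoryTheory Limits

noncomputable section

namespace Groth.Agent.FormalColim28

variable {A : Type u} [CommRing A]

theorem le_radical_iff (a J : Ideal A) :
    a ≤ J.radical ↔ PrimeSpectrum.zeroLocus (J : Set A) ⊆ PrimeSpectrum.zeroLocus (a : Set A) :=
  (PrimeSpectrum.zeroLocus_subset_zeroLocus_iff J a).symm

/-- The comparison of index categories. -/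
def toIdealsIn (a : Ideal A) :
    localCohomology.SelfLERadical a ⥤ Dual2.IdealsIn (PrimeSpectrum.zeroLocus (a : Set A)) :=
  ObjectProperty.ιOfLE fun J hJ => (le_radical_iff a J).1 hJ

/-- The inverse comparison. -/
def ofIdealsIn (a : Ideal A) :
    Dual2.IdealsIn (PrimeSpectrum.zeroLocus (a : Set A)) ⥤ localCohomology.SelfLERadical a :=
  ObjectProperty.ιOfLE fun J hJ => (le_radical_iff a J).2 hJ

instance (a : Ideal A) : (toIdealsIn a).IsEquivalence :=
  ({ functor := toIdealsIn a
     inverse := ofIdealsIn a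
     unitIso := Iso.refl _
     counitIso := Iso.refl _ } :
    localCohomology.SelfLERadical a ≌ Dual2.IdealsIn (PrimeSpectrum.zeroLocus (a : Set A))).isEquivalence_functor

/-- `H^i_{V(a)} ≅ H^i_a`, natural in the module. -/
def htIso [IsNoetherianRing A] (a : Ideal A) (i : ℕ) :
    localCohomology.ofDiagram.{u, u} (Dual2.idealsInDiagram (PrimeSpectrum.zeroLocus (a : Set A))) i ≅
      localCohomology.{u} a i :=
  (localCohomology.isoOfFinal.{u, u, u} (toIdealsIn a) (Dual2.idealsInDiagram _) i).symm ≪≫
    localCohomology.isoSelfLERadical a i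

/-- The element form. -/
def htEquiv [IsNoetherianRing A] (a : Ideal A) (i : ℕ) (M : Type u) [AddCommGroup M] [Module A M] :
    Dual2.HT (PrimeSpectrum.zeroLocus (a : Set A)) i M ≃ₗ[A] LocCoh.H a i M :=
  ((htIso a i).app (ModuleCat.of A M)).toLinearEquiv

theorem htEquiv_natural [IsNoetherianRing A] (a : Ideal A) (i : ℕ) {M N : Type u} [AddCommGroup M] [Module A M]
    [AddCommGroup N] [Module A N] (φ : M →ₗ[A] N) (x : Dual2.HT (PrimeSpectrum.zeroLocus (a : Set A)) i M) :
    htEquiv a i N ((localCohomology.ofDiagram (Dual2.idealsInDiagram (PrimeSpectrum.zeroLocus (a : Set A))) i).map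
      (ModuleCat.ofHom φ) x) = LocCohLib.hmap a i φ (htEquiv a i M x) :=
  ConcreteCategory.congr_hom ((htIso a i).hom.naturality (ModuleCat.ofHom φ)) x

end Groth.Agent.FormalColim28
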