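import Groth.Agent.Lib.FormalCohH7.Colim
import Groth.Agent.Lib.FormalCohH7.ColimExact

/-!
# Sections near `V(I)` are determined by their completions
-/

set_option autoImplicit false
set_option backward.isDefEq.respectTransparency false
set_option linter.style.haveILetI false

universe u

open CategoryTheory Limits AlgebraicGeometry TopologicalSpace Opposite

noncomputable section

namespace Groth.Agent.FormalColim28

open Groth.Agent.M1 Groth.Agent.CohFound Groth.Agent.LocCohSheafLib Groth.Agent.LocCohLib Groth.Agent.InjHullLib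
  Groth.Agent.FormalCohH7 IsLocalRing

variable {A : Type u} [CommRing A] [IsNoetherianRing A] (I : Ideal A)
  {M : Type u} [AddCommGroup M] [Module A M] [Module.Finite A M]

/-- Krull at a prime. -/
theorem exists_smul_eq_zero_of_mem_pows {p : Ideal A} [p.IsPrime] (hI : I ≤ p) (x : M)
    (h : ∀ n : ℕ, ∃ r ∉ p, r • x ∈ (I ^ (n + 1) • ⊤ : Submodule A M)) : ∃ r ∉ p, r • x = 0 := by
  let B := Localization.AtPrime p
  let L := LocalizedModule p.primeCompl M
  let mk := LocalizedModule.mkLinearMap p.primeCompl M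
  haveI : Module.Finite B L := Module.Finite.of_isLocalizedModule p.primeCompl mk
  have hmem : mk x ∈ (⨅ i : ℕ, (maximalIdeal B) ^ i • ⊤ : Submodule B L) := by
    rw [Submodule.mem_iInf]
    intro i
    obtain ⟨r, hr, hrx⟩ := h i
    have h1 : ∀ y ∈ (I ^ (i + 1) • ⊤ : Submodule A M), mk y ∈ ((maximalIdeal B) ^ i • ⊤ : Submodule B L) := by
      intro y hy
      refine Submodule.smul_induction_on hy (fun c hc z _ => ?_) fun y z hy hz => ?_
      · rw [map_smul, ← algebraMap_smul B c]
        refine Submodule.smul_mem_smul (Ideal.pow_le_pow_right (Nat.le_succ i) ?_) Submodule.mem_top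
        rw [← Localization.AtPrime.map_eq_maximalIdeal, ← Ideal.map_pow]
        exact Ideal.mem_map_of_mem _ (Ideal.pow_right_mono hI (i + 1) hc)
      · rw [map_add]
        exact Submodule.add_mem _ hy hz
    have h2 := h1 _ hrx
    rw [map_smul, ← algebraMap_smul B r] at h2
    exact (Submodule.smul_mem_iff_of_isUnit _ (IsLocalization.map_units B (⟨r, hr⟩ : p.primeCompl))).1 h2
  rw [Ideal.iInf_pow_smul_eq_bot_of_isLocalRing _ (maximalIdeal.isMaximal _).ne_top, Submodule.mem_bot] at hmem
  obtain ⟨u, hu⟩ := (IsLocalizedModule.eq_zero_iff p.primeCompl mk).1 hmem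
  exact ⟨u, u.2, hu⟩

/-- A section near `V(I)` vanishing formally vanishes nearer. -/
theorem exists_smaller_ideal {b : Ideal A} (x : G (A := A) M 0 (LocCoh.puncturedOpen A b))
    (hx : ∀ n, gmap (Formal2.quotPowπ A I M n) 0 _ x = 0) :
    ∃ (b' : Ideal A) (h : b' ≤ b), (∀ p : Ideal A, p.IsPrime → ¬ b ≤ p → I ≤ p → ¬ b' ≤ p) ∧
      rs _ 0 (punctured_mono h) x = 0 := by
  let J : Ideal A := LinearMap.ker (LinearMap.toSpanSingleton A _ (g0 M (LocCoh.puncturedOpen A b) x))
  refine ⟨b * J, Ideal.mul_le_left, fun p hp hbp hIp h => ?_, ?_⟩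
  · rcases hp.mul_le.1 h with h | h
    · exact hbp h
    obtain ⟨r, hr, m, hm⟩ := exists_smul_eq_toS b hbp (g0 M _ x)
    have h0 : ∀ n, toS (R := A) _ (LocCoh.puncturedOpen A b) (Formal2.quotPowπ A I M n m) = 0 := fun n => by
      rw [← secMap_toS, ← hm, map_smul, ← g0_gmap, hx n, map_zero, smul_zero]
    obtain ⟨r', hr', hm'⟩ := exists_smul_eq_zero_of_mem_pows I hIp m fun n => by
      obtain ⟨r₁, hr₁, h1⟩ := exists_smul_eq_zero_of_toS b hbp (h0 n)
      rw [← map_smul] at h1
      exact ⟨r₁, hr₁, (Submodule.Quotient.mk_eq_zero _).1 h1⟩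
    refine hp.mul_notMem hr' hr (h (LinearMap.mem_ker.2 ?_))
    rw [LinearMap.toSpanSingleton_apply, mul_smul, hm, ← map_smul, hm', map_zero]
  · apply (g0 M _).injective
    rw [g0_rs, map_zero]
    refine eq_zero_of_pow_smul (b * J) _ 1 fun r hr => ?_
    rw [pow_one] at hr
    rw [← map_smul]
    have : r • g0 M _ x = 0 := LinearMap.mem_ker.1 (Ideal.mul_le_right hr : r ∈ J)
    rw [this, map_zero]

variable (M) in
/-- Injectivity holds for every finite module. -/
theorem gColimInj (U : (Spec (CommRingCat.of A)).Opens) : GColimInj I M U := by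
  intro V hV x hx
  obtain ⟨b, rfl⟩ := exists_eq_punctured V
  obtain ⟨b', hb', hadm, h0⟩ := exists_smaller_ideal I x hx
  exact ⟨LocCoh.puncturedOpen A b', ⟨⟨(punctured_mono hb').trans hV.1, fun p hpU hpz =>
    (mem_punctured_iff b' p).2 (hadm p.asIdeal p.isPrime ((mem_punctured_iff b p).1 (hV.2 p hpU hpz))
      ((PrimeSpectrum.mem_zeroLocus _ _).1 hpz))⟩, punctured_mono hb'⟩, h0⟩

end Groth.Agent.FormalColim28
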