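import Groth.Agent.Lib.FormalColim28.HTIso
import Groth.Agent.Lib.FormalColim28.Delta
import Groth.Agent.Lib.FormalColim28.Inj
import Groth.Agent.S3384
import Groth.Agent.S12220
import Groth.Agent.S8797

/-!
# Formal sections on the punctured spectrum are sections, under depth conditions
-/

set_option autoImplicit false
set_option backward.isDefEq.respectTransparency false
set_option linter.style.haveILetI false

universe u

open CategoryTheory Limits AlgebraicGeometry TopologicalSpace Opposite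

noncomputable section

namespace Groth.Agent.FormalColim28

open Groth.Agent.M1 Groth.Agent.CohFound Groth.Agent.LocCohSheafLib Groth.Agent.LocCohLib Groth.Agent.InjHullLib
  Groth.Agent.FormalCohH7

section ML

/-- An inverse system of subgroups satisfying Mittag-Leffler has no first derived limit. -/
theorem exists_compatible {X : ℕ → Type u} [∀ n, AddCommGroup (X n)]
    (T : ∀ {n l : ℕ}, n ≤ l → X l →+ X n) (hT0 : ∀ n (x : X n), T (le_refl n) x = x)
    (hT : ∀ {n m l : ℕ} (h : n ≤ m) (h' : m ≤ l) (x : X l), T h (T h' x) = T (h.trans h') x)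
    (P : ∀ n, AddSubgroup (X n)) (hP : ∀ {n l : ℕ} (h : n ≤ l) (x : X l), x ∈ P l → T h x ∈ P n)
    (hML : ∀ n, ∃ (k : ℕ) (hk : n ≤ k), ∀ (l : ℕ) (hl : k ≤ l) (w : X k), w ∈ P k →
      ∃ v ∈ P l, T (hk.trans hl) v = T hk w)
    (z : ∀ n, X n) (hz : ∀ n, T (Nat.le_succ n) (z (n + 1)) - z n ∈ P n) :
    ∃ z' : ∀ n, X n, (∀ n, z' n - z n ∈ P n) ∧ ∀ n, T (Nat.le_succ n) (z' (n + 1)) = z' n := by
  classical
  choose k₀ hk₀ hk₀' using hML
  let k : ℕ → ℕ := fun n => Nat.rec (k₀ 0) (fun m r => max r (k₀ (m + 1))) n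
  have hk_succ : ∀ n, k n ≤ k (n + 1) := fun n => le_max_left _ _
  have hk₀k : ∀ n, k₀ n ≤ k n := fun n => by
    cases n with
    | zero => exact le_rfl
    | succ m => exact le_max_right _ _
  have hk : ∀ n, n ≤ k n := fun n => (hk₀ n).trans (hk₀k n)
  have htel : ∀ {n l : ℕ} (h : n ≤ l), T h (z l) - z n ∈ P n := by
    intro n l h
    induction l, h using Nat.le_induction with
    | base => rw [hT0, sub_self]; exact zero_mem _
    | succ l h ih =>
      have h1 : T (h.trans (Nat.le_succ l)) (z (l + 1)) - z n =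
          T h (T (Nat.le_succ l) (z (l + 1)) - z l) + (T h (z l) - z n) := by
        rw [map_sub, hT]; abel
      rw [h1]
      exact add_mem (hP h _ (hz l)) ih
  have hstab : ∀ n (l : ℕ) (hl : k n ≤ l) (w : X (k n)), w ∈ P (k n) →
      ∃ v ∈ P l, T ((hk n).trans hl) v = T (hk n) w := fun n l hl w hw => by
    obtain ⟨v, hv, he⟩ := hk₀' n l ((hk₀k n).trans hl) (T (hk₀k n) w) (hP _ _ hw)
    exact ⟨v, hv, by rw [he, hT]⟩
  let R : ∀ n, Set (X n) := fun n => T (hk n) '' (P (k n) : Set (X (k n)))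
  have hsurj : ∀ n, ∀ w ∈ R n, ∃ w' ∈ R (n + 1), T (Nat.le_succ n) w' = w := by
    rintro n _ ⟨w, hw, rfl⟩
    obtain ⟨v, hv, he⟩ := hstab n (k (n + 1)) (hk_succ n) w hw
    exact ⟨T (hk (n + 1)) v, ⟨v, hv, rfl⟩, by rw [hT, ← he]⟩
  let z₁ : ∀ n, X n := fun n => T (hk n) (z (k n))
  have hdiff : ∀ n, T (Nat.le_succ n) (z₁ (n + 1)) - z₁ n ∈ R n := fun n => by
    refine ⟨T (hk_succ n) (z (k (n + 1))) - z (k n), htel (hk_succ n), ?_⟩
    show _ = T (Nat.le_succ n) (T (hk (n + 1)) (z (k (n + 1)))) - T (hk n) (z (k n))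
    rw [map_sub, hT, hT]
  have hsub : ∀ n, ∀ a ∈ R n, ∀ b ∈ R n, a - b ∈ R n := by
    rintro n _ ⟨a, ha, rfl⟩ _ ⟨b, hb, rfl⟩
    exact ⟨a - b, sub_mem ha hb, map_sub _ _ _⟩
  have h0 : (0 : X 0) ∈ R 0 := ⟨0, zero_mem _, map_zero _⟩
  let u : ∀ n, {w : X n // w ∈ R n} := fun n => Nat.rec (motive := fun n => {w : X n // w ∈ R n}) ⟨0, h0⟩
    (fun m r => ⟨(hsurj m _ (hsub m _ r.2 _ (hdiff m))).choose, (hsurj m _ (hsub m _ r.2 _ (hdiff m))).choose_spec.1⟩) n
  have hu : ∀ n, T (Nat.le_succ n) (u (n + 1)).1 = (u n).1 - (T (Nat.le_succ n) (z₁ (n + 1)) - z₁ n) := fun n =>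
    (hsurj n _ (hsub n _ (u n).2 _ (hdiff n))).choose_spec.2
  refine ⟨fun n => z₁ n + (u n).1, fun n => ?_, fun n => ?_⟩
  · obtain ⟨w, hw, he⟩ := (u n).2
    rw [show z₁ n + (u n).1 - z n = (T (hk n) (z (k n)) - z n) + (u n).1 by abel, ← he]
    exact add_mem (htel (hk n)) (hP _ _ hw)
  · rw [map_add, hu n]; abel

end ML

variable {A : Type u} [CommRing A] (I a : Ideal A) (M : Type u) [AddCommGroup M] [Module A M]

/-- The transition maps of the quotients. -/
abbrev qd {n l : ℕ} (h : n ≤ l) : Formal2.quotPow A I M l →ₗ[A] Formal2.quotPow A I M n :=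
  AdicCompletion.transitionMap I M (Nat.succ_le_succ h)

theorem qd_succ (n : ℕ) : qd I M (Nat.le_succ n) = Formal2.quotPowTrans A I M n :=
  Submodule.linearMap_qext _ (LinearMap.ext fun _ => rfl)

theorem qd_mk {n l : ℕ} (h : n ≤ l) (x : M) :
    qd I M h (Submodule.Quotient.mk x) = Submodule.Quotient.mk x :=
  Submodule.mapQ_apply _ _ _ x

theorem qd_refl (n : ℕ) (x : Formal2.quotPow A I M n) : qd I M (le_refl n) x = x := by
  obtain ⟨x, rfl⟩ := Submodule.Quotient.mk_surjective _ x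
  exact qd_mk I M _ x

theorem qd_trans {n m l : ℕ} (h : n ≤ m) (h' : m ≤ l) (x : Formal2.quotPow A I M l) :
    qd I M h (qd I M h' x) = qd I M (h.trans h') x := by
  obtain ⟨x, rfl⟩ := Submodule.Quotient.mk_surjective _ x
  rw [qd_mk, qd_mk, qd_mk]

variable {I a M} [IsNoetherianRing A]

/-- Condition on `M` implying that formal sections are sections. -/
def Cond (d : ℕ) (I a : Ideal A) (M : Type u) [AddCommGroup M] [Module A M] : Prop :=
  ∀ p q : PrimeSpectrum A, p ≤ q → ¬ I ≤ p.asIdeal → a ≤ q.asIdeal →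
    (1 : ℕ∞) < LocCoh.depth (Localization.AtPrime p.asIdeal) (LocalizedModule p.asIdeal.primeCompl M) ∨
    (((d + 1 : ℕ) : ℕ∞) : WithBot ℕ∞) < ((LocCoh.depth (Localization.AtPrime p.asIdeal)
      (LocalizedModule p.asIdeal.primeCompl M) : ℕ∞) : WithBot ℕ∞) + Formal2.dimBetween A p.asIdeal q.asIdeal

theorem gColimSurj_of_cond (hdc : ∃ ω : Dual.D A, Dual.IsDualizing A ω) (hIa : I ≤ a) [IsAdicComplete I A]
    (d : ℕ) (hcd : LocCoh.CdLE A I d) [Module.Finite A M] (hc : Cond d I a M) :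
    GColimSurj I M (LocCoh.puncturedOpen A a) := by
  let T : Set (PrimeSpectrum A) := PrimeSpectrum.zeroLocus (a : Set A)
  let U := LocCoh.puncturedOpen A a
  have hTI : T ⊆ PrimeSpectrum.zeroLocus (I : Set A) := PrimeSpectrum.zeroLocus_anti_mono hIa
  have hT : StableUnderSpecialization T := (PrimeSpectrum.isClosed_zeroLocus _).stableUnderSpecialization
  have hmem : ∀ q : PrimeSpectrum A, q ∈ T ↔ a ≤ q.asIdeal := fun q => PrimeSpectrum.mem_zeroLocus _ _
  have h4 : ∀ p r q : PrimeSpectrum A, p ≤ r → r ≤ q → ¬ I ≤ p.asIdeal → I ≤ r.asIdeal → r ∉ T → q ∈ T →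
      ((1 : ℕ) : ℕ∞) ≤ LocCoh.depth (Localization.AtPrime p.asIdeal) (LocalizedModule p.asIdeal.primeCompl M) ∨
      ((d + 1 : ℕ) : WithBot ℕ∞) < (LocCoh.depth (Localization.AtPrime p.asIdeal)
        (LocalizedModule p.asIdeal.primeCompl M) : WithBot ℕ∞) + Formal2.dimBetween A p.asIdeal q.asIdeal :=
    fun p r q hpr hrq hp _ _ hq => (hc p q (hpr.trans hrq) hp ((hmem q).1 hq)).imp
      (fun h => by rw [Nat.cast_one]; exact h.le) id
  have h6 := Groth.Agent.S8797.result A hdc I a hIa d hcd M 1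
    (fun p q hpq hp hq => (hc p q hpq hp hq).imp (fun h => by rwa [Nat.cast_one]) id) T rfl
  have H1 := (Groth.Agent.S3384.result A hdc I d hcd M T hTI hT 1 h4 h6 1 le_rfl).1.2
  have H0 := Groth.Agent.S12220.result A hdc I d hcd M T hTI hT 1 h4 h6 0 (Nat.zero_le 1)
  intro y hy
  let s : ∀ n, Sec (Formal2.quotPow A I M n) U := fun n => g0 _ U (y n)
  have hs : ∀ n, secMap (Formal2.quotPowTrans A I M n) U (s (n + 1)) = s n := fun n => by
    rw [← g0_gmap, hy n]
  obtain ⟨x, hx⟩ := H1 (fun n => (htEquiv a 1 _).symm (dl a _ (s n))) fun n => by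
    apply (htEquiv a 1 (Formal2.quotPow A I M n)).injective
    rw [htEquiv_natural, LinearEquiv.apply_symm_apply, LinearEquiv.apply_symm_apply, ← dl_natural]
    exact congrArg (dl a _) (hs n)
  obtain ⟨t, ht⟩ := dl_surjective a (htEquiv a 1 M x)
  have hker : ∀ n, ∃ z, toS (Formal2.quotPow A I M n) U z = s n - secMap (Formal2.quotPowπ A I M n) U t :=
    fun n => LinearMap.mem_range.1 ((dl_eq_zero_iff a _).1 (by
      rw [map_sub, dl_natural, ht, ← htEquiv_natural, hx n, LinearEquiv.apply_symm_apply, sub_self]))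
  choose z hz using hker
  let P : ∀ n, AddSubgroup (Formal2.quotPow A I M n) := fun n => (powTors a (Formal2.quotPow A I M n)).toAddSubgroup
  have hP : ∀ {n l : ℕ} (h : n ≤ l) (v : Formal2.quotPow A I M l), v ∈ P l → qd I M h v ∈ P n := fun h v hv =>
    mem_powTors_iff.2 ((mem_powTors_iff.1 hv).imp fun k hk r hr => by rw [← map_smul, hk r hr, map_zero])
  have hML : ∀ n, ∃ (k : ℕ) (hk : n ≤ k), ∀ (l : ℕ) (hl : k ≤ l) (w : Formal2.quotPow A I M k), w ∈ P k →
      ∃ v ∈ P l, (qd I M (hk.trans hl)).toAddMonoidHom v = (qd I M hk).toAddMonoidHom w := by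
    intro n
    obtain ⟨k, hk, hst⟩ := H0 (n + 1)
    refine ⟨k, by omega, fun l hl w hw => ?_⟩
    let e := fun j => htEquiv a 0 (Formal2.quotPow A I M j)
    let W := (e k).symm ((zeroEquiv a _).symm ⟨w, hw⟩)
    have hWl := (Set.ext_iff.1 ((hst (k + 1) (by omega)).trans (hst (l + 1) (by omega)).symm) _).1 ⟨W, rfl⟩
    obtain ⟨V, hV⟩ := hWl
    refine ⟨zeroMap a _ (e l V), (range_zeroMap a _).le ⟨_, rfl⟩, ?_⟩
    have key : ∀ {j : ℕ} (h : n ≤ j) (u : Dual2.HT T 0 (Formal2.quotPow A I M j)),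
        zeroMap a _ (htEquiv a 0 (Formal2.quotPow A I M n)
          (((localCohomology.ofDiagram (Dual2.idealsInDiagram T) 0).map (ModuleCat.ofHom (qd I M h))) u)) =
        qd I M h (zeroMap a _ (htEquiv a 0 (Formal2.quotPow A I M j) u)) := fun h u => by
      rw [htEquiv_natural]
      exact zeroMap_natural a (qd I M h) _
    have h1 := congrArg (fun u => zeroMap a _ (htEquiv a 0 (Formal2.quotPow A I M n) u)) hV
    have h2 := (key (by omega : n ≤ l) V).symm.trans (h1.trans (key (by omega : n ≤ k) W))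
    rw [show htEquiv a 0 (Formal2.quotPow A I M k) W = (zeroEquiv a _).symm ⟨w, hw⟩ from (e k).apply_symm_apply _,
      zeroMap_symm] at h2
    exact h2
  have hz' : ∀ n, qd I M (Nat.le_succ n) (z (n + 1)) - z n ∈ P n := fun n => by
    refine (toS_eq_zero_iff a _).1 ?_
    rw [map_sub, qd_succ, ← secMap_toS, hz, hz, map_sub, hs, ← secMap_comp]
    exact sub_eq_zero.2 rfl
  obtain ⟨z', hz'1, hz'2⟩ := exists_compatible (X := fun n => Formal2.quotPow A I M n)
    (fun {n l} h => (qd I M h).toAddMonoidHom) (qd_refl I M) (fun h h' => qd_trans I M h h') P hP hML z hz'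
  choose m hm using fun n => Submodule.Quotient.mk_surjective _ (z' n)
  haveI := Compl.isAdicComplete_of_finite I M
  obtain ⟨L, hL⟩ := IsPrecomplete.prec' (I := I) m (by
    intro i j hij
    induction j, hij using Nat.le_induction with
    | base => exact SModEq.refl _
    | succ j hij ih =>
      refine ih.trans (SModEq.mono (Submodule.smul_mono_left (Ideal.pow_le_pow_right (by omega : i ≤ j + 1))) ?_)
      show Submodule.Quotient.mk (m j) = Submodule.Quotient.mk (m (j + 1))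
      rw [hm j, ← hz'2 j, ← hm (j + 1)]
      rfl)
  have hLz : ∀ n, Formal2.quotPowπ A I M n L = z' n := fun n => by
    have h1 : (Submodule.Quotient.mk (m (n + 1)) : Formal2.quotPow A I M n) = Submodule.Quotient.mk L := hL (n + 1)
    show Submodule.Quotient.mk L = _
    rw [← h1, ← hz'2 n, ← hm (n + 1)]
    rfl
  refine ⟨U, ⟨le_rfl, fun p hp _ => hp⟩, (g0 M U).symm (t + toS M U L), fun n => (g0 _ U).injective ?_⟩
  rw [g0_rs, g0_gmap, AddEquiv.apply_symm_apply, map_add, secMap_toS, hLz]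
  have h0 : toS (Formal2.quotPow A I M n) U (z' n) = toS _ U (z n) :=
    sub_eq_zero.1 (by rw [← map_sub]; exact (toS_eq_zero_iff a _).2 (hz'1 n))
  rw [h0, hz, add_sub_cancel]
  exact ConcreteCategory.congr_hom (((modulesSpecToSheaf.obj (tilde (R := CommRingCat.of A) (ModuleCat.of A (Formal2.quotPow A I M n)))).presheaf).map_id (op U)) _

end Groth.Agent.FormalColim28
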