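import Groth.Agent.Lib.FEtEq25.Graph
import Groth.Agent.Lib.FEtEq25.Points
import Groth.Agent.Lib.Pur25.Regular
import Groth.Agent.Lib.SerreCrit.Basic
import Groth.Agent.Lib.HLV27.Connect4
import Groth.Agent.Lib.FEtLimit25.EtaleSection
import Groth.Agent.Lib.MilnorFib6.AlgClosure
import Groth.Agent.Lib.Compl.Complete
import Groth.Agent.Lib.RootExt25.Point
import Groth.Agent.S17758
import Mathlib.AlgebraicGeometry.Morphisms.UniversallyOpen

/-!
# Linear sections of the punctured spectrum of a normal complete local domain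
-/

set_option autoImplicit false
set_option linter.style.haveILetI false
set_option linter.unusedSectionVars false
set_option backward.isDefEq.respectTransparency false
set_option backward.isDefEq.respectTransparency.types false

universe u

open CategoryTheory CategoryTheory.Limits AlgebraicGeometry TopologicalSpace Opposite IsLocalRing

noncomputable section

namespace Groth.Agent.LinSec28

open Groth.Agent

/-- Normality of an open subscheme. -/
theorem isNormalScheme_open {X : Scheme.{u}} (U : X.Opens) (hX : Pi1.IsNormalScheme X) :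
    Pi1.IsNormalScheme (U : Scheme.{u}) := fun x => by
  haveI := (hX x.1).1
  haveI := (hX x.1).2
  let e := (U.stalkIso x).commRingCatIsoToRingEquiv
  haveI : IsDomain ((U : Scheme.{u}).presheaf.stalk x) := MulEquiv.isDomain (X.presheaf.stalk x.1) e.toMulEquiv
  exact ⟨inferInstance, IsIntegrallyClosed.of_equiv e.symm⟩

variable {A : Type u} [CommRing A] [IsDomain A] [IsNoetherianRing A] [IsLocalRing A]
  [IsAdicComplete (maximalIdeal A) A]

/-- The punctured zero locus in a finite domain over a complete local domain is connected. -/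
theorem isConnected_finite_domain (R : Type u) [CommRing R] [IsDomain R] [Algebra A R] [Module.Finite A R]
    (hinj : Function.Injective (algebraMap A R)) {k : ℕ} (hdim : ((k + 2 : ℕ) : WithBot ℕ∞) ≤ ringKrullDim A)
    (f : Fin k → A) (hf : ∀ i, f i ∈ maximalIdeal A) :
    _root_.IsConnected {x : PrimeSpectrum R | (∀ i, algebraMap A R (f i) ∈ x.asIdeal) ∧
      ¬ (maximalIdeal A).map (algebraMap A R) ≤ x.asIdeal} := by
  haveI : HenselianLocalRing A := Hens.henselianLocalRing_iff.2 (IsAdicComplete.henselianRing _ _)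
  haveI := MilnorFib6.isLocalRing_of_finite_domain A R
  haveI : IsNoetherianRing R := IsNoetherianRing.of_finite A R
  haveI : Algebra.IsIntegral A R := Algebra.IsIntegral.of_finite A R
  let J := (maximalIdeal A).map (algebraMap A R)
  have hcm : (maximalIdeal R).comap (algebraMap A R) = maximalIdeal A :=
    eq_maximalIdeal (Ideal.isMaximal_comap_of_isIntegral_of_isMaximal (maximalIdeal R))
  have hJ : ∀ p : PrimeSpectrum R, J ≤ p.asIdeal ↔ p.asIdeal = maximalIdeal R := fun p => by
    refine ⟨fun h => ?_, fun h => h ▸ Ideal.map_le_iff_le_comap.2 hcm.ge⟩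
    have hc : p.asIdeal.comap (algebraMap A R) = maximalIdeal A :=
      le_antisymm (le_maximalIdeal (Ideal.IsPrime.comap _).ne_top) (Ideal.map_le_iff_le_comap.1 h)
    exact eq_maximalIdeal (Ideal.isMaximal_of_isIntegral_of_isMaximal_comap p.asIdeal
      (hc ▸ maximalIdeal.isMaximal A))
  have hrad : maximalIdeal R ≤ J.radical := by
    rw [Ideal.radical_eq_sInf]
    exact le_sInf fun p hp => ((hJ ⟨p, hp.2⟩).1 hp.1).ge
  obtain ⟨m, hm⟩ := Ideal.exists_pow_le_of_le_radical_of_fg hrad (IsNoetherian.noetherian _)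
  haveI := Compl.isAdicComplete_of_finite (maximalIdeal A) R
  haveI : IsAdicComplete J R := (IsAdicComplete.map_algebraMap_iff _ R).2 inferInstance
  haveI : IsAdicComplete (maximalIdeal R) R :=
    Compl.isAdicComplete_of_le_of_pow_le R (Ideal.map_le_iff_le_comap.2 hcm.ge) hm
  have hdimR : ringKrullDim R = ringKrullDim A := VarDim.ringKrullDim_eq_of_isIntegral hinj
  haveI : FiniteRingKrullDim A := inferInstance
  obtain ⟨d, hd⟩ : ∃ d : ℕ, ringKrullDim R = d := by
    rw [hdimR]
    obtain ⟨e, he⟩ := WithBot.ne_bot_iff_exists.1 (ringKrullDim_ne_bot (R := A))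
    obtain ⟨d, hd⟩ := ENat.ne_top_iff_exists.1 (show e ≠ ⊤ from fun h => ringKrullDim_ne_top (R := A) (by rw [← he, h]; rfl))
    exact ⟨d, by rw [← he, ← hd]; rfl⟩
  have hkd : k + 2 ≤ d := by
    rw [← hdimR, hd] at hdim
    exact_mod_cast hdim
  let g : Fin k → R := fun i => algebraMap A R (f i)
  have hg : Ideal.span (Set.range g) ≠ ⊤ := ne_top_of_le_ne_top (maximalIdeal.isMaximal R).ne_top
    (Ideal.span_le.2 (Set.range_subset_iff.2 fun i => hcm.ge (hf i)))
  convert S17758.result R d hd k hkd g (Ideal.span (Set.range g)) hg rfl using 1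
  ext x
  simp only [Set.mem_setOf_eq]
  rw [Ideal.span_le, Set.range_subset_iff, hJ]
  rfl

variable [IsIntegrallyClosed A] {k : ℕ} (hdim : ((k + 2 : ℕ) : WithBot ℕ∞) ≤ ringKrullDim A)
  (f : Fin k → A) (hf : ∀ i, f i ∈ maximalIdeal A)

/-- The closed subscheme cut out by `f` in the punctured spectrum. -/
abbrev secI : (↑(FEt.puncturedSpec A) : Scheme.{u}).IdealSheafData :=
  (Spec.map (CommRingCat.ofHom (Ideal.Quotient.mk (Ideal.span (Set.range f))))).ker.comap (FEt.puncturedSpec A).ι

omit [IsDomain A] [IsNoetherianRing A] [IsAdicComplete (maximalIdeal A) A] [IsIntegrallyClosed A] in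
theorem mem_support_iff (u : (↑(FEt.puncturedSpec A) : Scheme.{u})) :
    u ∈ ((secI f).support : Set _) ↔ ∀ i, f i ∈ ((FEt.puncturedSpec A).ι u : PrimeSpectrum A).asIdeal := by
  haveI : IsClosedImmersion (Spec.map (CommRingCat.ofHom (Ideal.Quotient.mk (Ideal.span (Set.range f))))) :=
    IsClosedImmersion.spec_of_surjective _ Ideal.Quotient.mk_surjective
  rw [Scheme.IdealSheafData.support_comap, TopologicalSpace.Closeds.coe_preimage, Set.mem_preimage,
    Scheme.Hom.support_ker, IsClosed.closure_eq (Scheme.Hom.isClosedEmbedding _).isClosed_range]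
  show _ ∈ Set.range (PrimeSpectrum.comap (Ideal.Quotient.mk (Ideal.span (Set.range f)))) ↔ _
  rw [range_comap_of_surjective _ _ Ideal.Quotient.mk_surjective, Ideal.mk_ker, PrimeSpectrum.mem_zeroLocus,
    SetLike.coe_subset_coe, Ideal.span_le, Set.range_subset_iff]
  rfl

include hdim hf in
theorem exists_clopen {Z : Scheme.{u}} (h : Z ⟶ (↑(FEt.puncturedSpec A) : Scheme.{u})) (hh : FEt.prop h)
    (C : Set ↥(pullback h (secI f).subschemeι)) (hC : IsClopen C) :
    ∃ D : Set Z, IsClopen D ∧ pullback.fst h (secI f).subschemeι ⁻¹' D = C := by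
  have hdim2 : (2 : WithBot ℕ∞) ≤ ringKrullDim A := le_trans (by exact_mod_cast Nat.le_add_left 2 k) hdim
  obtain ⟨n, x, hx⟩ := Pur25.exists_generators A
  let V : FEt.Cat (↑(FEt.puncturedSpec A) : Scheme.{u}) := MorphismProperty.Over.mk ⊤ h hh
  obtain ⟨hfin, -, j, hj, hjg, hjr⟩ := Pur25.sections_cover (SerreCrit.two_le_depth_of_normal A hdim2) hx V
  letI : Algebra A Γ(V.left, ⊤) := (Pur25.gΓ (V.hom ≫ (FEt.puncturedSpec A).ι)).hom.toAlgebra
  haveI := hfin
  haveI := hj
  let B := Γ(V.left, ⊤)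
  let jp : Z → PrimeSpectrum B := fun z => j z
  have hje : Topology.IsOpenEmbedding jp := j.isOpenEmbedding
  have hmem : ∀ q : PrimeSpectrum B, q ∈ Set.range jp ↔ ¬ (maximalIdeal A).map (algebraMap A B) ≤ q.asIdeal := by
    intro q
    rw [show Set.range jp = Set.range j from rfl, hjr]
    show (∃ i, algebraMap A B (x i) ∉ q.asIdeal) ↔ _
    rw [← hx, Ideal.map_span, Ideal.span_le, Set.not_subset]
    exact ⟨fun ⟨i, hi⟩ => ⟨_, ⟨x i, ⟨i, rfl⟩, rfl⟩, hi⟩, fun ⟨_, ⟨_, ⟨i, rfl⟩, rfl⟩, hi⟩ => ⟨i, hi⟩⟩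
  have hhj : ∀ z, ((FEt.puncturedSpec A).ι (h z) : PrimeSpectrum A).asIdeal = (jp z).asIdeal.comap (algebraMap A B) :=
    fun z => (congrArg (fun g : Z ⟶ Spec (CommRingCat.of A) => PrimeSpectrum.asIdeal (g z)) hjg).symm
  have huniq : ∀ (z : Z) (P Q : Ideal B), P ∈ minimalPrimes B → Q ∈ minimalPrimes B → P ≤ (jp z).asIdeal →
      Q ≤ (jp z).asIdeal → P = Q := by
    intro z P Q hP hQ hPz hQz
    haveI : Etale h := hh.2
    haveI := FEtLimit25.isDomain_stalk_of_etale h
      (isNormalScheme_open _ (RootExt25.isNormalScheme_spec A)) z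
    let S := Localization.AtPrime (jp z).asIdeal
    letI : Algebra B ((Spec B).presheaf.stalk (j z)) := StructureSheaf.stalkAlgebra (R := B) (j z)
    haveI : IsLocalization.AtPrime ((Spec B).presheaf.stalk (j z)) (jp z).asIdeal :=
      StructureSheaf.IsLocalization.to_stalk B (j z)
    haveI : IsDomain ((Spec B).presheaf.stalk (j z)) :=
      MulEquiv.isDomain (Z.presheaf.stalk z) (asIso (j.stalkMap z)).commRingCatIsoToRingEquiv.toMulEquiv
    haveI : IsDomain S := MulEquiv.isDomain ((Spec B).presheaf.stalk (j z))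
      (IsLocalization.algEquiv (jp z).asIdeal.primeCompl S ((Spec B).presheaf.stalk (j z))).toMulEquiv
    let P₀ : Ideal B := (⊥ : Ideal S).comap (algebraMap B S)
    have hP₀ : ∀ R : Ideal B, R ∈ minimalPrimes B → R ≤ (jp z).asIdeal → R = P₀ := by
      intro R hR hRz
      haveI := hR.1.1
      have hd : Disjoint ((jp z).asIdeal.primeCompl : Set B) (R : Set B) :=
        Set.disjoint_left.2 fun b hb hbR => hb (hRz hbR)
      have hle : P₀ ≤ R := by
        intro b hb
        rw [← IsLocalization.under_map_of_isPrime_disjoint (jp z).asIdeal.primeCompl S hR.1.1 hd]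
        show algebraMap B S b ∈ R.map (algebraMap B S)
        rw [show algebraMap B S b = 0 from hb]
        exact Submodule.zero_mem _
      exact le_antisymm (hR.2 ⟨Ideal.IsPrime.comap _, bot_le⟩ hle) hle
    rw [hP₀ P hP hPz, hP₀ Q hQ hQz]
  haveI : IsClosedImmersion (pullback.fst h (secI f).subschemeι) := inferInstance
  let p := pullback.fst h (secI f).subschemeι
  have hrange : ∀ z : Z, z ∈ Set.range p ↔ ∀ i, algebraMap A B (f i) ∈ (jp z).asIdeal := by
    intro z
    rw [show Set.range p = h ⁻¹' Set.range (secI f).subschemeι from Scheme.Pullback.range_fst _ _, Set.mem_preimage,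
      Scheme.IdealSheafData.range_subschemeι, mem_support_iff, hhj]
    exact Iff.rfl
  let T : Ideal B → Set Z := fun P => {z | z ∈ Set.range p ∧ P ≤ (jp z).asIdeal}
  have hTconn : ∀ P : Ideal B, P ∈ minimalPrimes B → (∃ z, P ≤ (jp z).asIdeal) → _root_.IsConnected (T P) := by
    intro P hP hz
    obtain ⟨z₀, hz₀⟩ := hz
    haveI := hP.1.1
    obtain ⟨z₁, hz₁⟩ : (⟨P, hP.1.1⟩ : PrimeSpectrum B) ∈ Set.range jp :=
      (hmem _).2 fun hm => (hmem _).1 ⟨z₀, rfl⟩ (hm.trans hz₀)
    have hinj : Function.Injective (algebraMap A (B ⧸ P)) := by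
      rw [RingHom.injective_iff_ker_eq_bot, eq_bot_iff]
      intro a ha
      rw [RingHom.mem_ker, IsScalarTower.algebraMap_apply A B (B ⧸ P), Ideal.Quotient.algebraMap_eq,
        Ideal.Quotient.eq_zero_iff_mem] at ha
      haveI : Etale h := hh.2
      let η : (↑(FEt.puncturedSpec A) : Scheme.{u}) := ⟨(⟨⊥, Ideal.isPrime_bot⟩ : PrimeSpectrum A), fun e => by
        have h0 : (⊥ : Ideal A) = maximalIdeal A := congrArg PrimeSpectrum.asIdeal e
        have h1 : ringKrullDim A ≤ 0 := Ring.krullDimLE_iff.1 (Ring.KrullDimLE.mk₀ fun I hI => by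
          have : I = ⊥ := le_antisymm (h0 ▸ le_maximalIdeal hI.ne_top) bot_le
          exact this ▸ h0 ▸ maximalIdeal.isMaximal A)
        exact absurd (hdim2.trans h1) (by norm_num)⟩
      have hsp : η ⤳ h z₁ := by
        rw [← (FEt.puncturedSpec A).ι.isOpenEmbedding.isInducing.specializes_iff]
        exact (PrimeSpectrum.le_iff_specializes _ _).1 bot_le
      obtain ⟨z', hz', hzη⟩ := Flat.generalizingMap h hsp
      have hle : (jp z').asIdeal ≤ P := by
        have := (PrimeSpectrum.le_iff_specializes (jp z') (jp z₁)).2 (hz'.map hje.continuous)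
        rw [hz₁] at this
        exact this
      have heq : (jp z').asIdeal = P := le_antisymm hle (hP.2 ⟨(jp z').isPrime, bot_le⟩ hle)
      have h5 := hhj z'
      rw [hzη, heq] at h5
      exact (Submodule.mem_bot A).2 ((show a ∈ (⊥ : Ideal A) from h5.symm.le ha))
    haveI : Module.Finite A (B ⧸ P) := Module.Finite.of_surjective (Ideal.Quotient.mkₐ A P).toLinearMap
      Ideal.Quotient.mk_surjective
    have hS := isConnected_finite_domain (B ⧸ P) hinj hdim f hf
    have himg : PrimeSpectrum.comap (Ideal.Quotient.mk P) '' {x : PrimeSpectrum (B ⧸ P) |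
        (∀ i, algebraMap A (B ⧸ P) (f i) ∈ x.asIdeal) ∧ ¬ (maximalIdeal A).map (algebraMap A (B ⧸ P)) ≤ x.asIdeal} =
        jp '' T P := by
      ext q
      constructor
      · rintro ⟨x, ⟨hx1, hx2⟩, rfl⟩
        obtain ⟨z, hz⟩ := (hmem (PrimeSpectrum.comap (Ideal.Quotient.mk P) x)).2 fun hle => hx2 (by
          rw [IsScalarTower.algebraMap_eq A B (B ⧸ P), ← Ideal.map_map]
          exact Ideal.map_le_iff_le_comap.2 hle)
        refine ⟨z, ⟨(hrange z).2 fun i => ?_, ?_⟩, hz⟩
        · rw [hz]; exact hx1 i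
        · rw [hz]
          intro b hb
          show Ideal.Quotient.mk P b ∈ x.asIdeal
          rw [Ideal.Quotient.eq_zero_iff_mem.2 hb]
          exact x.asIdeal.zero_mem
      · rintro ⟨z, ⟨hz1, hz2⟩, rfl⟩
        have hzc : jp z ∈ Set.range (PrimeSpectrum.comap (Ideal.Quotient.mk P)) := by
          rw [range_comap_of_surjective _ _ Ideal.Quotient.mk_surjective, Ideal.mk_ker]
          exact hz2
        obtain ⟨x, hx'⟩ := hzc
        refine ⟨x, ⟨fun i => ?_, fun hle => (hmem _).1 ⟨z, rfl⟩ ?_⟩, hx'⟩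
        · have := (hrange z).1 hz1 i
          rw [← hx'] at this
          exact this
        · rw [← hx']
          refine Ideal.map_le_iff_le_comap.1 ?_
          rw [Ideal.map_map, ← Ideal.Quotient.algebraMap_eq, ← IsScalarTower.algebraMap_eq]
          exact hle
    have hc := hS.image _ (PrimeSpectrum.continuous_comap (Ideal.Quotient.mk P)).continuousOn
    rw [himg] at hc
    exact ⟨hc.nonempty.of_image, hje.isInducing.isPreconnected_image.1 hc.isPreconnected⟩
  have hμ : ∀ z, ∃ P ∈ minimalPrimes B, P ≤ (jp z).asIdeal := fun z => by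
    obtain ⟨P, hP, hPz⟩ := Ideal.exists_minimalPrimes_le (bot_le : (⊥ : Ideal B) ≤ (jp z).asIdeal)
    exact ⟨P, hP, hPz⟩
  let piece : minimalPrimes B → Set Z := fun P => {z | (P : Ideal B) ≤ (jp z).asIdeal}
  have hclosed : ∀ P, IsClosed (piece P) := fun P =>
    (PrimeSpectrum.isClosed_zeroLocus ((P : Ideal B) : Set B)).preimage hje.continuous
  haveI : IsNoetherianRing B := IsNoetherianRing.of_finite A B
  haveI : Finite (minimalPrimes B) := (minimalPrimes.finite_of_isNoetherianRing B).to_subtype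
  have hopen : ∀ P, IsOpen (piece P) := fun P => by
    have hcompl : (piece P)ᶜ = ⋃ Q : {Q : minimalPrimes B // Q ≠ P}, piece Q.1 := by
      ext z
      simp only [Set.mem_compl_iff, Set.mem_iUnion]
      refine ⟨fun hz => ?_, fun hh => ?_⟩
      · obtain ⟨Q, hQ, hQz⟩ := hμ z
        exact ⟨⟨⟨Q, hQ⟩, fun e => hz (by show (P : Ideal B) ≤ _; rw [← e]; exact hQz)⟩, hQz⟩
      · obtain ⟨Q, hQ⟩ := hh
        exact fun hz => Q.2 (Subtype.ext (huniq z _ _ Q.1.2 P.2 hQ hz))
    rw [← isClosed_compl_iff, hcompl]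
    exact isClosed_iUnion_of_finite fun Q => hclosed _
  let good : Set (minimalPrimes B) := {P | (piece P ∩ p '' C).Nonempty}
  refine ⟨⋃ P : good, piece P.1, ⟨isClosed_iUnion_of_finite fun P => hclosed _, isOpen_iUnion fun P => hopen _⟩, ?_⟩
  ext w
  simp only [Set.mem_preimage, Set.mem_iUnion]
  refine ⟨?_, fun hw => ?_⟩
  · rintro ⟨⟨P, hP⟩, hw⟩
    obtain ⟨_, hy, c, hc, rfl⟩ := hP
    have hT := hTconn P.1 P.2 ⟨p w, hw⟩
    have hpe : Topology.IsClosedEmbedding p := p.isClosedEmbedding
    have hpre : _root_.IsPreconnected (p ⁻¹' T P.1) :=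
      hT.isPreconnected.preimage_of_isClosedMap hpe.injective hpe.isClosedMap fun z hz => hz.1
    have hsub : p ⁻¹' T P.1 ⊆ C := hpre.subset_isClopen hC ⟨c, ⟨⟨c, rfl⟩, hy⟩, hc⟩
    exact hsub ⟨⟨w, rfl⟩, hw⟩
  · obtain ⟨P, hP, hPw⟩ := hμ (p w)
    exact ⟨⟨⟨P, hP⟩, p w, hPw, w, hw, rfl⟩, hPw⟩

include hdim hf in
theorem main : ConnectedSpace ↥(secI f).subscheme ∧ (FEt.restrict (secI f).subschemeι).Full ∧
    (FEt.restrict (secI f).subschemeι).Faithful := by
  have hA := isConnected_finite_domain A Function.injective_id hdim f hf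
  let U := FEt.puncturedSpec A
  let ι := (secI f).subschemeι
  have hY : (fun y => (U.ι (ι y) : PrimeSpectrum A)) '' Set.univ = {x : PrimeSpectrum A |
      (∀ i, algebraMap A A (f i) ∈ x.asIdeal) ∧ ¬ (maximalIdeal A).map (algebraMap A A) ≤ x.asIdeal} := by
    ext x
    simp only [Set.image_univ, Set.mem_range, Set.mem_setOf_eq, Algebra.algebraMap_self, RingHom.id_apply, Ideal.map_id]
    constructor
    · rintro ⟨y, rfl⟩
      exact ⟨(mem_support_iff f _).1 ((secI f).range_subschemeι.le ⟨y, rfl⟩), fun hle =>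
        (ι y).2 (PrimeSpectrum.ext (le_antisymm (le_maximalIdeal (PrimeSpectrum.isPrime _).ne_top) hle))⟩
    · rintro ⟨h1, h2⟩
      obtain ⟨y, hy⟩ := (secI f).range_subschemeι.ge ((mem_support_iff f
        (⟨x, fun e => h2 (le_of_eq (congrArg PrimeSpectrum.asIdeal e).symm)⟩ : (U : Scheme.{u}))).2 h1)
      exact ⟨y, congrArg (fun u : (U : Scheme.{u}) => (U.ι u : PrimeSpectrum A)) hy⟩
  have hemb : Topology.IsEmbedding (fun y => (U.ι (ι y) : PrimeSpectrum A)) :=
    U.ι.isOpenEmbedding.isEmbedding.comp ι.isClosedEmbedding.isEmbedding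
  rw [← hY] at hA
  haveI hconn : ConnectedSpace ↥(secI f).subscheme :=
    { isPreconnected_univ := hemb.isInducing.isPreconnected_image.1 hA.isPreconnected
      toNonempty := by
        obtain ⟨y, -⟩ := hA.nonempty.of_image
        exact ⟨y⟩ }
  haveI : IrreducibleSpace ↥(Spec (CommRingCat.of A)) := PrimeSpectrum.irreducibleSpace
  have hT : ∀ S : Set ↥(U : Scheme.{u}), IsClopen S → S.Nonempty → (S ∩ Set.range ι).Nonempty := by
    intro S hS hne
    obtain ⟨y⟩ := hconn.toNonempty
    haveI : PreconnectedSpace ↥(U : Scheme.{u}) := by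
      refine ⟨U.ι.isOpenEmbedding.isInducing.isPreconnected_image.1 ?_⟩
      rw [Set.image_univ, Scheme.Opens.range_ι]
      exact (IsPreirreducible.open_subset (PreirreducibleSpace.isPreirreducible_univ) U.2
        (Set.subset_univ _)).isPreconnected
    rw [hS.eq_univ hne]
    exact ⟨ι y, trivial, y, rfl⟩
  exact ⟨hconn, FEtEq25.full_restrict _ hT fun h hh C hC => exists_clopen hdim f hf h hh C hC,
    FEtEq25.faithful_restrict _ hT⟩

end Groth.Agent.LinSec28
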