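import Groth.Agent.Lib.FormalCohH7.ColimExact
import Groth.Agent.Lib.FormalCohH7.Colim

/-!
# Formal sections near `V(I)`: the middle term of a short exact sequence
-/

set_option autoImplicit false
set_option backward.isDefEq.respectTransparency false

universe u

open CategoryTheory Limits AlgebraicGeometry TopologicalSpace Opposite

noncomputable section

namespace Groth.Agent.FormalColim28

open Groth.Agent.M1 Groth.Agent.CohFound Groth.Agent.LocCohSheafLib Groth.Agent.LocCohLib Groth.Agent.InjHullLib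
open Groth.Agent.FormalCohH7

variable {A : Type u} [CommRing A] (I : Ideal A)

theorem admissible_iff (a b : Ideal A) :
    Formal2.Admissible A I (LocCoh.puncturedOpen A a) (LocCoh.puncturedOpen A b) ↔
      LocCoh.puncturedOpen A b ≤ LocCoh.puncturedOpen A a ∧
        ∀ p : Ideal A, p.IsPrime → ¬ a ≤ p → I ≤ p → ¬ b ≤ p := by
  refine ⟨fun h => ⟨h.1, fun p hp hap hIp => ?_⟩, fun h => ⟨h.1, fun p hp hI => ?_⟩⟩
  · exact (mem_punctured_iff b _).1 (h.2 ⟨p, hp⟩ ((mem_punctured_iff a _).2 hap)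
      ((PrimeSpectrum.mem_zeroLocus _ _).2 (SetLike.coe_subset_coe.2 hIp)))
  · exact (mem_punctured_iff b p).2 (h.2 _ p.isPrime ((mem_punctured_iff a p).1 hp)
      (SetLike.coe_subset_coe.1 ((PrimeSpectrum.mem_zeroLocus _ _).1 hI)))

theorem pow_smul_quot {M : Type u} [AddCommGroup M] [Module A M] (n : ℕ) (r : A) (hr : r ∈ I ^ (n + 1))
    (x : Formal2.quotPow A I M n) : r • x = 0 := by
  obtain ⟨y, rfl⟩ := Submodule.Quotient.mk_surjective _ x
  rw [← Submodule.Quotient.mk_smul]
  exact (Submodule.Quotient.mk_eq_zero _).2 (Submodule.smul_mem_smul hr trivial)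

variable [IsNoetherianRing A]

theorem secMap_rho {M N : Type u} [AddCommGroup M] [Module A M] [AddCommGroup N] [Module A N]
    (φ : M →ₗ[A] N) {V W : (Spec (CommRingCat.of A)).Opens} (h : V ≤ W) (s : Sec M W) :
    secMap φ V (rho M h s) = rho N h (secMap φ W s) := by
  obtain ⟨x, rfl⟩ := (g0 M W).surjective s
  rw [← g0_rs, ← g0_gmap, ← g0_gmap, ← g0_rs]
  exact congrArg _ (mp_rs _ 0 h x)

/-- Sections supported on `V(I)` are determined near `V(I)`. -/
theorem eq_zero_of_rho {a b : Ideal A} (h : Formal2.Admissible A I (LocCoh.puncturedOpen A a) (LocCoh.puncturedOpen A b))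
    {M : Type u} [AddCommGroup M] [Module A M] (n : ℕ)
    (s : Sec (Formal2.quotPow A I M n) (LocCoh.puncturedOpen A a)) (hs : rho _ h.1 s = 0) : s = 0 := by
  obtain ⟨k, hk⟩ := exists_pow_smul_eq_toS a s
  refine eq_zero_of_pow_smul a s k fun r hr => ?_
  obtain ⟨q, hq⟩ := hk r hr
  rw [← hq]
  refine (toS_eq_zero_iff a q).2 ?_
  have hq0 : toS (R := A) _ (LocCoh.puncturedOpen A b) q = 0 := by
    rw [← rho_toS _ h.1, hq, map_smul, hs, smul_zero]
  obtain ⟨l, hl⟩ := mem_powTors_iff.1 ((toS_eq_zero_iff b q).1 hq0)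
  have hle : a ≤ (b ^ l ⊔ I ^ (n + 1)).radical := by
    rw [Ideal.radical_eq_sInf]
    refine le_sInf fun p ⟨hp, hpp⟩ => by_contra fun hap => ?_
    exact ((admissible_iff I a b).1 h).2 p hpp hap (hpp.le_of_pow_le (le_sup_right.trans hp))
      (hpp.le_of_pow_le (le_sup_left.trans hp))
  obtain ⟨e, he⟩ := Ideal.exists_pow_le_of_le_radical_of_fg hle (IsNoetherian.noetherian a)
  refine mem_powTors_iff.2 ⟨e, fun r' hr' => ?_⟩
  obtain ⟨r₁, h₁, r₂, h₂, rfl⟩ := Submodule.mem_sup.1 (he hr')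
  rw [add_smul, hl r₁ h₁, pow_smul_quot I n r₂ h₂, add_zero]

variable {M' M M'' : Type u} [AddCommGroup M'] [Module A M'] [AddCommGroup M] [Module A M] [AddCommGroup M'']
  [Module A M''] {f : M' →ₗ[A] M} {g : M →ₗ[A] M''}

variable (M) in
/-- Transition maps between levels. -/
def qLe {n m : ℕ} (h : n ≤ m) : Formal2.quotPow A I M m →ₗ[A] Formal2.quotPow A I M n :=
  Submodule.mapQ _ _ LinearMap.id (fun x hx => by
    rw [Submodule.comap_id]
    exact Submodule.smul_mono_left (Ideal.pow_le_pow_right (by omega)) hx)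

omit [IsNoetherianRing A] in
theorem secMap_qLe {U : (Spec (CommRingCat.of A)).Opens} (w : ∀ n, Sec (Formal2.quotPow A I M n) U)
    (hw : ∀ n, secMap (Formal2.quotPowTrans A I M n) U (w (n + 1)) = w n) (n : ℕ) :
    ∀ m (h : n ≤ m), secMap (qLe I M h) U (w m) = w n := by
  intro m h
  induction m, h using Nat.le_induction with
  | base =>
    obtain ⟨x, hx⟩ := (g0 _ U).surjective (w n)
    rw [show qLe I M (le_refl n) = LinearMap.id by
      ext z; simp only [qLe, LinearMap.coe_comp, Function.comp_apply, Submodule.mkQ_apply, Submodule.mapQ_apply, LinearMap.id_apply],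
      ← hx, ← g0_gmap, gmap_id]
  | succ m h ih =>
    rw [show qLe I M (h.trans (Nat.le_succ m)) = qLe I M h ∘ₗ Formal2.quotPowTrans A I M m by
      ext z
      simp only [qLe, Formal2.quotPowTrans, LinearMap.coe_comp, Function.comp_apply, Submodule.mkQ_apply,
        Submodule.mapQ_apply, LinearMap.id_apply], secMap_comp, hw m, ih]

/-- A compatible family killed by `g` comes from a compatible family. -/
theorem exists_lift_family [Module.Finite A M] (hf : Function.Injective f) (hg : Function.Surjective g)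
    (hfg : Function.Exact f g) {U : (Spec (CommRingCat.of A)).Opens}
    (w : ∀ n, Sec (Formal2.quotPow A I M n) U)
    (hw : ∀ n, secMap (Formal2.quotPowTrans A I M n) U (w (n + 1)) = w n)
    (h0 : ∀ n, secMap (qLin I g n) U (w n) = 0) :
    ∃ u : ∀ n, Sec (Formal2.quotPow A I M' n) U,
      (∀ n, secMap (Formal2.quotPowTrans A I M' n) U (u (n + 1)) = u n) ∧
      ∀ n, secMap (qLin I f n) U (u n) = w n := by
  let N : ℕ → Submodule A M' := fun j => Submodule.comap f (I ^ (j + 1) • ⊤)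
  let γ : ∀ j, (M' ⧸ N j) →ₗ[A] Formal2.quotPow A I M j := fun j =>
    (N j).liftQ ((I ^ (j + 1) • ⊤ : Submodule A M).mkQ ∘ₗ f) (fun x hx => (Submodule.Quotient.mk_eq_zero _).2 hx)
  have hγ : ∀ j, Function.Injective (γ j) := fun j => by
    rw [injective_iff_map_eq_zero]
    intro z
    obtain ⟨x, rfl⟩ := Submodule.Quotient.mk_surjective _ z
    intro hx
    exact (Submodule.Quotient.mk_eq_zero _).2 ((Submodule.Quotient.mk_eq_zero _).1 hx : f x ∈ _)
  have hgs : ∀ j, Function.Surjective (qLin I g j) := fun j z => by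
    obtain ⟨z, rfl⟩ := Submodule.Quotient.mk_surjective _ z
    obtain ⟨y, rfl⟩ := hg z
    exact ⟨Submodule.Quotient.mk y, rfl⟩
  have hex : ∀ j, Function.Exact (γ j) (qLin I g j) := fun j z => by
    obtain ⟨x, rfl⟩ := Submodule.Quotient.mk_surjective _ z
    constructor
    · intro hx
      have h1 : g x ∈ (I ^ (j + 1) • ⊤ : Submodule A M'') := (Submodule.Quotient.mk_eq_zero _).1 hx
      rw [← LinearMap.range_eq_top.2 hg, ← Submodule.map_top, ← Submodule.map_smul''] at h1
      obtain ⟨x', hx', hxx⟩ := h1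
      obtain ⟨y, hy⟩ := (hfg (x - x')).1 (by rw [map_sub, hxx, sub_self])
      refine ⟨Submodule.Quotient.mk y, ?_⟩
      show (Submodule.Quotient.mk (f y) : Formal2.quotPow A I M j) = _
      rw [hy, Submodule.Quotient.mk_sub, (Submodule.Quotient.mk_eq_zero _).2 hx', sub_zero]
    · rintro ⟨y, hy⟩
      obtain ⟨y, rfl⟩ := Submodule.Quotient.mk_surjective _ y
      rw [← hy]
      show (Submodule.Quotient.mk (g (f y)) : Formal2.quotPow A I M'' j) = 0
      rw [hfg.apply_apply_eq_zero, Submodule.Quotient.mk_zero]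
  choose u₀ hu₀ using fun j => exists_secMap_eq (hγ j) (hgs j) (hex j) U (w j) (h0 j)
  let τ : ∀ j, (M' ⧸ N (j + 1)) →ₗ[A] M' ⧸ N j := fun j => Submodule.mapQ _ _ LinearMap.id (fun x hx =>
    Submodule.smul_mono_left (Ideal.pow_le_pow_right (Nat.le_succ (j + 1))) hx)
  have hτ : ∀ j, secMap (τ j) U (u₀ (j + 1)) = u₀ j := fun j => secMap_injective (hγ j) U (by
    rw [← secMap_comp, show γ j ∘ₗ τ j = Formal2.quotPowTrans A I M j ∘ₗ γ (j + 1) by
      ext x
      simp only [γ, τ, Formal2.quotPowTrans, LinearMap.coe_comp, Function.comp_apply, Submodule.mkQ_apply,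
        Submodule.mapQ_apply, LinearMap.id_apply, Submodule.liftQ_apply],
      secMap_comp, hu₀, hu₀, hw])
  obtain ⟨c, hc⟩ := Ideal.exists_pow_inf_eq_pow_smul I (LinearMap.range f)
  have hN : ∀ n, N (c + n) ≤ (I ^ (n + 1) • ⊤ : Submodule A M') := fun n x hx => by
    have h1 : f x ∈ (I ^ (c + n + 1) • ⊤ ⊓ LinearMap.range f : Submodule A M) := ⟨hx, x, rfl⟩
    rw [hc (c + n + 1) (by omega), show c + n + 1 - c = n + 1 by omega] at h1
    have h2 : f x ∈ (I ^ (n + 1) • ⊤ : Submodule A M').map f := by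
      rw [Submodule.map_smul'', Submodule.map_top]
      exact Submodule.smul_mono le_rfl inf_le_right h1
    obtain ⟨y, hy, hxy⟩ := h2
    exact hf hxy ▸ hy
  let β : ∀ n, (M' ⧸ N (c + n)) →ₗ[A] Formal2.quotPow A I M' n := fun n => Submodule.mapQ _ _ LinearMap.id (hN n)
  refine ⟨fun n => secMap (β n) U (u₀ (c + n)), fun n => ?_, fun n => ?_⟩
  · rw [← secMap_comp, show Formal2.quotPowTrans A I M' n ∘ₗ β (n + 1) = β n ∘ₗ τ (c + n) by
      ext x
      simp only [β, τ, Formal2.quotPowTrans, LinearMap.coe_comp, Function.comp_apply, Submodule.mkQ_apply,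
        Submodule.mapQ_apply, LinearMap.id_apply]
      rfl, secMap_comp]
    exact congrArg _ (hτ (c + n))
  · rw [← secMap_comp, show qLin I f n ∘ₗ β n = qLe I M (Nat.le_add_left n c) ∘ₗ γ (c + n) by
      ext x
      simp only [β, γ, qLin, qLe, LinearMap.coe_comp, Function.comp_apply, Submodule.mkQ_apply,
        Submodule.mapQ_apply, LinearMap.id_apply, Submodule.liftQ_apply],
      secMap_comp, hu₀, secMap_qLe I w hw]

/-- Injectivity for the middle term. -/
theorem inj_middle [Module.Finite A M] (hf : Function.Injective f) (hg : Function.Surjective g)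
    (hfg : Function.Exact f g) (U : (Spec (CommRingCat.of A)).Opens) (h' : GColimInj I M' U)
    (h'' : GColimInj I M'' U) : GColimInj I M U := by
  intro V hV x hx
  obtain ⟨V', h, h0⟩ := h'' V hV (gmap g 0 V x) fun n => by
    rw [← gmap_comp, ← qLin_π, gmap_comp, hx n, map_zero]
  obtain ⟨z, hz⟩ := exists_of_gmap_g 0 V' hf hg hfg (rs _ 0 h.2 x) ((mp_rs _ 0 h.2 x).trans h0)
  obtain ⟨V'', k, k0⟩ := h' V' h.1 z fun n =>
    family_eq_zero I (V := V') hf (fun m => gmap (Formal2.quotPowπ A I M' m) 0 V' z)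
      (fun m => (gmap_comp 0 V' _ _ z).symm.trans (congrArg (fun φ => gmap φ 0 V' z) (by ext; rfl)))
      (fun m => by
        rw [← gmap_comp, qLin_π, gmap_comp, hz]
        exact (mp_rs _ 0 h.2 x).trans ((congrArg _ (hx m)).trans (map_zero _))) n
  refine ⟨V'', ⟨k.1, k.2.trans h.2⟩, ?_⟩
  rw [← rs_rs _ 0 h.2 k.2, ← hz]
  exact (mp_rs _ 0 k.2 z).symm.trans ((congrArg _ k0).trans (map_zero _))

/-- Formal sections are algebraic near every point of `V(I)`. -/
theorem exists_notMem_smul [Module.Finite A M] (hf : Function.Injective f) (hg : Function.Surjective g)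
    (hfg : Function.Exact f g) (a : Ideal A)
    (hs' : GColimSurj I M' (LocCoh.puncturedOpen A a)) (hs'' : GColimSurj I M'' (LocCoh.puncturedOpen A a))
    (Y : ∀ n, Sec (Formal2.quotPow A I M n) (LocCoh.puncturedOpen A a))
    (hY : ∀ n, secMap (Formal2.quotPowTrans A I M n) _ (Y (n + 1)) = Y n)
    (p : Ideal A) [hp : p.IsPrime] (hap : ¬ a ≤ p) (hIp : I ≤ p) :
    ∃ r ∉ p, ∃ m : M, ∀ n, toS (R := A) _ _ (Formal2.quotPowπ A I M n m) = r • Y n := by
  have ht : ∀ n (x : M), Formal2.quotPowTrans A I M n (Formal2.quotPowπ A I M (n + 1) x) =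
      Formal2.quotPowπ A I M n x := fun n x => rfl
  have hqg : ∀ n (x : M), qLin I g n (Formal2.quotPowπ A I M n x) = Formal2.quotPowπ A I M'' n (g x) :=
    fun n x => rfl
  have hqf : ∀ n (x : M'), qLin I f n (Formal2.quotPowπ A I M' n x) = Formal2.quotPowπ A I M n (f x) :=
    fun n x => rfl
  obtain ⟨V, hV, z, hz⟩ := hs'' (fun n => (g0 _ (LocCoh.puncturedOpen A a)).symm (secMap (qLin I g n) (LocCoh.puncturedOpen A a) (Y n))) fun n => (g0 _ (LocCoh.puncturedOpen A a)).injective (by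
    rw [g0_gmap, AddEquiv.apply_symm_apply, AddEquiv.apply_symm_apply, ← secMap_comp, ← qLin_trans,
      secMap_comp, hY n])
  obtain ⟨b, rfl⟩ := exists_eq_punctured V
  have hbp := ((admissible_iff I a b).1 hV).2 p hp hap hIp
  have hz' : ∀ n, rho _ hV.1 (secMap (qLin I g n) (LocCoh.puncturedOpen A a) (Y n)) =
      secMap (Formal2.quotPowπ A I M'' n) _ (g0 _ _ z) := fun n => by
    rw [← g0_gmap, ← hz n, g0_rs, AddEquiv.apply_symm_apply]
  obtain ⟨r, hr, m'', hm''⟩ := exists_smul_eq_toS b hbp (g0 M'' _ z)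
  obtain ⟨m, rfl⟩ := hg m''
  let w : ∀ n, Sec (Formal2.quotPow A I M n) (LocCoh.puncturedOpen A a) := fun n => r • Y n - toS (R := A) _ (LocCoh.puncturedOpen A a) (Formal2.quotPowπ A I M n m)
  have hw : ∀ n, secMap (Formal2.quotPowTrans A I M n) (LocCoh.puncturedOpen A a) (w (n + 1)) = w n := fun n => by
    simp only [w, map_sub, map_smul, secMap_toS, ht]
    rw [hY n]
  have hw0 : ∀ n, secMap (qLin I g n) (LocCoh.puncturedOpen A a) (w n) = 0 := fun n => eq_zero_of_rho I hV n _ (by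
    simp only [w, map_sub, map_smul, secMap_toS, hz' n]
    rw [rho_toS]
    rw [← map_smul, hm'', secMap_toS, hqg, sub_self])
  obtain ⟨u, hu, huw⟩ := exists_lift_family I hf hg hfg w hw hw0
  obtain ⟨V', hV', x, hx⟩ := hs' (fun n => (g0 _ (LocCoh.puncturedOpen A a)).symm (u n)) fun n => (g0 _ (LocCoh.puncturedOpen A a)).injective (by
    rw [g0_gmap, AddEquiv.apply_symm_apply, AddEquiv.apply_symm_apply, hu n])
  obtain ⟨b', rfl⟩ := exists_eq_punctured V'
  have hx' : ∀ n, rho _ hV'.1 (u n) = secMap (Formal2.quotPowπ A I M' n) _ (g0 _ _ x) := fun n => by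
    rw [← g0_gmap, ← hx n, g0_rs, AddEquiv.apply_symm_apply]
  obtain ⟨r', hr', m', hm'⟩ := exists_smul_eq_toS b' (((admissible_iff I a b').1 hV').2 p hp hap hIp) (g0 M' _ x)
  refine ⟨r' * r, hp.mul_notMem hr' hr, r' • m + f m', fun n => ?_⟩
  have key : r' • w n - toS (R := A) _ (LocCoh.puncturedOpen A a) (Formal2.quotPowπ A I M n (f m')) = 0 := eq_zero_of_rho I hV' n _ (by
    rw [map_sub, map_smul, ← huw n, ← secMap_rho, hx' n, ← map_smul, ← map_smul, hm', secMap_toS, secMap_toS,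
      rho_toS, hqf, sub_self])
  simp only [w, smul_sub, sub_sub, sub_eq_zero] at key
  rw [map_add, map_smul, map_add, map_smul, mul_smul, key]

/-- Surjectivity for the middle term. -/
theorem surj_middle [Module.Finite A M] (hf : Function.Injective f) (hg : Function.Surjective g)
    (hfg : Function.Exact f g) (a : Ideal A)
    (hi : GColimInj I M (LocCoh.puncturedOpen A a))
    (hs' : GColimSurj I M' (LocCoh.puncturedOpen A a)) (hs'' : GColimSurj I M'' (LocCoh.puncturedOpen A a)) :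
    GColimSurj I M (LocCoh.puncturedOpen A a) := by
  intro y hy
  let U := LocCoh.puncturedOpen A a
  let Y : ∀ n, Sec (Formal2.quotPow A I M n) U := fun n => g0 _ U (y n)
  have hY : ∀ n, secMap (Formal2.quotPowTrans A I M n) U (Y (n + 1)) = Y n := fun n => by
    show secMap _ U (g0 _ U (y (n + 1))) = g0 _ U (y n)
    rw [← g0_gmap]; exact congrArg _ (hy n)
  let Φ : M →ₗ[A] ∀ n, Sec (Formal2.quotPow A I M n) U :=
    LinearMap.pi fun n => toS (R := A) _ U ∘ₗ Formal2.quotPowπ A I M n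
  let J : Ideal A := Submodule.comap (LinearMap.toSpanSingleton A _ Y) (LinearMap.range Φ)
  let Q : Submodule A (∀ n, Sec (Formal2.quotPow A I M n) U) := LinearMap.range Φ ⊔ A ∙ Y
  let φ : M →ₗ[A] Q := Φ.codRestrict Q fun m => Submodule.mem_sup_left ⟨m, rfl⟩
  let K := Module.annihilator A (LinearMap.ker φ)
  let b := a * (K * J)
  have hJ : ∀ p : Ideal A, p.IsPrime → ¬ a ≤ p → I ≤ p → ¬ J ≤ p := fun p hp hap hIp h => by
    obtain ⟨r, hr, m, hm⟩ := exists_notMem_smul I hf hg hfg a hs' hs'' Y hY p hap hIp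
    exact hr (h ⟨m, funext hm⟩)
  have hK : ∀ p : Ideal A, p.IsPrime → ¬ a ≤ p → I ≤ p → ¬ K ≤ p := fun p hp hap hIp => by
    have := hp
    refine not_annihilator_le_of_torsion fun x => ?_
    obtain ⟨V, ⟨hV, hle⟩, h0⟩ := hi U ⟨le_rfl, fun _ h _ => h⟩ (eta M U x.1) fun n => (g0 _ U).injective (by
      rw [map_zero, g0_gmap, g0_eta, secMap_toS]
      exact congrFun (congrArg Subtype.val x.2) n)
    obtain ⟨b, rfl⟩ := exists_eq_punctured V
    obtain ⟨r, hr, h1⟩ := exists_smul_eq_zero_of_toS b (((admissible_iff I a b).1 hV).2 p hp hap hIp)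
      (m := x.1) (by rw [← rho_toS M hV.1, ← g0_eta, ← g0_rs, h0, map_zero])
    exact ⟨r, hr, Subtype.ext h1⟩
  have hadm : Formal2.Admissible A I U (LocCoh.puncturedOpen A b) :=
    (admissible_iff I a b).2 ⟨punctured_mono Ideal.mul_le_left, fun p hp hap hIp h => by
      rcases hp.mul_le.1 h with h | h
      · exact hap h
      rcases hp.mul_le.1 h with h | h
      · exact hK p hp hap hIp h
      · exact hJ p hp hap hIp h⟩
  have hbij := bijective_gmap_of_killed b φ
    (fun r hr x => Module.mem_annihilator.1 (Ideal.mul_le_left (Ideal.mul_le_right hr) : r ∈ K) x)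
    (fun r hr x => by
      obtain ⟨⟨q, hq⟩, rfl⟩ := Submodule.Quotient.mk_surjective _ x
      obtain ⟨_, ⟨m, rfl⟩, _, hs, rfl⟩ := Submodule.mem_sup.1 hq
      obtain ⟨t, rfl⟩ := Submodule.mem_span_singleton.1 hs
      obtain ⟨m', hm'⟩ := (Ideal.mul_le_right (Ideal.mul_le_right hr) : r ∈ J)
      rw [← Submodule.Quotient.mk_smul, Submodule.Quotient.mk_eq_zero]
      refine ⟨r • m + t • m', Subtype.ext ?_⟩
      show Φ (r • m + t • m') = r • (Φ m + t • Y)
      rw [map_add, map_smul, map_smul, hm', LinearMap.toSpanSingleton_apply, smul_add, smul_comm r t])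
  let Yq : Q := ⟨Y, Submodule.mem_sup_right (Submodule.mem_span_singleton_self Y)⟩
  obtain ⟨x, hx⟩ := hbij.2 ((g0 _ _).symm (toS (R := A) _ _ Yq))
  have hx' : secMap φ (LocCoh.puncturedOpen A b) (g0 M _ x) = toS (R := A) _ _ Yq := by
    rw [← g0_gmap, hx, AddEquiv.apply_symm_apply]
  refine ⟨_, hadm, x, fun n => (g0 _ _).injective ?_⟩
  rw [g0_rs, g0_gmap, ← sub_eq_zero]
  obtain ⟨k, hk⟩ := exists_pow_smul_eq_toS b (g0 M (LocCoh.puncturedOpen A b) x)
  refine eq_zero_of_pow_smul b _ k fun r hr => ?_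
  obtain ⟨m, hm⟩ := hk r hr
  have hmem : toS (R := A) _ (LocCoh.puncturedOpen A b) (φ m - r • Yq) = 0 := by
    rw [map_sub, map_smul, ← secMap_toS, hm, map_smul, hx', sub_self]
  obtain ⟨l, hl⟩ := mem_powTors_iff.1 ((toS_eq_zero_iff b _).1 hmem)
  refine eq_zero_of_pow_smul b _ l fun r' hr' => ?_
  have h1 : r' • (toS (R := A) _ U (Formal2.quotPowπ A I M n m) - r • Y n) = 0 :=
    congrFun (congrArg Subtype.val (hl r' hr')) n
  have h2 := congrArg (rho _ hadm.1) h1
  rw [map_zero, map_smul, map_sub, map_smul, rho_toS, ← secMap_toS, hm, map_smul, ← smul_sub] at h2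
  rw [← neg_sub, smul_neg, smul_neg, h2, neg_zero]

end Groth.Agent.FormalColim28
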