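import Groth.Agent.Lib.FormalColim28.LimH1
import Groth.Agent.Lib.Dlz27.DepthTwoMap
import Groth.Agent.S9540

/-!
# Formal sections near `V(I)` under a dimension condition on associated primes
-/

set_option autoImplicit false
set_option backward.isDefEq.respectTransparency false
set_option linter.style.haveILetI false

universe u

open CategoryTheory Limits AlgebraicGeometry TopologicalSpace Opposite

noncomputable section

namespace Groth.Agent.FormalColim28

open Groth.Agent.M1 Groth.Agent.CohFound Groth.Agent.LocCohSheafLib Groth.Agent.LocCohLib Groth.Agent.InjHullLib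
  Groth.Agent.FormalCohH7

attribute [local instance] HasDerivedCategory.standard

variable {A : Type u} [CommRing A] [IsNoetherianRing A] (I a : Ideal A)

/-- Bijectivity on the punctured spectrum. -/
abbrev Bij (M : Type u) [AddCommGroup M] [Module A M] : Prop :=
  Formal2.FormalCohColimBijective A I M 0 (LocCoh.puncturedOpen A a)

variable {I a} {M : Type u} [AddCommGroup M] [Module A M] [Module.Finite A M]

theorem bij_of_surj (h : GColimSurj I M (LocCoh.puncturedOpen A a)) : Bij I a M :=
  (formalCohColimBijective_iff I M _).2 ⟨gColimInj I M _, h⟩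

theorem surj_of_torsion (h : ∀ n, LocCoh.IsPowerTorsion a (Formal2.quotPow A I M n)) :
    GColimSurj I M (LocCoh.puncturedOpen A a) := by
  intro y _
  refine ⟨LocCoh.puncturedOpen A a, ⟨le_rfl, fun _ hp _ => hp⟩, 0, fun n => ?_⟩
  haveI := subsingleton_S_of_isPowerTorsion a (h n)
  exact (g0 _ _).injective (Subsingleton.elim _ _)

omit [Module.Finite A M] in
theorem surj_of_killed (hI : ∀ r ∈ I, ∀ x : M, r • x = 0) :
    GColimSurj I M (LocCoh.puncturedOpen A a) := by
  intro y hy
  have h0 : ∀ n, (I ^ (n + 1) • ⊤ : Submodule A M) = ⊥ := fun n => by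
    rw [Submodule.eq_bot_iff]
    exact fun x hx => Submodule.smul_induction_on hx
      (fun r hr z _ => hI r (Ideal.pow_le_self (Nat.succ_ne_zero n) hr) z) fun x y hx hy => by rw [hx, hy, add_zero]
  have hb : ∀ n, Function.Bijective (Formal2.quotPowπ A I M n) := fun n =>
    ⟨LinearMap.ker_eq_bot.1 (by rw [Submodule.ker_mkQ, h0]), Submodule.mkQ_surjective _⟩
  let E := fun n => LinearEquiv.ofBijective _ (hb n)
  let w := fun n => gmap (E n).symm.toLinearMap 0 (LocCoh.puncturedOpen A a) (y n)
  have hw : ∀ n, gmap (Formal2.quotPowπ A I M n) 0 _ (w n) = y n := fun n => by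
    rw [← gmap_comp, show Formal2.quotPowπ A I M n ∘ₗ (E n).symm.toLinearMap = LinearMap.id from
      LinearMap.ext (E n).apply_symm_apply, gmap_id]
  have hstep : ∀ n, w (n + 1) = w n := fun n => by
    show gmap _ 0 _ (y (n + 1)) = gmap _ 0 _ (y n)
    rw [← hy n, ← gmap_comp]
    congr 2
    refine LinearMap.ext fun z => (E n).injective ?_
    obtain ⟨z, rfl⟩ := (E (n + 1)).surjective z
    rw [LinearEquiv.coe_coe, LinearEquiv.symm_apply_apply, LinearMap.comp_apply, LinearEquiv.coe_coe,
      LinearEquiv.apply_symm_apply]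
    exact (qd_succ I M n ▸ qd_mk I M (Nat.le_succ n) z).symm
  have hall : ∀ n, w n = w 0 := fun n => by
    induction n with
    | zero => rfl
    | succ n ih => rw [hstep, ih]
  refine ⟨LocCoh.puncturedOpen A a, ⟨le_rfl, fun _ hp _ => hp⟩, w 0, fun n => (g0 _ _).injective ?_⟩
  rw [← hall n, hw, g0_rs]
  exact ConcreteCategory.congr_hom (((modulesSpecToSheaf.obj (tilde (R := CommRingCat.of A)
    (ModuleCat.of A (Formal2.quotPow A I M n)))).presheaf).map_id (op (LocCoh.puncturedOpen A a))) _

variable (I a) in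
/-- The primes where the comparison is not trivial. -/
def GSet : Set (PrimeSpectrum A) :=
  {p | ¬ I ≤ p.asIdeal ∧ ∃ r : PrimeSpectrum A, p ≤ r ∧ I ≤ r.asIdeal ∧ ¬ a ≤ r.asIdeal}

theorem notMem_GSet_mono {p q : PrimeSpectrum A} (hpq : p ≤ q) (hp : p ∉ GSet I a) : q ∉ GSet I a := by
  rintro ⟨hIq, r, hqr, hIr, har⟩
  exact hp ⟨fun h => hIq (h.trans hpq), r, hpq.trans hqr, hIr, har⟩

theorem surj_quotient_prime (p : Ideal A) [p.IsPrime] (hp : (⟨p, ‹_›⟩ : PrimeSpectrum A) ∉ GSet I a)
    (hN : ∀ r ∈ p, ∀ x : M, r • x = 0) : GColimSurj I M (LocCoh.puncturedOpen A a) := by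
  by_cases hIp : I ≤ p
  · exact surj_of_killed fun r hr => hN r (hIp hr)
  · have hrad : a ≤ (p ⊔ I).radical := by
      rw [Ideal.radical_eq_sInf]
      refine le_sInf fun q hq => ?_
      by_contra h
      exact hp ⟨hIp, ⟨q, hq.2⟩, le_sup_left.trans hq.1, le_sup_right.trans hq.1, h⟩
    obtain ⟨k, hk⟩ := Ideal.exists_pow_le_of_le_radical_of_fg hrad (IsNoetherian.noetherian _)
    refine surj_of_torsion fun n x => ⟨k * (n + 1), fun r hr => ?_⟩
    have hpow : ∀ m : ℕ, (p ⊔ I) ^ m ≤ p ⊔ I ^ m := by
      intro m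
      induction m with
      | zero => simp
      | succ m ih =>
        rw [pow_succ]
        refine (Ideal.mul_mono_left ih).trans ?_
        rw [Ideal.sup_mul, Ideal.mul_sup (I ^ m), ← pow_succ]
        exact sup_le (Ideal.mul_le_left.trans le_sup_left)
          (sup_le (Ideal.mul_le_right.trans le_sup_left) le_sup_right)
    rw [pow_mul] at hr
    obtain ⟨u, hu, v, hv, rfl⟩ := Submodule.mem_sup.1 (hpow _ (Ideal.pow_right_mono hk (n + 1) hr))
    obtain ⟨x, rfl⟩ := Submodule.Quotient.mk_surjective _ x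
    rw [← Submodule.Quotient.mk_smul, Submodule.Quotient.mk_eq_zero, add_smul, hN u hu, zero_add]
    exact Submodule.smul_mem_smul hv Submodule.mem_top

variable (hIa : I ≤ a)

include hIa in
theorem bij_of_exact {M' M M'' : Type u} [AddCommGroup M'] [Module A M'] [AddCommGroup M] [Module A M]
    [AddCommGroup M''] [Module A M''] [Module.Finite A M'] [Module.Finite A M] [Module.Finite A M'']
    {f : M' →ₗ[A] M} {g : M →ₗ[A] M''} (hf : Function.Injective f) (hg : Function.Surjective g)
    (hfg : Function.Exact f g) (h' : Bij I a M') (h'' : Bij I a M'') : Bij I a M :=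
  Groth.Agent.S9540.result A I a hIa M' M M'' f g hf hg hfg.linearMap_ker_eq.symm h' h''

include hIa in
/-- Modules supported away from `GSet`. -/
theorem bij_of_support : ∀ (M : Type u) [AddCommGroup M] [Module A M] [Module.Finite A M],
    (∀ p ∈ Module.support A M, p ∉ GSet I a) → Bij I a M := by
  intro M _ _ hfin
  refine IsNoetherianRing.induction_on_isQuotientEquivQuotientPrime A (motive := fun N _ _ _ =>
    (∀ p ∈ Module.support A N, p ∉ GSet I a) → Bij I a N) hfin ?_ ?_ ?_
  · intro N _ _ _ _ _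
    exact bij_of_surj (surj_of_killed fun r _ x => Subsingleton.elim _ _)
  · intro N _ _ _ p e h
    refine bij_of_surj (surj_quotient_prime p.asIdeal (h p ?_) fun r hr x => ?_)
    · rw [e.support_eq, Module.support_eq_zeroLocus, PrimeSpectrum.mem_zeroLocus, Ideal.annihilator_quotient]
    · apply e.injective
      obtain ⟨z, hz⟩ := Submodule.Quotient.mk_surjective _ (e x)
      rw [map_smul, map_zero, ← hz, ← Submodule.Quotient.mk_smul, Submodule.Quotient.mk_eq_zero]
      exact Ideal.mul_mem_right z _ hr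
  · intro N₁ _ _ _ N₂ _ _ _ N₃ _ _ _ f g hf hg hex h₁ h₃ h
    have hs := Module.support_of_exact hex hf hg
    exact bij_of_exact hIa hf hg hex (h₁ fun r hr => h r (hs ▸ Or.inl hr)) (h₃ fun r hr => h r (hs ▸ Or.inr hr))

theorem le_of_mem_support {N : Type u} [AddCommGroup N] [Module A N] [Module.Finite A N] {P : Ideal A}
    (hass : ∀ q ∈ associatedPrimes A N, q = P) (p : PrimeSpectrum A) (hp : p ∈ Module.support A N) :
    P ≤ p.asIdeal := by
  haveI : Nontrivial (LocalizedModule p.asIdeal.primeCompl N) := hp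
  obtain ⟨Q, hQ⟩ := associatedPrimes.nonempty (Localization.AtPrime p.asIdeal) (LocalizedModule p.asIdeal.primeCompl N)
  have hQp : Q.IsPrime := IsAssociatedPrime.isPrime hQ
  have h := Module.associatedPrimes.comap_mem_associatedPrimes_of_mem_associatedPrimes_of_isLocalizedModule_of_fg
    p.asIdeal.primeCompl (LocalizedModule.mkLinearMap p.asIdeal.primeCompl N) Q hQ (IsNoetherian.noetherian _)
  rw [← hass _ h]
  exact (Ideal.comap_mono (IsLocalRing.le_maximalIdeal hQp.ne_top)).trans
    (Localization.AtPrime.under_maximalIdeal (I := p.asIdeal)).le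

variable (hdc : ∃ ω : Dual.D A, Dual.IsDualizing A ω) [IsAdicComplete I A] (d : ℕ) (hcd : LocCoh.CdLE A I d)

include hIa hdc hcd in
/-- Coprimary modules. -/
theorem bij_coprimary (N : Type u) [AddCommGroup N] [Module A N] [Module.Finite A N] (P : PrimeSpectrum A)
    (hass : ∀ q ∈ associatedPrimes A N, q = P.asIdeal)
    (hgood : ∀ Q : PrimeSpectrum A, P ≤ Q → a ≤ Q.asIdeal →
      ((d + 1 : ℕ) : WithBot ℕ∞) < Formal2.dimBetween A P.asIdeal Q.asIdeal) : Bij I a N := by
  obtain ⟨ω, hω⟩ := hdc
  let Mo := Dlz27.model hω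
  let δ := Dlz27.deg hω Mo
  have hmono : StrictMono δ := Dlz27.deg_strictMono hω Mo
  let T' : Set (PrimeSpectrum A) := {q | P ≤ q ∧ δ P + 2 ≤ δ q}
  have hT' : StableUnderSpecialization T' := fun x y hxy hx => by
    have hle := (PrimeSpectrum.le_iff_specializes x y).2 hxy
    exact ⟨hx.1.trans hle, hx.2.trans (hmono.monotone hle)⟩
  have hdep1 : ∀ p : PrimeSpectrum A, p ≠ P →
      (1 : ℕ∞) ≤ LocCoh.depth (Localization.AtPrime p.asIdeal) (LocalizedModule p.asIdeal.primeCompl N) :=
    fun p hp => Order.one_le_iff_ne_zero.2 fun h0 =>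
      hp (PrimeSpectrum.ext (hass _ ((Dlz27.mem_associatedPrimes_iff_depth p N).2 h0)))
  obtain ⟨N', _, _, _, f, hbij, hdep⟩ := Dlz27.exists_map_depth_ge_two hω T' hT' N fun p q hpq hq _ =>
    hdep1 p fun e => by
      have h1 := Dlz27.deg_covBy hω Mo hpq
      have h2 := hq.2
      subst e
      show False
      simp only [δ] at h2
      omega
  have hf : Function.Injective f := by
    rw [injective_iff_map_eq_zero]
    intro x hx
    by_contra hne
    obtain ⟨q, hq, hle⟩ := exists_le_isAssociatedPrime_of_isNoetherianRing A x hne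
    have hPT : P ∉ T' := fun h => by have := h.2; omega
    have h1 : LocalizedModule.mkLinearMap P.asIdeal.primeCompl N x = 0 := (hbij P hPT).1 (by
      rw [LocalizedModule.mkLinearMap_apply, LocalizedModule.map_mk, hx, LocalizedModule.zero_mk, map_zero])
    obtain ⟨s, hs⟩ := (IsLocalizedModule.eq_zero_iff P.asIdeal.primeCompl _).1 h1
    refine s.2 ?_
    have h2 : (s : A) ∈ (Submodule.colon (⊥ : Submodule A N) {x}) := by
      rw [Submodule.mem_colon_singleton, Submodule.mem_bot]; exact hs
    have h3 := hle h2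
    rw [hass q hq] at h3
    exact h3
  have hcond : Cond d I a N' := by
    intro p q hpq hIp haq
    by_cases hpT : p ∈ T'
    · exact Or.inl (lt_of_lt_of_le (by norm_num) (hdep p hpT))
    rw [← Dlz27.depth_eq_of_bijective f p (hbij p hpT)]
    by_cases hPp : P ≤ p
    · right
      have hg := hgood q (hPp.trans hpq) haq
      rw [← Bootstrap27.krullDim_Icc_eq_dimBetween, Dlz27.krullDim_Icc hω Mo P q (hPp.trans hpq)] at hg
      rw [← Bootstrap27.krullDim_Icc_eq_dimBetween, Dlz27.krullDim_Icc hω Mo p q hpq]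
      have hg' : d + 1 < (δ q - δ P).toNat := Nat.cast_lt.1 (WithBot.coe_lt_coe.1 hg)
      cases hn : LocCoh.depth (Localization.AtPrime p.asIdeal) (LocalizedModule p.asIdeal.primeCompl N) with
      | top => rw [← WithBot.coe_add, top_add]; exact WithBot.coe_lt_coe.2 (ENat.natCast_lt_top _)
      | coe n =>
        rw [← WithBot.coe_add, ← Nat.cast_add]
        refine WithBot.coe_lt_coe.2 (Nat.cast_lt.2 ?_)
        show d + 1 < n + (δ q - δ p).toNat
        have hp2 : δ p < δ P + 2 := lt_of_not_ge fun h => hpT ⟨hPp, h⟩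
        rcases eq_or_ne p P with rfl | hne
        · omega
        · have h1 := hdep1 p hne
          rw [hn] at h1
          have h1' : 1 ≤ n := by exact_mod_cast h1
          have := hmono (lt_of_le_of_ne hPp hne.symm)
          omega
    · left
      haveI : Subsingleton (LocalizedModule p.asIdeal.primeCompl N) := by
        by_contra h
        exact hPp (le_of_mem_support hass p (not_subsingleton_iff_nontrivial.1 h))
      rw [Dlz27.depth_eq_top_of_subsingleton p N]
      exact ENat.natCast_lt_top 1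
  have hN' := gColimSurj_of_cond ⟨ω, hω⟩ hIa d hcd hcond
  exact bij_of_surj (colim_of_middle_right I hf (Submodule.mkQ_surjective (LinearMap.range f))
    f.exact_map_mkQ_range _ (gColimInj I N' _) hN' (gColimInj I _ _)).2

include hIa hdc hcd in
/-- Modules whose associated primes are good. -/
theorem bij_of_good : ∀ (n : ℕ) (M : Type u) [AddCommGroup M] [Module A M] [Module.Finite A M],
    (associatedPrimes A M).ncard ≤ n →
    (∀ p : PrimeSpectrum A, p.asIdeal ∈ associatedPrimes A M → ∀ Q : PrimeSpectrum A, p ≤ Q → a ≤ Q.asIdeal →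
      ((d + 1 : ℕ) : WithBot ℕ∞) < Formal2.dimBetween A p.asIdeal Q.asIdeal) → Bij I a M := by
  intro n
  induction n with
  | zero =>
    intro M _ _ _ hn _
    have : Subsingleton M := by
      rw [← not_nontrivial_iff_subsingleton]
      intro h
      exact (associatedPrimes.nonempty A M).ne_empty
        ((Set.ncard_eq_zero (associatedPrimes.finite A M)).1 (Nat.le_zero.1 hn))
    exact bij_of_surj (surj_of_killed fun r _ x => Subsingleton.elim _ _)
  | succ n ih =>
    intro M _ _ _ hn hgood
    rcases (associatedPrimes A M).eq_empty_or_nonempty with he | ⟨p, hp⟩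
    · exact ih M (by rw [he]; simp) hgood
    let P : PrimeSpectrum A := ⟨p, IsAssociatedPrime.isPrime hp⟩
    let 𝒦 : Set (Submodule A M) := {K | associatedPrimes A K ⊆ associatedPrimes A M \ {p}}
    obtain ⟨K, hK, hmax⟩ := WellFounded.has_min (wellFounded_gt (α := Submodule A M)) 𝒦 ⟨⊥, fun q hq => by
      exact absurd hq (by rw [associatedPrimes.eq_empty_of_subsingleton]; exact Set.notMem_empty q)⟩
    have hquot : ∀ q ∈ associatedPrimes A (M ⧸ K), q = p := by
      intro r hr
      by_contra hrp
      obtain ⟨hrprime, x, hx⟩ := isAssociatedPrime_iff.1 hr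
      obtain ⟨x, rfl⟩ := Submodule.Quotient.mk_surjective _ x
      have hmem : ∀ c : A, c ∈ r ↔ c • x ∈ K := fun c => by
        rw [hx, Submodule.mem_colon_singleton, Submodule.mem_bot, ← Submodule.Quotient.mk_smul,
          Submodule.Quotient.mk_eq_zero]
      have hxK : x ∉ K := fun h => hrprime.ne_top ((Ideal.eq_top_iff_one r).2 ((hmem 1).2 (by rwa [one_smul])))
      refine hmax (K ⊔ Submodule.span A {x}) (fun q hq => ?_)
        (lt_of_le_of_ne le_sup_left fun h => hxK (h ▸ Submodule.mem_sup_right (Submodule.mem_span_singleton_self x)))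
      have hqM : q ∈ associatedPrimes A M :=
        associatedPrimes.subset_of_injective (K ⊔ Submodule.span A {x}).injective_subtype hq
      refine ⟨hqM, fun hqp => ?_⟩
      obtain ⟨hqprime, ⟨y, hy⟩, hyq⟩ := isAssociatedPrime_iff.1 hq
      have hyq' : ∀ c : A, c ∈ q ↔ c • y = 0 := fun c => by
        rw [hyq, Submodule.mem_colon_singleton, Submodule.mem_bot]
        exact ⟨fun h => congrArg Subtype.val h, fun h => Subtype.ext h⟩
      by_cases hcap : ∃ c : A, c ∉ q ∧ c • y ∈ K
      · obtain ⟨c, hc, hcy⟩ := hcap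
        refine (hK (isAssociatedPrime_iff.2 ⟨hqprime, ⟨c • y, hcy⟩, ?_⟩)).2 hqp
        ext e
        rw [Submodule.mem_colon_singleton, Submodule.mem_bot]
        refine ⟨fun he => Subtype.ext ?_, fun he => ?_⟩
        · show e • c • y = 0
          rw [smul_comm, (hyq' e).1 he, smul_zero]
        · have h : e • c • y = 0 := congrArg Subtype.val he
          rw [← mul_smul, ← hyq' (e * c)] at h
          exact (hqprime.mem_or_mem h).resolve_right hc
      · push Not at hcap
        obtain ⟨k, hk, z, hz, rfl⟩ := Submodule.mem_sup.1 hy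
        obtain ⟨c₀, rfl⟩ := Submodule.mem_span_singleton.1 hz
        refine hrp ?_
        rw [← show q = p from hqp]
        have hKiff : ∀ c : A, c • (k + c₀ • x) ∈ K ↔ c * c₀ ∈ r := fun c => by
          rw [smul_add, K.add_mem_iff_right (K.smul_mem c hk), smul_smul, hmem]
        have hc₀ : c₀ ∉ r := fun h => hcap 1 ((Ideal.ne_top_iff_one q).1 hqprime.ne_top)
          ((hKiff 1).2 (by rw [one_mul]; exact h))
        ext c
        constructor
        · intro hc
          by_contra hcq
          exact hcap c hcq ((hKiff c).2 (r.mul_mem_right _ hc))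
        · intro hc
          refine (hrprime.mem_or_mem ((hKiff c).1 ?_)).resolve_right hc₀
          rw [(hyq' c).1 hc]
          exact K.zero_mem
    refine bij_of_exact hIa K.injective_subtype K.mkQ_surjective (LinearMap.exact_subtype_mkQ K) (ih K ?_ ?_)
      (bij_coprimary hIa hdc d hcd (M ⧸ K) P hquot (hgood P hp))
    · have h1 := Set.ncard_le_ncard hK ((associatedPrimes.finite A M).diff)
      rw [Set.ncard_diff_singleton_of_mem hp] at h1
      omega
    · exact fun q hq => hgood q (hK hq).1

include hIa hdc hcd in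
/-- The main statement. -/
theorem formalCohColimBijective (M : Type u) [AddCommGroup M] [Module A M] [Module.Finite A M]
    (h₂ : ∀ p ∈ associatedPrimes A M, ¬ a ≤ p → ¬ I ≤ p →
      (∃ r : Ideal A, r.IsPrime ∧ p ≤ r ∧ I ≤ r ∧ ¬ a ≤ r) →
        ∀ (q : Ideal A) [q.IsPrime], p ≤ q → a ≤ q → ((d + 1 : ℕ) : WithBot ℕ∞) < Formal2.dimBetween A p q) :
    Bij I a M := by
  classical
  let M₁ : Submodule A M :=
    { carrier := {m | ∀ p ∈ GSet I a, ∃ s ∉ p.asIdeal, s • m = 0}
      zero_mem' := fun p _ => ⟨1, (Ideal.ne_top_iff_one _).1 p.isPrime.ne_top, smul_zero _⟩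
      add_mem' := fun {x y} hx hy p hp => by
        obtain ⟨s, hs, hsx⟩ := hx p hp
        obtain ⟨t, ht, hty⟩ := hy p hp
        exact ⟨s * t, p.isPrime.mul_notMem hs ht,
          by rw [smul_add, mul_comm s t, mul_smul, hsx, mul_comm t s, mul_smul, hty, smul_zero, smul_zero, add_zero]⟩
      smul_mem' := fun c x hx p hp => by
        obtain ⟨s, hs, hsx⟩ := hx p hp
        exact ⟨s, hs, by rw [smul_comm, hsx, smul_zero]⟩ }
  have h1 : Bij I a M₁ := bij_of_support hIa M₁ fun p hp hpG => by
    obtain ⟨⟨m, hm⟩, h⟩ := Module.mem_support_iff'.1 hp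
    obtain ⟨s, hs, hsm⟩ := hm p hpG
    exact h s hs (Subtype.ext hsm)
  have h2 : ∀ q : PrimeSpectrum A, q.asIdeal ∈ associatedPrimes A (M ⧸ M₁) →
      q ∈ GSet I a ∧ q.asIdeal ∈ associatedPrimes A M := by
    intro q hq
    obtain ⟨-, x, hx⟩ := isAssociatedPrime_iff.1 hq
    obtain ⟨x, rfl⟩ := Submodule.Quotient.mk_surjective _ x
    have hmem : ∀ c : A, c ∈ q.asIdeal ↔ c • x ∈ M₁ := fun c => by
      rw [hx, Submodule.mem_colon_singleton, Submodule.mem_bot, ← Submodule.Quotient.mk_smul,
        Submodule.Quotient.mk_eq_zero]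
    have hxM : x ∉ M₁ := fun h => (Ideal.ne_top_iff_one _).1 q.isPrime.ne_top ((hmem 1).2 (by rwa [one_smul]))
    have hqG : q ∈ GSet I a := by
      by_contra hqG
      refine hxM fun p hp => ?_
      obtain ⟨t, htq, htp⟩ := SetLike.not_le_iff_exists.1 fun h : q.asIdeal ≤ p.asIdeal =>
        notMem_GSet_mono (show q ≤ p from h) hqG hp
      obtain ⟨s, hs, hst⟩ := (hmem t).1 htq p hp
      exact ⟨s * t, p.isPrime.mul_notMem hs htp, by rw [mul_smul, hst]⟩
    refine ⟨hqG, ?_⟩
    obtain ⟨S, hS⟩ := IsNoetherian.noetherian q.asIdeal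
    choose s hs hst using fun t : S => (hmem t.1).1 (hS ▸ Submodule.subset_span t.2) q hqG
    let σ := ∏ t : S, s t
    have hσ : σ ∉ q.asIdeal := fun h => by
      obtain ⟨t, -, ht⟩ := (Ideal.IsPrime.prod_mem_iff (hp := q.isPrime)).1 h
      exact hs t ht
    refine isAssociatedPrime_iff.2 ⟨q.isPrime, σ • x, ?_⟩
    ext c
    rw [Submodule.mem_colon_singleton, Submodule.mem_bot]
    constructor
    · intro hc
      have hle : q.asIdeal ≤ LinearMap.ker (LinearMap.toSpanSingleton A M (σ • x)) := by
        rw [← hS, Submodule.span_le]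
        intro t ht
        show t • σ • x = 0
        rw [show σ = (∏ e ∈ Finset.univ.erase (⟨t, ht⟩ : S), s e) * s ⟨t, ht⟩ from
          (Finset.prod_erase_mul _ _ (Finset.mem_univ _)).symm, mul_smul, smul_comm t, smul_comm t,
          hst ⟨t, ht⟩, smul_zero]
      exact hle hc
    · intro hc
      have : c * σ ∈ q.asIdeal := (hmem _).2 (by rw [mul_smul, hc]; exact M₁.zero_mem)
      exact (q.isPrime.mem_or_mem this).resolve_right hσ
  refine bij_of_exact hIa M₁.injective_subtype M₁.mkQ_surjective (LinearMap.exact_subtype_mkQ M₁) h1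
    (bij_of_good hIa hdc d hcd _ (M ⧸ M₁) le_rfl fun p hp Q hpQ haQ => ?_)
  obtain ⟨⟨hIp, r, hpr, hIr, har⟩, hpM⟩ := h2 p hp
  exact h₂ p.asIdeal hpM (fun h => har (h.trans hpr)) hIp ⟨r.asIdeal, r.isPrime, hpr, hIr, har⟩ Q.asIdeal hpQ haQ

end Groth.Agent.FormalColim28
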