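import Groth.Agent.Lib.FormalColim28.NhdRed
import Groth.Agent.Lib.FormalColim28.Main
import Groth.Agent.Lib.FormalCohH7.Colim

/-!
# Formal functions near the hypersurface from the colimit comparison
-/

set_option autoImplicit false
set_option backward.isDefEq.respectTransparency false
set_option backward.isDefEq.respectTransparency.types false
set_option linter.style.haveILetI false

universe u

open CategoryTheory Limits AlgebraicGeometry TopologicalSpace Opposite

noncomputable section

namespace Groth.Agent.FormalColim28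

open Groth.Agent.M1 Groth.Agent.CohFound Groth.Agent.LocCohSheafLib Groth.Agent.LocCohLib Groth.Agent.InjHullLib
  Groth.Agent.FormalCohH7

variable {A : Type u} [CommRing A] [IsNoetherianRing A] {ι : Type} {x : ι → A} {a : Ideal A}
  {M : Type u} [AddCommGroup M] [Module A M]

theorem le_radical_of_forall_mem (hx : Ideal.span (Set.range x) = a) {J : Ideal A}
    (h : ∀ i, ∃ p : ℕ, x i ^ p ∈ J) : a ≤ J.radical := by
  rw [← hx, Ideal.span_le]
  rintro _ ⟨i, rfl⟩
  exact h i

theorem eq_zero_of_forall (hx : Ideal.span (Set.range x) = a) (s : Sec M (LocCoh.puncturedOpen A a))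
    (h : ∀ i, ∃ p : ℕ, x i ^ p • s = 0) : s = 0 := by
  obtain ⟨n, hn⟩ := Ideal.exists_pow_le_of_le_radical_of_fg
    (le_radical_of_forall_mem hx (J := LinearMap.ker (LinearMap.toSpanSingleton A _ s)) h) (IsNoetherian.noetherian _)
  exact eq_zero_of_pow_smul a s n fun r hr => hn hr

omit [IsNoetherianRing A] in
theorem pow_smul_injective {W : (Spec (CommRingCat.of A)).Opens} {g : A} (hW : W = bo (R := CommRingCat.of A) g)
    (n : ℕ) : Function.Injective fun s : Sec M W => g ^ n • s := by
  subst hW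
  exact (rho_bijOn_bo M g n).1

theorem exists_glue_num (hx : Ideal.span (Set.range x) = a) (k : ℕ) (m : ι → M)
    (h : ∀ i j, x j ^ k • m i = x i ^ k • m j) :
    ∃ s : Sec M (LocCoh.puncturedOpen A a), ∀ i, x i ^ k • s = toS M (LocCoh.puncturedOpen A a) (m i) := by
  have hle : ∀ i, bo (R := CommRingCat.of A) (x i) ≤ LocCoh.puncturedOpen A a := fun i =>
    bo_le_punctured (hx ▸ Ideal.subset_span ⟨i, rfl⟩)
  choose t ht using fun i => (rho_bijOn_bo M (x i) k).2 (toS M (bo (R := CommRingCat.of A) (x i)) (m i))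
  obtain ⟨s, hs, -⟩ := TopCat.Sheaf.existsUnique_gluing'
    (modulesSpecToSheaf.obj (tilde (R := CommRingCat.of A) (ModuleCat.of A M)))
    (fun i => bo (R := CommRingCat.of A) (x i)) (LocCoh.puncturedOpen A a) (fun i => homOfLE (hle i))
    (fun p hp => Opens.mem_iSup.2 (by
      by_contra hc
      push Not at hc
      refine (FormalCohH7.mem_punctured_iff a p).1 hp ?_
      rw [← hx, Ideal.span_le]
      rintro _ ⟨i, rfl⟩
      exact not_not.1 (hc i)))
    t (fun i j => by
      show rho (R := A) M (inf_le_left : bo (R := CommRingCat.of A) (x i) ⊓ bo (R := CommRingCat.of A) (x j) ≤ _) (t i) = rho (R := A) M (inf_le_right : bo (R := CommRingCat.of A) (x i) ⊓ bo (R := CommRingCat.of A) (x j) ≤ _) (t j)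
      refine pow_smul_injective (g := x i * x j) (PrimeSpectrum.basicOpen_mul (x i) (x j)).symm k ?_
      show (x i * x j) ^ k • rho (R := A) M (inf_le_left : bo (R := CommRingCat.of A) (x i) ⊓ bo (R := CommRingCat.of A) (x j) ≤ _) (t i) = (x i * x j) ^ k • rho (R := A) M (inf_le_right : bo (R := CommRingCat.of A) (x i) ⊓ bo (R := CommRingCat.of A) (x j) ≤ _) (t j)
      rw [mul_pow, mul_smul, smul_comm, ← map_smul, show x i ^ k • t i = _ from ht i, rho_toS, ← map_smul, h i j,
        mul_smul, ← map_smul (rho (R := A) M (inf_le_right : bo (R := CommRingCat.of A) (x i) ⊓ bo (R := CommRingCat.of A) (x j) ≤ _)), show x j ^ k • t j = _ from ht j, rho_toS, map_smul])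
  refine ⟨s, fun i => sub_eq_zero.1 (eq_zero_of_forall hx _ fun j => ?_)⟩
  have key : rho M (hle j) (x i ^ k • s - toS (R := A) M (LocCoh.puncturedOpen A a) (m i)) = 0 := by
    refine (rho_bijOn_bo M (x j) k).1 ?_
    show x j ^ k • rho M (hle j) (x i ^ k • s - toS (R := A) M (LocCoh.puncturedOpen A a) (m i)) = x j ^ k • (0 : Sec M _)
    rw [smul_zero, map_sub, map_smul, show rho M (hle j) s = t j from hs j, rho_toS, smul_sub, smul_comm,
      show x j ^ k • t j = _ from ht j, ← map_smul, ← map_smul, h i j, sub_self]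
  exact exists_pow_smul_eq_zero M (x j) _ (rho_eq_zero_mono M (hle j) inf_le_right key)

variable {t : A} {N : Ideal A}

/-- A colimit comparison gives formal functions near points of `V(t)`. -/
theorem nearR_of_surj (hx : Ideal.span (Set.range x) = a)
    (hb : GColimSurj (Ideal.span {t}) (A ⧸ N) (LocCoh.puncturedOpen A a))
    (q : PrimeSpectrum A) (htq : t ∈ q.asIdeal) (hqx : ∃ i, x i ∉ q.asIdeal) :
    NearR x t N q := by
  let M := A ⧸ N
  let U := LocCoh.puncturedOpen A a
  let π : ∀ n, A →ₗ[A] Formal2.quotPow A (Ideal.span {t}) M n := fun n => prj t M n ∘ₗ Submodule.mkQ N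
  have hπs : ∀ n, Function.Surjective (π n) := fun n =>
    (Submodule.mkQ_surjective _).comp (Submodule.mkQ_surjective _)
  have hπ : ∀ n z, π n z = 0 ↔ z ∈ Lef25.thick t n ⊔ N := fun n z => by
    show prj t M n (Submodule.mkQ N z) = 0 ↔ _
    rw [prj_eq_zero_iff, Lef25.thick_eq, Submodule.mem_sup]
    constructor
    · rintro ⟨w, hw⟩
      obtain ⟨w, rfl⟩ := Submodule.mkQ_surjective _ w
      exact ⟨t ^ (n + 1) * w, Ideal.mem_span_singleton'.2 ⟨w, mul_comm _ _⟩, z - t ^ (n + 1) * w,
        (Submodule.Quotient.eq _).1 hw.symm, add_sub_cancel _ _⟩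
    · rintro ⟨_, hu, v, hv, rfl⟩
      obtain ⟨w, rfl⟩ := Ideal.mem_span_singleton'.1 hu
      exact ⟨Submodule.mkQ N w, (Submodule.Quotient.eq _).2 (by
        show t ^ (n + 1) * w - _ ∈ N
        rw [show t ^ (n + 1) * w - (w * t ^ (n + 1) + v) = -v by ring]; exact neg_mem hv)⟩
  have hqa : ¬ a ≤ q.asIdeal := fun h => by
    obtain ⟨i, hi⟩ := hqx
    exact hi (h (hx ▸ Ideal.subset_span ⟨i, rfl⟩))
  refine ⟨fun k e hfam hcomp => ?_, ?_⟩
  · choose s hs using fun n => exists_glue_num (M := Formal2.quotPow A (Ideal.span {t}) M n) hx (k n)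
      (fun i => π n (e n i)) fun i j => by
        rw [← sub_eq_zero, ← map_smul, ← map_smul, ← map_sub, hπ]
        exact hfam n i j
    have hc : ∀ n, secMap (tr t M n) U (s (n + 1)) = s n := fun n => by
      refine sub_eq_zero.1 (eq_zero_of_forall hx _ fun i => ?_)
      obtain ⟨p, hp⟩ := hcomp n i
      refine ⟨p + k n + k (n + 1), ?_⟩
      have e1 : x i ^ (p + k n + k (n + 1)) = (x i ^ p * x i ^ k n) * x i ^ k (n + 1) := by ring
      have e2 : (x i ^ p * x i ^ k n) * x i ^ k (n + 1) = (x i ^ p * x i ^ k (n + 1)) * x i ^ k n := by ring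
      rw [smul_sub, sub_eq_zero, e1]
      conv_lhs => rw [mul_smul, ← map_smul (secMap (tr t M n) U), hs, secMap_toS, ← map_smul]
      conv_rhs => rw [e2, mul_smul, hs, ← map_smul]
      refine congrArg (toS (R := A) _ U) ?_
      show (x i ^ p * x i ^ k n) • π n (e (n + 1) i) = (x i ^ p * x i ^ k (n + 1)) • π n (e n i)
      rw [← sub_eq_zero, ← map_smul, ← map_smul, ← map_sub, hπ]
      convert hp using 1
      simp only [smul_eq_mul]
      ring
    obtain ⟨V, hV, X, hX⟩ := hb (fun n => (g0 _ U).symm (s n)) fun n => (g0 _ U).injective (by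
      rw [g0_gmap, AddEquiv.apply_symm_apply, AddEquiv.apply_symm_apply]
      exact hc n)
    obtain ⟨b, rfl⟩ := exists_eq_punctured V
    have hqb : ¬ b ≤ q.asIdeal := (FormalCohH7.mem_punctured_iff b _).1 (hV.2 q
      ((FormalCohH7.mem_punctured_iff a _).2 hqa)
      ((PrimeSpectrum.mem_zeroLocus _ _).2 ((Ideal.span_singleton_le_iff_mem _).2 htq)))
    obtain ⟨g, hg, c, hc'⟩ := exists_smul_eq_toS b hqb (g0 M _ X)
    obtain ⟨c, rfl⟩ := Submodule.mkQ_surjective _ c
    refine ⟨g, hg, c, fun n i => ?_⟩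
    have hd : g • s n = toS _ U (π n c) := by
      have h1 : rho _ hV.1 (g • s n - toS _ U (π n c)) = 0 := by
        have h2 := congrArg (g0 _ (LocCoh.puncturedOpen A b)) (hX n)
        rw [g0_rs, AddEquiv.apply_symm_apply, g0_gmap] at h2
        rw [map_sub, map_smul, h2, rho_toS, ← map_smul, hc', secMap_toS, sub_eq_zero]
        rfl
      obtain ⟨l, hl⟩ := mem_iSup_torsionBy.1 ((ker_rho _ hV.1).le (LinearMap.mem_ker.2 h1))
      refine sub_eq_zero.1 (eq_zero_of_forall hx _ fun j => ?_)
      set Z : Ideal A := LinearMap.ker (LinearMap.toSpanSingleton A _ (g • s n - toS _ U (π n c))) with hZ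
      have hrad : a ≤ Z.radical := by
        rw [Ideal.radical_eq_sInf]
        refine le_sInf fun P ⟨hP, hPp⟩ => ?_
        haveI := hPp
        by_contra haP
        have htP : t ∈ P := hPp.mem_of_pow_mem (n + 1) (hP (pow_smul_sec n U _))
        have hbP : ¬ b ≤ P := (FormalCohH7.mem_punctured_iff b (⟨P, hPp⟩ : Spec (CommRingCat.of A))).1
          (hV.2 ⟨P, hPp⟩ ((FormalCohH7.mem_punctured_iff a _).2 haP)
            ((PrimeSpectrum.mem_zeroLocus _ _).2 ((Ideal.span_singleton_le_iff_mem _).2 htP)))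
        exact hbP (Ideal.IsPrime.le_of_pow_le (fun r hr => hP (hl r hr)))
      exact hrad (hx ▸ Ideal.subset_span ⟨j, rfl⟩)
    have h0 : toS _ U (π n (g * e n i - x i ^ k n * c)) = 0 := by
      rw [map_sub, map_sub, ← smul_eq_mul, ← smul_eq_mul, map_smul, map_smul, map_smul, map_smul,
        show toS _ U (π n (e n i)) = x i ^ k n • s n from (hs n i).symm, smul_comm, hd, sub_self]
    obtain ⟨p, hp⟩ := mem_powTors_iff.1 ((toS_eq_zero_iff a _).1 h0)
    refine ⟨p, (hπ n _).1 ?_⟩
    rw [← smul_eq_mul, map_smul]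
    exact hp _ (Ideal.pow_mem_pow (hx ▸ Ideal.subset_span ⟨i, rfl⟩) p)
  · obtain ⟨i₀, hi₀⟩ := hqx
    let K : Ideal A :=
      { carrier := {b | ∀ n (i : ι), ∃ p : ℕ, x i ^ p * b ∈ Lef25.thick t n ⊔ N}
        add_mem' := fun {b c} hb hc n i => by
          obtain ⟨p, hp⟩ := hb n i
          obtain ⟨p', hp'⟩ := hc n i
          refine ⟨p + p', ?_⟩
          rw [show x i ^ (p + p') * (b + c) = x i ^ p' * (x i ^ p * b) + x i ^ p * (x i ^ p' * c) by ring]
          exact add_mem (Ideal.mul_mem_left _ _ hp) (Ideal.mul_mem_left _ _ hp')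
        zero_mem' := fun n i => ⟨0, by simp⟩
        smul_mem' := fun c b hb n i => by
          obtain ⟨p, hp⟩ := hb n i
          exact ⟨p, by rw [smul_eq_mul, mul_left_comm]; exact Ideal.mul_mem_left _ _ hp⟩ }
    have hle : ¬ N.colon (K : Set A) ≤ q.asIdeal := by
      have hz : ∀ w : K.map (Ideal.Quotient.mk N), ∃ r ∉ q.asIdeal, r • w = 0 := by
        rintro ⟨w, hw⟩
        obtain ⟨b, hb, rfl⟩ := (Ideal.mem_map_iff_of_surjective _ Ideal.Quotient.mk_surjective).1 hw
        obtain ⟨r, hr, h0⟩ := exists_smul_eq_zero_of_divisible (M := A ⧸ N) htq (Ideal.Quotient.mk N b) fun n => by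
          obtain ⟨p, hp⟩ := hb n i₀
          obtain ⟨y, hy⟩ := (prj_eq_zero_iff t M n _).1 ((hπ n _).2 hp)
          exact ⟨x i₀ ^ p, fun h => hi₀ (q.isPrime.mem_of_pow_mem p h), y, hy.symm⟩
        exact ⟨r, hr, Subtype.ext h0⟩
      intro hle
      classical
      obtain ⟨s, hs⟩ := IsNoetherian.noetherian K
      choose r hr h0 using fun b : s => hz ⟨Ideal.Quotient.mk N b, Ideal.mem_map_of_mem _ (hs ▸ Submodule.subset_span b.2)⟩
      have : ∏ b : s, r b ∈ N.colon (K : Set A) := Submodule.mem_colon.2 fun z hz' => by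
        have hle' : K ≤ Submodule.comap (LinearMap.mulLeft A (∏ b : s, r b)) N := by
          rw [← hs, Submodule.span_le]
          intro b hb
          show (∏ b : s, r b) * b ∈ N
          rw [← Finset.prod_erase_mul _ _ (Finset.mem_univ (⟨b, hb⟩ : s)), mul_assoc]
          exact Ideal.mul_mem_left _ _ (Ideal.Quotient.eq_zero_iff_mem.1 (congrArg Subtype.val (h0 ⟨b, hb⟩)))
        exact hle' hz'
      obtain ⟨b, -, hb⟩ := (Ideal.IsPrime.prod_mem_iff (hp := q.isPrime)).1 (hle this)
      exact hr b hb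
    obtain ⟨g, hg, hgq⟩ := SetLike.not_le_iff_exists.1 hle
    exact ⟨g, hgq, fun b hb => Submodule.mem_colon.1 hg b hb⟩

end Groth.Agent.FormalColim28
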