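import Groth.Agent.Lib.Lef25.NhdMain

/-!
# Spreading out clopen subsets, modulo a nil ideal
-/

set_option autoImplicit false
set_option linter.style.haveILetI false

universe u

open CategoryTheory CategoryTheory.Limits AlgebraicGeometry TopologicalSpace IsLocalRing

noncomputable section

namespace Groth.Agent.FormalColim28

open Groth.Agent.Pur25 Groth.Agent.Lef25

section

open Finset PrimeSpectrum

variable {A : Type u} [CommRing A] {ι : Type} [Finite ι] {x : ι → A} {t : A} {N : Ideal A}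

/-- Formal functions on `D(x) ∩ V(t)` come from `A ⧸ N` near `q`, each family on its own neighbourhood. -/
def NearR (x : ι → A) (t : A) (N : Ideal A) (q : PrimeSpectrum A) : Prop :=
  (∀ (k : ℕ → ℕ) (a : ℕ → ι → A),
    (∀ n (i j : ι), x j ^ k n * a n i - x i ^ k n * a n j ∈ thick t n ⊔ N) →
    (∀ n (i : ι), ∃ p : ℕ, x i ^ p * (x i ^ k n * a (n + 1) i - x i ^ k (n + 1) * a n i) ∈ thick t n ⊔ N) →
    ∃ g : A, g ∉ q.asIdeal ∧ ∃ b : A, ∀ n (i : ι), ∃ p : ℕ, x i ^ p * (g * a n i - x i ^ k n * b) ∈ thick t n ⊔ N) ∧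
  ∃ g : A, g ∉ q.asIdeal ∧ ∀ b : A, (∀ n (i : ι), ∃ p : ℕ, x i ^ p * b ∈ thick t n ⊔ N) → g * b ∈ N

omit [Finite ι] in
theorem NearR.exists_data {q : PrimeSpectrum A} (h : NearR x t N q) :
    ∃ (_ : ∀ (k : ℕ → ℕ) (a : ℕ → ι → A),
      (∀ n (i j : ι), x j ^ k n * a n i - x i ^ k n * a n j ∈ thick t n ⊔ N) →
      (∀ n (i : ι), ∃ p : ℕ, x i ^ p * (x i ^ k n * a (n + 1) i - x i ^ k (n + 1) * a n i) ∈ thick t n ⊔ N) →
      ∃ g : A, g ∉ q.asIdeal ∧ ∃ b : A, ∀ n (i : ι), ∃ p : ℕ, x i ^ p * (g * a n i - x i ^ k n * b) ∈ thick t n ⊔ N)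
      (g : A), g ∉ q.asIdeal ∧ ∀ b : A, (∀ n (i : ι), ∃ p : ℕ, x i ^ p * b ∈ thick t n ⊔ N) → g * b ∈ N :=
  ⟨h.1, h.2⟩

variable {B : Type u} [CommRing B] [Algebra A B] {κ : Type} (y : κ → A)

local notation "am" => algebraMap A B

set_option maxHeartbeats 800000 in
/-- Relatively clopen subsets of the trace on `V(t)` extend to a neighbourhood. -/
theorem exists_clopen_nhd_red {r e : ℕ} (G : (Fin r → A) →ₗ[A] B) (s : κ → B →ₗ[A] (Fin r → A))
    (hs : ∀ j b, G (s j b) = y j ^ e • b)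
    (hy : ∀ q : PrimeSpectrum A, t ∈ q.asIdeal → (∃ i, x i ∉ q.asIdeal) → ∃ j, y j ∉ q.asIdeal)
    (hN : N ≤ nilradical A) (hnear : ∀ q : PrimeSpectrum A, t ∈ q.asIdeal → (∃ i, x i ∉ q.asIdeal) → NearR x t N q)
    {O O' : Set (PrimeSpectrum B)} (hO : IsOpen O) (hO' : IsOpen O')
    (h : ∀ P : PrimeSpectrum B, am t ∈ P.asIdeal → (∃ i, am (x i) ∉ P.asIdeal) → (P ∈ O' ↔ P ∉ O)) :
    ∃ (W : Set (PrimeSpectrum A)) (D D' : Set (PrimeSpectrum B)), IsOpen W ∧ IsOpen D ∧ IsOpen D' ∧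
      (∀ q : PrimeSpectrum A, t ∈ q.asIdeal → (∃ i, x i ∉ q.asIdeal) → q ∈ W) ∧
      (∀ P : PrimeSpectrum B, comap am P ∈ W → (P ∈ D' ↔ P ∉ D)) ∧
      ∀ P : PrimeSpectrum B, am t ∈ P.asIdeal → (∃ i, am (x i) ∉ P.asIdeal) → (P ∈ D ↔ P ∈ O) := by
  cases nonempty_fintype ι
  set I : ℕ → Ideal B := fun n => (thick t n ⊔ N).map am with hI
  have hNP : ∀ (P : PrimeSpectrum B) {z : A}, z ∈ N → am z ∈ P.asIdeal := fun P z hz =>
    nilradical_le_prime _ (mem_nilradical.2 ((mem_nilradical.1 (hN hz)).map am))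
  have hNB : ∀ P : PrimeSpectrum B, N.map am ≤ P.asIdeal := fun P => Ideal.map_le_iff_le_comap.2 fun z hz => hNP P hz
  have hIq : ∀ (n : ℕ) (P : PrimeSpectrum B), I n ≤ P.asIdeal ↔ am t ∈ P.asIdeal := fun n P => by
    simp only [hI, Ideal.map_sup, sup_le_iff, and_iff_left (hNB P), thick_eq, Ideal.map_span, Set.image_singleton,
      Ideal.span_singleton_le_iff_mem, map_pow]
    exact ⟨fun hq => P.isPrime.mem_of_pow_mem _ hq, fun hq => P.asIdeal.pow_mem_of_mem hq _ (Nat.succ_pos n)⟩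
  choose k m hm hmm hmO using fun n => exists_fam_idem x (I n) hO hO' fun P hP hx => h P ((hIq n P).1 hP) hx
  let φ : κ → Fin r → B →ₗ[A] A := fun l a => LinearMap.proj a ∘ₗ s l
  have happ : ∀ (ψ : B →ₗ[A] A) (n : ℕ) {z : B}, z ∈ I n → ψ z ∈ thick t n ⊔ N := fun ψ n z hz => by
    rw [← pow_one (thick t n ⊔ N)]
    exact PureGr25.apply_mem ψ 1 (by rwa [pow_one])
  have hfam : ∀ l a n (i j : ι), x j ^ k n * φ l a (m n i) - x i ^ k n * φ l a (m n j) ∈ thick t n ⊔ N := by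
    intro l a n i j
    have := happ (φ l a) n (hm n i j)
    rw [← map_pow, ← map_pow, ← Algebra.smul_def, ← Algebra.smul_def, map_sub, map_smul, map_smul] at this
    exact this
  have hcomp : ∀ l a n (i : ι), ∃ p : ℕ,
      x i ^ p * (x i ^ k n * φ l a (m (n + 1) i) - x i ^ k (n + 1) * φ l a (m n i)) ∈ thick t n ⊔ N := by
    intro l a n i
    let Y := am (x i) ^ (k n + k (n + 1) + 1)
    let u := am (x i) ^ (k (n + 1) + 1) * m n i
    let v := am (x i) ^ (k n + 1) * m (n + 1) i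
    have hsub : I (n + 1) ≤ I n := Ideal.map_mono (sup_le_sup_right (thick_le t n) N)
    have hY : ∀ P : PrimeSpectrum B, Y ∉ P.asIdeal → am (x i) ∉ P.asIdeal := fun P hY hx =>
      hY (P.asIdeal.pow_mem_of_mem hx _ (Nat.succ_pos _))
    obtain ⟨Q, hQ⟩ := sat_sub_of_agree (I n) Y v u
      ⟨0, by
        rw [pow_zero, one_mul, show v * v - Y * v = am (x i) ^ (2 * (k n + 1)) *
          (m (n + 1) i * m (n + 1) i - am (x i) ^ k (n + 1) * m (n + 1) i) by simp only [v, Y]; ring]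
        exact Ideal.mul_mem_left _ _ (hsub (hmm (n + 1) i))⟩
      ⟨0, by
        rw [pow_zero, one_mul, show u * u - Y * u = am (x i) ^ (2 * (k (n + 1) + 1)) *
          (m n i * m n i - am (x i) ^ k n * m n i) by simp only [u, Y]; ring]
        exact Ideal.mul_mem_left _ _ (hmm n i)⟩
      (fun P hP hYP => by
        have hx := hY P hYP
        have h1 := hmO n i P hP hx
        have h2 := hmO (n + 1) i P ((hIq (n + 1) P).2 ((hIq n P).1 hP)) hx
        have key : ∀ (d : ℕ) (w : B), (am (x i) ^ d * w ∈ P.asIdeal ↔ w ∈ P.asIdeal) := fun d w =>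
          ⟨fun h => (P.isPrime.mem_or_mem h).resolve_left fun h' => hx (P.isPrime.mem_of_pow_mem _ h'),
            fun h => P.asIdeal.mul_mem_left _ h⟩
        rw [key, key]
        exact not_iff_not.1 (h2.symm.trans h1))
    have hQ' := happ (φ l a) n hQ
    set N := (k n + k (n + 1) + 1) * Q
    rw [show Y ^ Q * (v - u) = (x i ^ (N + (k n + 1))) • m (n + 1) i - (x i ^ (N + (k (n + 1) + 1))) • m n i by
      simp only [Algebra.smul_def, map_pow, Y, u, v, N]; ring, map_sub, map_smul, map_smul] at hQ'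
    refine ⟨N + 1, ?_⟩
    convert hQ' using 1
    simp only [smul_eq_mul]
    ring
  choose gb gz hgz0 hgz using fun q ht hx => (show NearR x t N q from hnear q ht hx).exists_data
  choose j hj using hy
  let T := {q : PrimeSpectrum A // t ∈ q.asIdeal ∧ ∃ i, x i ∉ q.asIdeal}
  let lc : T → κ := fun σ => j σ.1 σ.2.1 σ.2.2
  choose g' hg' b' hb' using fun (σ : T) (a : Fin r) =>
    gb σ.1 σ.2.1 σ.2.2 k (fun n i => φ (lc σ) a (m n i)) (hfam (lc σ) a) (hcomp (lc σ) a)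
  let γ : T → A := fun σ => gz σ.1 σ.2.1 σ.2.2 * ∏ a, g' σ a
  have hgq : ∀ σ : T, γ σ ∉ σ.1.asIdeal := fun σ =>
    σ.1.isPrime.mul_notMem (hgz0 σ.1 σ.2.1 σ.2.2) fun h => by
      obtain ⟨a, -, ha⟩ := (Ideal.IsPrime.prod_mem_iff (hp := σ.1.isPrime)).1 h
      exact hg' σ a ha
  let b : T → Fin r → A := fun σ a => (gz σ.1 σ.2.1 σ.2.2 * ∏ e ∈ Finset.univ.erase a, g' σ e) * b' σ a
  have hb : ∀ σ a n i, ∃ p : ℕ, x i ^ p * (γ σ * φ (lc σ) a (m n i) - x i ^ k n * b σ a) ∈ thick t n ⊔ N := by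
    intro σ a n i
    obtain ⟨p, hp⟩ := hb' σ a n i
    refine ⟨p, ?_⟩
    simp only [γ, b, ← Finset.prod_erase_mul _ _ (Finset.mem_univ a)]
    convert Ideal.mul_mem_left _ (gz σ.1 σ.2.1 σ.2.2 * ∏ e ∈ Finset.univ.erase a, g' σ e) hp using 1
    ring
  let β : T → B := fun σ => G (b σ)
  let c : T → B := fun σ => am (γ σ) * am (y (lc σ)) ^ e
  have hβ : ∀ σ n i, ∃ p : ℕ, am (x i) ^ p * (am (x i) ^ k n * β σ - c σ * m n i) ∈ I n := by
    intro σ n i
    choose p hp using fun a => hb σ a n i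
    refine ⟨univ.sup p, ?_⟩
    rw [show am (x i) ^ univ.sup p * (am (x i) ^ k n * β σ - c σ * m n i) =
      G (x i ^ univ.sup p • (x i ^ k n • b σ - γ σ • s (lc σ) (m n i))) by
        rw [map_smul, map_sub, map_smul, map_smul, hs]; simp only [Algebra.smul_def, map_pow, β, c, mul_assoc],
      ← pow_one (I n)]
    refine PureGr25.apply_pi_mem G 1 fun a => ?_
    rw [pow_one]
    obtain ⟨d, hd⟩ := Nat.exists_eq_add_of_le (le_sup (f := p) (mem_univ a) : p a ≤ univ.sup p)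
    show x i ^ univ.sup p * (x i ^ k n * b σ a - γ σ * φ (lc σ) a (m n i)) ∈ _
    rw [hd, show x i ^ (p a + d) * (x i ^ k n * b σ a - γ σ * φ (lc σ) a (m n i)) =
      -(x i ^ d) * (x i ^ p a * (γ σ * φ (lc σ) a (m n i) - x i ^ k n * b σ a)) by ring]
    exact Ideal.mul_mem_left _ _ (hp a)
  let f : T → B := fun σ => am (y (lc σ)) * am (γ σ)
  have hz : ∀ ρ σ σ' (P : PrimeSpectrum B),
      am (y (lc ρ)) ^ e * (am (γ ρ) * (β σ * β σ' - c σ * β σ')) ∈ P.asIdeal := by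
    intro ρ σ σ' P
    have h0 : ∀ a, γ ρ * φ (lc ρ) a (β σ * β σ' - c σ * β σ') ∈ N := by
      intro a
      rw [show γ ρ = gz ρ.1 ρ.2.1 ρ.2.2 * ∏ a, g' ρ a from rfl, mul_comm (gz _ _ _) (∏ a, g' ρ a), mul_assoc]
      refine Ideal.mul_mem_left _ _ (hgz ρ.1 ρ.2.1 ρ.2.2 _ fun n i => ?_)
      obtain ⟨p, hp⟩ := hβ σ n i
      obtain ⟨p', hp'⟩ := hβ σ' n i
      have := happ (φ (lc ρ) a) n (z := am (x i) ^ (p + p' + 2 * k n) * (β σ * β σ' - c σ * β σ')) (by
        rw [show am (x i) ^ (p + p' + 2 * k n) * (β σ * β σ' - c σ * β σ') =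
          (am (x i) ^ p' * am (x i) ^ k n * β σ') * (am (x i) ^ p * (am (x i) ^ k n * β σ - c σ * m n i)) +
            (am (x i) ^ p * c σ * (m n i - am (x i) ^ k n)) *
              (am (x i) ^ p' * (am (x i) ^ k n * β σ' - c σ' * m n i)) +
            (am (x i) ^ (p + p') * c σ * c σ') * (m n i * m n i - am (x i) ^ k n * m n i) by ring]
        exact add_mem (add_mem (Ideal.mul_mem_left _ _ hp) (Ideal.mul_mem_left _ _ hp'))
          (Ideal.mul_mem_left _ _ (hmm n i)))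
      rw [← map_pow, ← Algebra.smul_def, map_smul] at this
      exact ⟨_, this⟩
    have h2 : G (γ ρ • s (lc ρ) (β σ * β σ' - c σ * β σ')) ∈ P.asIdeal := by
      refine hNB P ?_
      rw [← pow_one (N.map am)]
      exact PureGr25.apply_pi_mem G 1 fun a => by rw [pow_one]; exact h0 a
    rw [map_smul, hs, smul_smul, Algebra.smul_def, map_mul, map_pow] at h2
    convert h2 using 1
    ring
  have hf : ∀ (σ : T) (P : PrimeSpectrum B), f σ ∉ P.asIdeal → c σ ∉ P.asIdeal ∧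
      ∀ z : B, am (y (lc σ)) ^ e * (am (γ σ) * z) ∈ P.asIdeal → z ∈ P.asIdeal := fun σ P hP => by
    have h1 : am (y (lc σ)) ∉ P.asIdeal := fun h => hP (P.asIdeal.mul_mem_right _ h)
    have h2 : am (γ σ) ∉ P.asIdeal := fun h => hP (P.asIdeal.mul_mem_left _ h)
    refine ⟨fun h => (P.isPrime.mem_or_mem h).elim h2 fun h' => h1 (P.isPrime.mem_of_pow_mem _ h'), fun z hzm => ?_⟩
    exact (P.isPrime.mem_or_mem ((P.isPrime.mem_or_mem hzm).resolve_left
      fun h' => h1 (P.isPrime.mem_of_pow_mem _ h'))).resolve_left h2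
  have hcases : ∀ (σ : T) (P : PrimeSpectrum B), f σ ∉ P.asIdeal → β σ ∈ P.asIdeal ∨ β σ - c σ ∈ P.asIdeal :=
    fun σ P hP => P.isPrime.mem_or_mem ((hf σ P hP).2 _ (by
      rw [show β σ * (β σ - c σ) = β σ * β σ - c σ * β σ by ring]
      exact hz σ σ σ P))
  have hswitch : ∀ (σ σ' : T) (P : PrimeSpectrum B), f σ ∉ P.asIdeal → f σ' ∉ P.asIdeal →
      β σ ∈ P.asIdeal → β σ' ∈ P.asIdeal := fun σ σ' P hP hP' hσ => by
    have h2 : c σ * β σ' ∈ P.asIdeal := by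
      have h3 : β σ * β σ' - c σ * β σ' ∈ P.asIdeal := (hf σ P hP).2 _ (hz σ σ σ' P)
      exact (Submodule.sub_mem_iff_right _ (P.asIdeal.mul_mem_right _ hσ)).1 h3
    exact (P.isPrime.mem_or_mem h2).resolve_left (hf σ P hP).1
  refine ⟨⋃ σ : T, (basicOpen (y (lc σ) * γ σ) : Set (PrimeSpectrum A)),
    ⋃ σ : T, (basicOpen (f σ * β σ) : Set (PrimeSpectrum B)),
    ⋃ σ : T, (basicOpen (f σ * (β σ - c σ)) : Set (PrimeSpectrum B)),
    isOpen_iUnion fun _ => (basicOpen _).2, isOpen_iUnion fun _ => (basicOpen _).2,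
    isOpen_iUnion fun _ => (basicOpen _).2, ?_, ?_, ?_⟩
  · intro q ht hx
    exact Set.mem_iUnion.2 ⟨⟨q, ht, hx⟩, fun hm => (q.isPrime.mem_or_mem hm).elim (hj q ht hx) (hgq ⟨q, ht, hx⟩)⟩
  · intro P hP
    obtain ⟨σ, hσ⟩ := Set.mem_iUnion.1 hP
    have hfσ : f σ ∉ P.asIdeal := fun h' => hσ (show am (y (lc σ) * γ σ) ∈ P.asIdeal by rw [map_mul]; exact h')
    simp only [Set.mem_iUnion, SetLike.mem_coe, mem_basicOpen, not_exists, not_not]
    constructor
    · rintro ⟨σ', hσ'⟩ ρ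
      by_cases hρ : f ρ ∈ P.asIdeal
      · exact P.asIdeal.mul_mem_right _ hρ
      have h1 : f σ' ∉ P.asIdeal := fun h2 => hσ' (P.asIdeal.mul_mem_right _ h2)
      exact P.asIdeal.mul_mem_left _ (hswitch σ' ρ P h1 hρ
        ((hcases σ' P h1).resolve_right fun h4 => hσ' (P.asIdeal.mul_mem_left _ h4)))
    · intro hl
      refine ⟨σ, fun h2 => (hf σ P hfσ).1 ?_⟩
      have h3 := (P.isPrime.mem_or_mem (hl σ)).resolve_left hfσ
      have h4 := (P.isPrime.mem_or_mem h2).resolve_left hfσ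
      simpa using P.asIdeal.sub_mem h3 h4
  · rintro P hPt ⟨i, hi⟩
    have hiff : ∀ σ, f σ ∉ P.asIdeal → (β σ ∈ P.asIdeal ↔ P ∉ O) := fun σ hσ => by
      rw [hmO 0 i P ((hIq 0 P).2 hPt) hi, not_not]
      obtain ⟨d, hd⟩ := hβ σ 0 i
      have h3 : am (x i) ^ k 0 * β σ - c σ * m 0 i ∈ P.asIdeal :=
        (P.isPrime.mem_or_mem ((hIq 0 P).2 hPt hd)).resolve_left fun h => hi (P.isPrime.mem_of_pow_mem _ h)
      exact ⟨fun h2 => (P.isPrime.mem_or_mem ((Submodule.sub_mem_iff_right _ (P.asIdeal.mul_mem_left _ h2)).1 h3)).resolve_left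
          (hf σ P hσ).1,
        fun h2 => (P.isPrime.mem_or_mem ((Submodule.sub_mem_iff_left _ (P.asIdeal.mul_mem_left _ h2)).1 h3)).resolve_left
          fun h => hi (P.isPrime.mem_of_pow_mem _ h)⟩
    simp only [Set.mem_iUnion, SetLike.mem_coe, mem_basicOpen]
    constructor
    · rintro ⟨σ, hσ⟩
      have h1 : f σ ∉ P.asIdeal := fun h2 => hσ (P.asIdeal.mul_mem_right _ h2)
      by_contra hPO
      exact hσ (P.asIdeal.mul_mem_left _ ((hiff σ h1).2 hPO))
    · intro hPO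
      let q : PrimeSpectrum A := comap am P
      let σ : T := ⟨q, hPt, i, hi⟩
      have h1 : f σ ∉ P.asIdeal := fun h' => (P.isPrime.mem_or_mem h').elim (hj q hPt ⟨i, hi⟩) (hgq ⟨q, hPt, i, hi⟩)
      exact ⟨σ, fun h2 => (hiff σ h1).1 ((P.isPrime.mem_or_mem h2).resolve_left h1) hPO⟩

end

variable {A : Type u} [CommRing A] [IsNoetherianRing A] {ι : Type} [Finite ι] {x : ι → A} {t : A}
  {U U' : (Spec (CommRingCat.of A)).Opens} {N : Ideal A}

set_option maxHeartbeats 800000 in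
/-- Restriction from the neighbourhoods of the punctured hypersurface is full. -/
theorem full_nhd_hypersurface_red (hU : ∀ q : PrimeSpectrum A, q ∈ U ↔ ∃ i, x i ∉ q.asIdeal)
    (hN : N ≤ nilradical A) (hnear : ∀ q : PrimeSpectrum A, t ∈ q.asIdeal → (∃ i, x i ∉ q.asIdeal) → NearR x t N q)
    (hU' : U' ≤ U)
    (u' : pullback U.ι (Spec.map (CommRingCat.ofHom (Ideal.Quotient.mk (Ideal.span {t})))) ⟶ (U' : Scheme.{u}))
    (hu' : u' ≫ U'.ι = pullback.fst U.ι (Spec.map (CommRingCat.ofHom (Ideal.Quotient.mk (Ideal.span {t})))) ≫ U.ι)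
    {Z : Scheme.{u}} (h : Z ⟶ (U' : Scheme.{u})) (hh : FEt.prop h) (C : Set ↥(pullback h u')) (hC : IsClopen C) :
    ∃ (W : Set (U' : Scheme.{u})) (D D' : Set Z), IsOpen W ∧ Set.range u' ⊆ W ∧ IsOpen D ∧ IsOpen D' ∧
      (∀ z, h z ∈ W → (z ∈ D' ↔ z ∉ D)) ∧ pullback.fst h u' ⁻¹' D = C := by
  have : IsFinite h := hh.1
  have : Etale h := hh.2
  haveI : IsClosedImmersion (Spec.map (CommRingCat.ofHom (Ideal.Quotient.mk (Ideal.span {t})))) :=
    IsClosedImmersion.spec_of_surjective _ Ideal.Quotient.mk_surjective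
  haveI : IsImmersion u' := by
    haveI : IsImmersion (u' ≫ U'.ι) := by rw [hu']; infer_instance
    exact IsImmersion.of_comp u' U'.ι
  obtain ⟨I, hI⟩ := (PrimeSpectrum.isClosed_iff_zeroLocus_ideal _).1 U'.2.isClosed_compl
  obtain ⟨k, y, hy⟩ := Submodule.fg_iff_exists_fin_generating_family.1 (IsNoetherian.noetherian I)
  have hUy : ∀ q : PrimeSpectrum A, q ∈ U' ↔ ∃ j : Fin k, y j ∉ q.asIdeal := fun q => by
    rw [← not_iff_not]
    push Not
    refine (Set.ext_iff.1 hI q).trans ((PrimeSpectrum.mem_zeroLocus q _).trans ⟨fun h j => h (hy ▸ Submodule.subset_span ⟨j, rfl⟩), fun h => ?_⟩)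
    show I ≤ q.asIdeal
    rw [← hy, Submodule.span_le]
    rintro _ ⟨j, rfl⟩
    exact h j
  obtain ⟨B, _, _, _, j, hj, hjh, hjr, hproj⟩ := exists_model hUy h
  obtain ⟨r, e, G, s, hs⟩ := exists_split y B (hproj inferInstance)
  haveI : IsImmersion (pullback.fst h u') := inferInstance
  have he := (pullback.fst h u').isEmbedding.isInducing
  obtain ⟨O, hO, hOC⟩ := he.isOpen_iff.1 hC.2
  obtain ⟨O', hO', hOC'⟩ := he.isOpen_iff.1 hC.1.isOpen_compl
  have hyq : ∀ q : PrimeSpectrum A, t ∈ q.asIdeal → (∃ i, x i ∉ q.asIdeal) → ∃ j, y j ∉ q.asIdeal := fun q ht hx => by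
    obtain ⟨v, rfl⟩ : q ∈ Set.range U.ι := by rw [Scheme.Opens.range_ι]; exact (hU q).2 hx
    obtain ⟨p, rfl⟩ := (mem_range_hypersurface t v).2 ht
    refine (hUy _).1 ?_
    rw [← Scheme.Hom.comp_apply, ← hu', Scheme.Hom.comp_apply]
    exact (u' p).2
  have hjz : ∀ z, PrimeSpectrum.comap (algebraMap A B) (j z) = U'.ι (h z) := fun z => by
    rw [← Scheme.Hom.comp_apply, ← hjh, Scheme.Hom.comp_apply]
    rfl
  have hqZ : ∀ P : PrimeSpectrum B, algebraMap A B t ∈ P.asIdeal → (∃ i, algebraMap A B (x i) ∉ P.asIdeal) →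
      ∃ p : ↥(pullback h u'), j (pullback.fst h u' p) = P := by
    intro P hPt hPx
    obtain ⟨l, hl⟩ := hyq (PrimeSpectrum.comap (algebraMap A B) P) hPt hPx
    obtain ⟨z, rfl⟩ : P ∈ Set.range j := hjr ▸ ⟨l, hl⟩
    obtain ⟨p, hp⟩ := (mem_range_nhd hU' u' hu' (h z)).2 (by rw [← hjz]; exact hPt)
    obtain ⟨w, hw, -⟩ := Scheme.Pullback.exists_preimage_pullback z p hp.symm
    exact ⟨w, by rw [hw]⟩
  obtain ⟨W, D, D', hW, hD, hD', hqW, hDD, hDO⟩ := exists_clopen_nhd_red (x := x) (t := t) y G s hs hyq hN hnear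
    (O := j '' O) (O' := j '' O') (j.isOpenEmbedding.isOpenMap _ hO) (j.isOpenEmbedding.isOpenMap _ hO') (by
      intro P hPt hPx
      obtain ⟨p, rfl⟩ := hqZ P hPt hPx
      exact (j.isOpenEmbedding.injective.mem_set_image.trans (Set.ext_iff.1 hOC' p)).trans
        (not_congr (j.isOpenEmbedding.injective.mem_set_image.trans (Set.ext_iff.1 hOC p))).symm)
  have hxv : ∀ v : (U' : Scheme.{u}), ∃ i, x i ∉ (U'.ι v : PrimeSpectrum A).asIdeal := fun v => (hU _).1 (hU' v.2)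
  refine ⟨U'.ι ⁻¹' W, j ⁻¹' D, j ⁻¹' D', hW.preimage U'.ι.continuous, ?_, hD.preimage j.continuous,
    hD'.preimage j.continuous, fun z hz => ?_, ?_⟩
  · exact fun v hv => hqW _ ((mem_range_nhd hU' u' hu' v).1 hv) (hxv v)
  · refine hDD _ ?_
    rw [hjz]
    exact hz
  · ext p
    have ht : t ∈ (U'.ι (h (pullback.fst h u' p)) : PrimeSpectrum A).asIdeal :=
      (mem_range_nhd hU' u' hu' _).1 ⟨pullback.snd h u' p, by
        rw [← Scheme.Hom.comp_apply, ← Scheme.Hom.comp_apply, pullback.condition]⟩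
    obtain ⟨i, hi⟩ := hxv (h (pullback.fst h u' p))
    rw [← hjz] at ht hi
    exact (hDO _ ht ⟨i, hi⟩).trans (j.isOpenEmbedding.injective.mem_set_image.trans (Set.ext_iff.1 hOC p))

/-- Restriction to the punctured hypersurface from its neighbourhoods is fully faithful. -/
theorem fullFaithful_nhds_red (hU : ∀ q : PrimeSpectrum A, q ∈ U ↔ ∃ i, x i ∉ q.asIdeal)
    (hN : N ≤ nilradical A) (hnear : ∀ q : PrimeSpectrum A, t ∈ q.asIdeal → (∃ i, x i ∉ q.asIdeal) → NearR x t N q)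
    (hU' : U' ≤ U)
    (u' : pullback U.ι (Spec.map (CommRingCat.ofHom (Ideal.Quotient.mk (Ideal.span {t})))) ⟶ (U' : Scheme.{u}))
    (hu' : u' ≫ U'.ι = pullback.fst U.ι (Spec.map (CommRingCat.ofHom (Ideal.Quotient.mk (Ideal.span {t})))) ≫ U.ι)
    (V' W' : FEt.Cat (U' : Scheme.{u})) :
      (∀ φ₀ : (FEt.restrict u').obj V' ⟶ (FEt.restrict u').obj W',
        ∃ (U'' : (Spec (CommRingCat.of A)).Opens) (h : U'' ≤ U') (u'' : pullback U.ι (Spec.map (CommRingCat.ofHom (Ideal.Quotient.mk (Ideal.span {t})))) ⟶ (U'' : Scheme.{u}))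
          (hu : u'' ≫ (Spec (CommRingCat.of A)).homOfLE h = u')
          (φ : (FEt.restrict ((Spec (CommRingCat.of A)).homOfLE h)).obj V' ⟶ (FEt.restrict ((Spec (CommRingCat.of A)).homOfLE h)).obj W'),
          (FEt.restrict u'').map φ =
            (MorphismProperty.Over.pullbackComp u'' ((Spec (CommRingCat.of A)).homOfLE h) u' hu.symm).inv.app V' ≫ φ₀ ≫
              (MorphismProperty.Over.pullbackComp u'' ((Spec (CommRingCat.of A)).homOfLE h) u' hu.symm).hom.app W') ∧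
      (∀ φ ψ : V' ⟶ W', (FEt.restrict u').map φ = (FEt.restrict u').map ψ →
        ∃ (U'' : (Spec (CommRingCat.of A)).Opens) (h : U'' ≤ U') (u'' : pullback U.ι (Spec.map (CommRingCat.ofHom (Ideal.Quotient.mk (Ideal.span {t})))) ⟶ (U'' : Scheme.{u})),
          u'' ≫ (Spec (CommRingCat.of A)).homOfLE h = u' ∧
          (FEt.restrict ((Spec (CommRingCat.of A)).homOfLE h)).map φ = (FEt.restrict ((Spec (CommRingCat.of A)).homOfLE h)).map ψ) := by
  haveI : IsLocallyNoetherian (U' : Scheme.{u}) := inferInstance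
  haveI : CompactSpace (U' : Scheme.{u}) := isCompact_iff_compactSpace.1 (NoetherianSpace.isCompact U'.carrier)
  haveI : AlgebraicGeometry.IsNoetherian (U' : Scheme.{u}) := {}
  haveI := isNoetherian_trace (U := U) (t := t)
  have hrange : ∀ (V : (U' : Scheme.{u}).Opens),
      Set.range ((Spec (CommRingCat.of A)).homOfLE (U'.ι_image_le V)) = (V : Set (U' : Scheme.{u})) := fun V => by
    refine U'.ι.isOpenEmbedding.injective.image_injective ?_
    rw [← Set.range_comp, ← TopCat.coe_comp, ← Scheme.Hom.comp_base, Scheme.homOfLE_ι, Scheme.Opens.range_ι]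
    rfl
  constructor
  · intro φ₀
    obtain ⟨V, hTV, hV⟩ := full_nhd u' (fun h hh C hC => full_nhd_hypersurface_red hU hN hnear hU' u' hu' h hh C hC) φ₀
    let j := (Spec (CommRingCat.of A)).homOfLE (U'.ι_image_le V)
    let u'' := IsOpenImmersion.lift j u' (hTV.trans (hrange V).ge)
    have hu : u'' ≫ j = u' := IsOpenImmersion.lift_fac _ _ _
    obtain ⟨φ, hφ⟩ := hV _ j (hrange V) u'' hu
    exact ⟨_, U'.ι_image_le V, u'', hu, φ, hφ⟩
  · intro φ ψ hφψ
    obtain ⟨V, hTV, hV⟩ := faithful_nhd u' φ ψ hφψ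
    let j := (Spec (CommRingCat.of A)).homOfLE (U'.ι_image_le V)
    let u'' := IsOpenImmersion.lift j u' (hTV.trans (hrange V).ge)
    have hu : u'' ≫ j = u' := IsOpenImmersion.lift_fac _ _ _
    exact ⟨_, U'.ι_image_le V, u'', hu, hV _ j (hrange V) u'' hu⟩

end Groth.Agent.FormalColim28
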