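import Groth.Agent.Lib.FormalColim28.PicThick
import Groth.Agent.Lib.EnriquesSeveri11.Lef
import Groth.Agent.Lib.CurveCoh17.Equality
import Groth.Agent.Lib.Cyc26.PBA
import Groth.Agent.Lib.TateZero11.Lim
import Groth.Prelude.Def_Lef

/-!
# Invertible modules near a closed subscheme with the Lefschetz condition
-/

set_option autoImplicit false
set_option linter.style.haveILetI false
set_option linter.unusedSectionVars false
set_option backward.isDefEq.respectTransparency false
set_option backward.isDefEq.respectTransparency.types false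

universe u

open CategoryTheory CategoryTheory.Limits AlgebraicGeometry TopologicalSpace Opposite

noncomputable section

namespace Groth.Agent.PicLef28

open Groth.Agent

attribute [local instance] M2.law

/-- Pullback to a square-zero thickening without first cohomology is injective on invertible modules. -/
theorem picInjective_of_sq_zero {Z Y : Scheme.{u}} (p : Z ⟶ Y) [IsClosedImmersion p] (hI : p.ker * p.ker = ⊥)
    (h : Subsingleton (Coh.HH Y (ClSub.idealMod p.ker) 1)) : Formal2.PicPullbackInjective p := fun L hL he => by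
  haveI := h
  let t : Z ≅ p.ker.subscheme := asIso p.toImage
  have hi : PicGrp.PullMul p.ker.subschemeι := M2.pullMul _
  obtain ⟨e⟩ := he
  have h1 : PicGrp.pullHom p.ker.subschemeι hi (PicGrp.cls L hL) = 1 := by
    rw [PicGrp.pullHom_cls, PicGrp.cls_eq_one_iff]
    exact ⟨(Scheme.Modules.pullbackCongr (show t.inv ≫ p = p.ker.subschemeι by
        rw [Iso.inv_comp_eq]; exact p.toImage_imageι.symm)).symm.app L ≪≫
      ((Scheme.Modules.pullbackComp t.inv p).app L).symm ≪≫ (Scheme.Modules.pullback t.inv).mapIso e ≪≫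
      PicLoc.pullbackStructureIso t.inv⟩
  obtain ⟨x, hx⟩ := (PicH1_21.pullHom_eq_one_iff hI hi _).1 h1
  rw [Subsingleton.elim x 0, map_zero] at hx
  exact (PicGrp.cls_eq_one_iff _).1 (Additive.ofMul.injective hx.symm)

variable {X : Scheme.{u}} {I K : X.IdealSheafData}

theorem ker_inclusion_sq (h : I ≤ K) (hKK : K * K ≤ I) :
    (Scheme.IdealSheafData.inclusion h).ker * (Scheme.IdealSheafData.inclusion h).ker = ⊥ := by
  let p := Scheme.IdealSheafData.inclusion h
  have hp : p ≫ I.subschemeι = K.subschemeι := Scheme.IdealSheafData.inclusion_subschemeι h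
  have hP : IsPullback p (𝟙 _) I.subschemeι K.subschemeι := by
    refine IsPullback.of_isLimit' ⟨by rw [Category.id_comp, hp]⟩
      (PullbackCone.IsLimit.mk _ (fun s => s.snd) (fun s => ?_) (fun s => Category.comp_id _) (fun s m _ h2 => ?_))
    · rw [← cancel_mono I.subschemeι, Category.assoc, hp]
      exact s.condition.symm
    · simpa using h2
  have hker : p.ker = K.comap I.subschemeι := by
    conv_rhs => rw [← K.ker_subschemeι]
    rw [← Scheme.IdealSheafData.ker_fst_of_isClosedImmersion, ← Scheme.Hom.ker_comp_of_isIso hP.isoPullback.hom,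
      IsPullback.isoPullback_hom_fst]
  have hbot : I.comap I.subschemeι = ⊥ := by
    rw [eq_bot_iff]
    refine (Scheme.IdealSheafData.map_gc _).l_le ?_
    rw [Scheme.IdealSheafData.map_bot]
    exact (Scheme.IdealSheafData.ker_subschemeι I).ge
  show p.ker * p.ker = ⊥
  rw [hker, ← pow_two, ← BlowUpExist.comap_pow, pow_two, eq_bot_iff, ← hbot]
  exact Scheme.IdealSheafData.comap_mono _ hKK

theorem subsingleton_HH_inclusion (h : I ≤ K) (q : ℕ) (hH : Subsingleton (Coh.HH X (kernel (Lef.quotMap h)) q)) :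
    Subsingleton (Coh.HH I.subscheme (ClSub.idealMod (Scheme.IdealSheafData.inclusion h).ker) q) := by
  let i := I.subschemeι
  let p := Scheme.IdealSheafData.inclusion h
  let b := (Scheme.Modules.pushforward i).map (ClSub.unitToPush p)
  let c := (Scheme.Modules.pushforwardComp p i).hom.app (Coh.structureModule _) ≫
    (Scheme.Modules.pushforwardCongr (Scheme.IdealSheafData.inclusion_subschemeι h)).hom.app _
  let e₁ : kernel (Lef.quotMap h) ≅ kernel b := kernelCompMono b c
  obtain ⟨e₃⟩ := PicThick28.nonempty_kernel_unitToPush p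
  haveI : PreservesLimit (parallelPair (ClSub.unitToPush p) 0) (Scheme.Modules.pushforward i) :=
    (Scheme.Modules.pullbackPushforwardAdjunction i).rightAdjoint_preservesLimits.preservesLimitsOfShape.preservesLimit
  let e₄ : (Scheme.Modules.pushforward i).obj (ClSub.idealMod p.ker) ≅ kernel b :=
    (Scheme.Modules.pushforward i).mapIso e₃.symm ≪≫ PreservesKernel.iso (Scheme.Modules.pushforward i) _
  haveI := FGA3.subsingleton_of_addEquiv (CohFound.hhExt (kernel (Lef.quotMap h)) q).symm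
  haveI := FGA3.subsingleton_of_addEquiv (CohFound.mpEquiv ((CohFound.abF X).mapIso (e₄ ≪≫ e₁.symm)) q ⊤)
  haveI : (ClSub.idealMod p.ker).IsQuasicoherent := M2.isQCoh_idealMod p.ker
  obtain ⟨e⟩ := CohFound.nonempty_hc_push_isAffineHom i (ClSub.idealMod p.ker) q ⊤
  haveI : Subsingleton (CohFound.Hc ((CohFound.abF _).obj (ClSub.idealMod p.ker)) q ⊤) :=
    FGA3.subsingleton_of_addEquiv (A := CohFound.Hc ((CohFound.abF _).obj (ClSub.idealMod p.ker)) q (i ⁻¹ᵁ ⊤)) e.symm
  exact FGA3.subsingleton_of_addEquiv (CohFound.hhExt (ClSub.idealMod p.ker) q)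

theorem surjective_app_top (k : Type u) [CommRing k] {Y : Scheme.{u}} [Y.Over (Spec (CommRingCat.of k))]
    {A B : Y.Modules} (g : A ⟶ B) [Epi g] (h1 : Subsingleton (Coh.HH Y (kernel g) 1)) :
    Function.Surjective (g.app ⊤) := by
  let S := ShortComplex.mk (kernel.ι g) g (kernel.condition _)
  haveI : Mono S.f := inferInstanceAs (Mono (kernel.ι _))
  haveI : Epi S.g := inferInstanceAs (Epi g)
  have hS : S.ShortExact := ShortComplex.ShortExact.mk' (ShortComplex.exact_kernel _) inferInstance inferInstance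
  intro z
  obtain ⟨w, hw⟩ := (CurveCoh17.exact_hmap_hdelta k hS 0 ((CurveCoh17.hh0 S.X₃).symm z)).1
    (@Subsingleton.elim _ h1 _ _)
  refine ⟨CurveCoh17.hh0 S.X₂ w, ?_⟩
  show S.g.app ⊤ (CurveCoh17.hh0 S.X₂ w) = z
  rw [← CurveCoh17.hh0_hmap (A := k), hw, AddEquiv.apply_symm_apply]

theorem surjective_appTop_inclusion (h : I ≤ K) (hH : Subsingleton (Coh.HH X (kernel (Lef.quotMap h)) 1)) :
    Function.Surjective (Scheme.IdealSheafData.inclusion h).appTop := by
  let p := Scheme.IdealSheafData.inclusion h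
  letI : I.subscheme.Over (Spec (CommRingCat.of Γ(I.subscheme, ⊤))) := ⟨I.subscheme.toSpecΓ⟩
  haveI : Epi (ClSub.unitToPush p) := by
    refine (M1.epi_iff_locally_surjective _).mpr fun U t x hx => ?_
    obtain ⟨W, hW, hxW, hWU⟩ := exists_isAffineOpen_mem_and_subset hx
    obtain ⟨s, hs⟩ := p.app_surjective W hW
      (((Scheme.Modules.pushforward p).obj (Coh.structureModule _)).presheaf.map (homOfLE hWU).op t)
    exact ⟨W, hWU, hxW, s, hs⟩
  obtain ⟨e₃⟩ := PicThick28.nonempty_kernel_unitToPush p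
  haveI h1 : Subsingleton (Coh.HH I.subscheme (kernel (ClSub.unitToPush p)) 1) :=
    CMReg18.van_iso Γ(I.subscheme, ⊤) (M := ClSub.idealMod p.ker) (N := kernel (ClSub.unitToPush p)) e₃.symm
      (subsingleton_HH_inclusion h 1 hH)
  exact surjective_app_top Γ(I.subscheme, ⊤) (ClSub.unitToPush p) h1

theorem exists_iso_subscheme_restrict (U : X.Opens) {K : X.IdealSheafData} (hK : (K.support : Set X) ⊆ U)
    {K' : (U : Scheme.{u}).IdealSheafData} (e : K' = K.comap U.ι) :
    ∃ σ : K'.subscheme ≅ K.subscheme, σ.hom ≫ K.subschemeι = K'.subschemeι ≫ U.ι := by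
  subst e
  haveI : IsIso (pullback.snd U.ι K.subschemeι) := by
    haveI : Surjective (pullback.snd U.ι K.subschemeι) := ⟨fun w => by
      have : w ∈ Set.range (pullback.snd U.ι K.subschemeι) := by
        rw [IsOpenImmersion.range_pullbackSnd]
        show K.subschemeι w ∈ U.ι.opensRange
        rw [Scheme.Opens.opensRange_ι]
        exact hK (K.range_subschemeι.le ⟨w, rfl⟩)
      exact this⟩
    exact (isIso_iff_isOpenImmersion_and_epi_base _).mpr ⟨inferInstance,
      (TopCat.epi_iff_surjective _).mpr (pullback.snd U.ι K.subschemeι).surjective⟩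
  refine ⟨Scheme.IdealSheafData.comapIso K U.ι ≪≫ asIso (pullback.snd U.ι K.subschemeι), ?_⟩
  rw [Iso.trans_hom, asIso_hom, Category.assoc, ← pullback.condition, ← Category.assoc,
    Scheme.IdealSheafData.comapIso_hom_fst]

theorem restrict_step (U : X.Opens) {I' K' : (U : Scheme.{u}).IdealSheafData} (hI : (I.support : Set X) ⊆ U)
    (hK : (K.support : Set X) ⊆ U) (hI' : I' = I.comap U.ι) (hK' : K' = K.comap U.ι) (h : I ≤ K) (h' : I' ≤ K')
    (hKK : K * K ≤ I) (hH : Subsingleton (Coh.HH X (kernel (Lef.quotMap h)) 1)) :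
    Formal2.PicPullbackInjective (Scheme.IdealSheafData.inclusion h') ∧
      Function.Surjective (Scheme.IdealSheafData.inclusion h').appTop := by
  obtain ⟨σ, hσ⟩ := exists_iso_subscheme_restrict U hI hI'
  obtain ⟨τ, hτ⟩ := exists_iso_subscheme_restrict U hK hK'
  let p := Scheme.IdealSheafData.inclusion h
  let p' := Scheme.IdealSheafData.inclusion h'
  have hsq : p' ≫ σ.hom = τ.hom ≫ p := by
    rw [← cancel_mono I.subschemeι, Category.assoc, Category.assoc, hσ,
      Scheme.IdealSheafData.inclusion_subschemeι, hτ, ← Category.assoc, Scheme.IdealSheafData.inclusion_subschemeι]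
  have hsq' : τ.inv ≫ p' = p ≫ σ.inv := by
    rw [Iso.inv_comp_eq, ← Category.assoc, ← hsq, Category.assoc, Iso.hom_inv_id, Category.comp_id]
  refine ⟨fun L hL ⟨e⟩ => ?_, fun z => ?_⟩
  · obtain ⟨e₁⟩ := picInjective_of_sq_zero p (ker_inclusion_sq h hKK) (subsingleton_HH_inclusion h 1 hH) _
      (PicLoc.isInvertible_pullback σ.inv hL)
      ⟨(Scheme.Modules.pullbackComp p σ.inv).app L ≪≫ (Scheme.Modules.pullbackCongr hsq'.symm).app L ≪≫
        ((Scheme.Modules.pullbackComp τ.inv p').app L).symm ≪≫ (Scheme.Modules.pullback τ.inv).mapIso e ≪≫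
        PicLoc.pullbackStructureIso τ.inv⟩
    exact ⟨((Scheme.Modules.pullbackId _).app L).symm ≪≫ (Scheme.Modules.pullbackCongr σ.hom_inv_id.symm).app L ≪≫
      ((Scheme.Modules.pullbackComp σ.hom σ.inv).app L).symm ≪≫ (Scheme.Modules.pullback σ.hom).mapIso e₁ ≪≫
      PicLoc.pullbackStructureIso σ.hom⟩
  · obtain ⟨w, hw⟩ := surjective_appTop_inclusion h hH (τ.inv.appTop z)
    refine ⟨σ.hom.appTop w, ?_⟩
    apply (ConcreteCategory.bijective_of_isIso τ.inv.appTop).1
    rw [← hw, ← CommRingCat.comp_apply, ← CommRingCat.comp_apply, ← Scheme.Hom.comp_appTop,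
      ← Scheme.Hom.comp_appTop, hsq', Category.assoc, Iso.inv_hom_id, Category.comp_id]

theorem quotMap_comp {U : Scheme.{u}} {A B C : U.IdealSheafData} (h : A ≤ B) (h' : B ≤ C) :
    Lef.quotMap h ≫ Lef.quotMap h' = Lef.quotMap (h.trans h') := by
  haveI := M2.epi_toSubscheme A
  rw [← cancel_epi (ClSub.toSubscheme A), ← Category.assoc, ES11.toSubscheme_quotMap, ES11.toSubscheme_quotMap,
    ES11.toSubscheme_quotMap]

theorem germ_eq_smul_one {U : Scheme.{u}} {W : U.Opens} (z : U) (hz : z ∈ W) (f : Γ(U, W)) :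
    (Coh.structureModule U).presheaf.germ W z hz (show Γ(Coh.structureModule U, W) from f) =
      U.presheaf.germ W z hz f • Cyc26.oneStalk z := by
  have hone : Cyc26.oneStalk z = (Coh.structureModule U).presheaf.germ W z hz
      (show Γ(Coh.structureModule U, W) from (1 : Γ(U, W))) := by
    refine ((Coh.structureModule U).presheaf.germ_res_apply (homOfLE (le_top : W ≤ ⊤)) z hz _).symm.trans ?_
    exact congrArg _ (map_one (U.presheaf.map (homOfLE (le_top : W ≤ ⊤)).op).hom)
  rw [hone, ← M1.germ_smul]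
  exact congrArg _ (mul_one f).symm

theorem surjective_stalk_of_epi_toSubscheme {U : Scheme.{u}} {K : U.IdealSheafData} {A : U.Modules}
    (φ : A ⟶ Coh.structureModule U) (h : Epi (φ ≫ ClSub.toSubscheme K)) (x : U) (hx : x ∈ (K.support : Set U)) :
    Function.Surjective (CurveCoh17.stalkLin φ x) := by
  obtain ⟨w, rfl⟩ := K.range_subschemeι.ge hx
  obtain ⟨W, hW, hwW, s, hs⟩ := (M1.epi_iff_locally_surjective _).1 h ⊤
    (show Γ(ClSub.quotMod K, ⊤) from (1 : Γ(K.subscheme, K.subschemeι ⁻¹ᵁ ⊤))) (K.subschemeι w) trivial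
  let f : Γ(U, W) := φ.app W s
  have h1 : K.subschemeι.app W f = 1 := by
    refine Eq.trans hs ?_
    exact map_one (K.subscheme.presheaf.map _).hom
  have hu : IsUnit (U.presheaf.germ W (K.subschemeι w) hwW f) := by
    rw [← U.mem_basicOpen f _ hwW]
    have h2 : w ∈ K.subschemeι ⁻¹ᵁ U.basicOpen f := by
      rw [Scheme.preimage_basicOpen, h1, Scheme.basicOpen_of_isUnit _ isUnit_one]
      exact hwW
    exact h2
  intro c
  obtain ⟨r, rfl⟩ := (RH26.str (K.subschemeι w)).surjective c
  obtain ⟨v, hv⟩ := hu.exists_left_inv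
  refine ⟨(r * v) • A.presheaf.germ W _ hwW s, ?_⟩
  rw [map_smul, CurveCoh17.stalkLin_apply, M1.germ_naturality, RH26.str_apply]
  refine (congrArg ((r * v) • ·) (germ_eq_smul_one _ hwW f)).trans ?_
  rw [smul_smul, mul_assoc, hv, mul_one]

theorem quotMap_inverse {U : Scheme.{u}} {A B : U.IdealSheafData} (h : A ≤ B) (f : Γ(U, ⊤))
    (v : Γ(A.subscheme, A.subschemeι ⁻¹ᵁ ⊤)) (hv : v * A.subschemeι.app ⊤ f = 1) :
    (show Γ(B.subscheme, B.subschemeι ⁻¹ᵁ ⊤) from
      (Lef.quotMap h).app ⊤ (show Γ(ClSub.quotMod A, ⊤) from v)) * B.subschemeι.app ⊤ f = 1 := by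
  have h1 : (show Γ(ClSub.quotMod A, ⊤) from (1 : Γ(A.subscheme, A.subschemeι ⁻¹ᵁ ⊤))) =
      f • (show Γ(ClSub.quotMod A, ⊤) from v) := ((mul_comm _ _).trans hv).symm
  have h1' : (show Γ(ClSub.quotMod A, ⊤) from (1 : Γ(A.subscheme, A.subschemeι ⁻¹ᵁ ⊤))) =
      (ClSub.toSubscheme A).app ⊤ (show Γ(Coh.structureModule U, ⊤) from (1 : Γ(U, ⊤))) :=
    (map_one (A.subschemeι.app ⊤).hom).symm
  have h2 : (Lef.quotMap h).app ⊤ (show Γ(ClSub.quotMod A, ⊤) from (1 : Γ(A.subscheme, A.subschemeι ⁻¹ᵁ ⊤))) =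
      (show Γ(ClSub.quotMod B, ⊤) from (1 : Γ(B.subscheme, B.subschemeι ⁻¹ᵁ ⊤))) :=
    ((congrArg _ h1').trans
      (congrArg (fun g : Coh.structureModule U ⟶ ClSub.quotMod B => g.app ⊤ (show Γ(Coh.structureModule U, ⊤) from
        (1 : Γ(U, ⊤)))) (ES11.toSubscheme_quotMap h))).trans (map_one (B.subschemeι.app ⊤).hom)
  rw [h1, Scheme.Modules.Hom.app_smul] at h2
  rw [mul_comm]
  exact h2

/-- An endomorphism of the structure module invertible along the closed subscheme is invertible. -/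
theorem isIso_of_surjective_stalk {U : Scheme.{u}} {J : U.IdealSheafData}
    (hO : Lef.HomToFormalBijective J (Coh.structureModule U)) (θ : Coh.structureModule U ⟶ Coh.structureModule U)
    (h : ∀ x ∈ (J.support : Set U), Function.Surjective (CurveCoh17.stalkLin θ x)) : IsIso θ := by
  let one : Γ(Coh.structureModule U, ⊤) := (show Γ(Coh.structureModule U, ⊤) from (1 : Γ(U, ⊤)))
  let f : Γ(U, ⊤) := θ.app ⊤ one
  have hf : ∀ m : ℕ, IsUnit ((J ^ (m + 1)).subschemeι.app ⊤ f) := fun m => by
    refine (RingedSpace.isUnit_of_isUnit_germ (X := (J ^ (m + 1)).subscheme.toLocallyRingedSpace.toRingedSpace) _ _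
      fun w hw => ?_)
    have hx : (J ^ (m + 1)).subschemeι w ∈ (J.support : Set U) := by
      rw [← Scheme.IdealSheafData.support_pow_succ J m, ← Scheme.IdealSheafData.range_subschemeι]
      exact ⟨w, rfl⟩
    obtain ⟨a, ha⟩ := h _ hx (Cyc26.oneStalk _)
    obtain ⟨r, rfl⟩ := (RH26.str _).surjective a
    rw [RH26.str_apply, map_smul, Cyc26.oneStalk, CurveCoh17.stalkLin_apply, M1.germ_naturality] at ha
    have h2 : (r * U.presheaf.germ ⊤ _ trivial f) • Cyc26.oneStalk ((J ^ (m + 1)).subschemeι w) =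
        (1 : U.presheaf.stalk ((J ^ (m + 1)).subschemeι w)) • Cyc26.oneStalk ((J ^ (m + 1)).subschemeι w) := by
      rw [mul_smul, one_smul, ← germ_eq_smul_one]
      exact ha
    have h3 : IsUnit (U.presheaf.germ ⊤ ((J ^ (m + 1)).subschemeι w) trivial f) :=
      IsUnit.of_mul_eq_one_right r ((RH26.str _).injective h2)
    have h4 := h3.map ((J ^ (m + 1)).subschemeι.stalkMap w).hom
    exact Eq.subst (motive := fun z => IsUnit z) (Scheme.Hom.germ_stalkMap_apply (J ^ (m + 1)).subschemeι ⊤ w trivial f) h4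
  choose v hv using fun m => (hf m).exists_left_inv
  let y : ∀ m, Coh.structureModule U ⟶ ClSub.quotMod (J ^ (m + 1)) := fun m =>
    FGA3.homOfTop (show Γ(ClSub.quotMod (J ^ (m + 1)), ⊤) from v m)
  have hy : Lef.IsFormalHom J _ y := fun m => by
    refine FGA3.hom_ext_one _ _ ?_
    show (Lef.quotMap (Lef.pow_succ_le J m)).app ⊤ ((y (m + 1)).app ⊤ one) = (y m).app ⊤ one
    rw [FGA3.homOfTop_app_one, FGA3.homOfTop_app_one]
    have key := left_inv_eq_right_inv
      (quotMap_inverse (Lef.pow_succ_le J m) f (v (m + 1)) (hv (m + 1))) ((mul_comm _ _).trans (hv m))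
    exact key
  obtain ⟨ψ, hψ⟩ := hO.2 y hy
  let g : Γ(U, ⊤) := ψ.app ⊤ one
  have hlin : ∀ (χ : Coh.structureModule U ⟶ Coh.structureModule U) (a : Γ(U, ⊤)),
      χ.app ⊤ (show Γ(Coh.structureModule U, ⊤) from a) =
        (show Γ(Coh.structureModule U, ⊤) from a * (show Γ(U, ⊤) from χ.app ⊤ one)) := fun χ a => by
    refine (congrArg (χ.app ⊤) (show (show Γ(Coh.structureModule U, ⊤) from a) = a • one from
      (mul_one a).symm)).trans ?_
    exact Scheme.Modules.Hom.app_smul χ a one
  have key : f * g = 1 := by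
    have h0 : θ ≫ ψ = 𝟙 _ := hO.1 _ _ fun n => by
      refine FGA3.hom_ext_one _ _ ?_
      show (J ^ (n + 1)).subschemeι.app ⊤ (ψ.app ⊤ (θ.app ⊤ one)) = (J ^ (n + 1)).subschemeι.app ⊤ 1
      have h3 : (J ^ (n + 1)).subschemeι.app ⊤ g = v n :=
        (congrArg (fun φ => φ.app ⊤ one) (hψ n)).trans (FGA3.homOfTop_app_one _)
      refine (congrArg _ (hlin ψ f)).trans (Eq.trans ?_ (map_one ((J ^ (n + 1)).subschemeι.app ⊤).hom).symm)
      exact (map_mul ((J ^ (n + 1)).subschemeι.app ⊤).hom f g).trans ((congrArg _ h3).trans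
        ((mul_comm _ _).trans (hv n)))
    exact (hlin ψ f).symm.trans (congrArg (fun φ => φ.app ⊤ one) h0)
  refine ⟨ψ, FGA3.hom_ext_one _ _ ((hlin ψ f).trans key), FGA3.hom_ext_one _ _ ?_⟩
  exact (hlin θ g).trans ((mul_comm g f).trans key)

/-- A step of the lifting. -/
theorem exists_lift {U : Scheme.{u}} {A B : U.IdealSheafData} (h : A ≤ B)
    (hs : Function.Surjective (Scheme.IdealSheafData.inclusion h).appTop) {M : U.Modules}
    (a : (Scheme.Modules.pullback A.subschemeι).obj M ≅ Coh.structureModule A.subscheme)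
    (y : M ⟶ ClSub.quotMod B) : ∃ z : M ⟶ ClSub.quotMod A, z ≫ Lef.quotMap h = y := by
  let p := Scheme.IdealSheafData.inclusion h
  let c : (Scheme.Modules.pushforward A.subschemeι).obj ((Scheme.Modules.pushforward p).obj (Coh.structureModule _)) ≅
      ClSub.quotMod B :=
    (Scheme.Modules.pushforwardComp p A.subschemeι).app _ ≪≫
      (Scheme.Modules.pushforwardCongr (Scheme.IdealSheafData.inclusion_subschemeι h)).app _
  let adj := Scheme.Modules.pullbackPushforwardAdjunction A.subschemeι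
  let d := (adj.homEquiv _ _).symm (y ≫ c.inv)
  let e := a.inv ≫ d
  obtain ⟨τ, hτ⟩ := hs (show Γ(B.subscheme, ⊤) from
    e.app ⊤ (show Γ(Coh.structureModule A.subscheme, ⊤) from (1 : Γ(A.subscheme, ⊤))))
  let g : Coh.structureModule A.subscheme ⟶ Coh.structureModule A.subscheme :=
    FGA3.homOfTop (show Γ(Coh.structureModule A.subscheme, ⊤) from τ)
  have hg : g ≫ ClSub.unitToPush p = e := by
    refine FGA3.hom_ext_one _ _ ?_
    show (ClSub.unitToPush p).app ⊤ (g.app ⊤ _) = e.app ⊤ _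
    rw [FGA3.homOfTop_app_one]
    exact hτ
  refine ⟨adj.homEquiv _ _ (a.hom ≫ g), ?_⟩
  have hq : Lef.quotMap h = (Scheme.Modules.pushforward A.subschemeι).map (ClSub.unitToPush p) ≫ c.hom := rfl
  rw [hq, ← Category.assoc, ← adj.homEquiv_naturality_right, Category.assoc, hg, Iso.hom_inv_id_assoc,
    Equiv.apply_symm_apply, Category.assoc, Iso.inv_hom_id, Category.comp_id]

/-- A morphism to the structure module that generates along the closed subscheme. -/
theorem exists_hom_generating {U : Scheme.{u}} {J : U.IdealSheafData} {M : U.Modules} (hM : PicF.IsInvertible M)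
    (hL : Lef.HomToFormalBijective J M) (n : ℕ)
    (hstep : ∀ m, n ≤ m → Formal2.PicPullbackInjective (Scheme.IdealSheafData.inclusion (Lef.pow_succ_le J m)) ∧
      Function.Surjective (Scheme.IdealSheafData.inclusion (Lef.pow_succ_le J m)).appTop)
    (e : (Scheme.Modules.pullback (J ^ (n + 1)).subschemeι).obj M ≅ Coh.structureModule _) :
    ∃ φ : M ⟶ Coh.structureModule U, ∀ x ∈ (J.support : Set U), Function.Surjective (CurveCoh17.stalkLin φ x) := by
  have triv : ∀ m : ℕ, Nonempty ((Scheme.Modules.pullback (J ^ (n + m + 1)).subschemeι).obj M ≅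
      Coh.structureModule _) := by
    intro m
    induction m with
    | zero => exact ⟨e⟩
    | succ m ih =>
      obtain ⟨e'⟩ := ih
      exact (hstep (n + m) (Nat.le_add_right n m)).1 _ (PicLoc.isInvertible_pullback _ hM)
        ⟨(Scheme.Modules.pullbackComp (Scheme.IdealSheafData.inclusion (Lef.pow_succ_le J (n + m))) _).app M ≪≫
          (Scheme.Modules.pullbackCongr (Scheme.IdealSheafData.inclusion_subschemeι _)).app M ≪≫ e'⟩
  have lift : ∀ (m : ℕ) (y : M ⟶ ClSub.quotMod (J ^ (n + m + 1))),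
      ∃ z : M ⟶ ClSub.quotMod (J ^ (n + (m + 1) + 1)), z ≫ Lef.quotMap (Lef.pow_succ_le J (n + m)) = y := fun m y =>
    exists_lift _ (hstep (n + m) (Nat.le_add_right n m)).2 (triv (m + 1)).some y
  let adj := Scheme.Modules.pullbackPushforwardAdjunction (J ^ (n + 1)).subschemeι
  let w₀ : M ⟶ ClSub.quotMod (J ^ (n + 0 + 1)) := adj.homEquiv _ _ e.hom
  choose z hz using lift
  let w : ∀ m, M ⟶ ClSub.quotMod (J ^ (n + m + 1)) := fun m => Nat.rec w₀ (fun m y => z m y) m
  have hw : ∀ m, w (m + 1) ≫ Lef.quotMap (Lef.pow_succ_le J (n + m)) = w m := fun m => hz m (w m)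
  have hle : ∀ m, J ^ (n + m + 1) ≤ J ^ (m + 1) := fun m => by
    rw [show n + m + 1 = m + 1 + n by omega, pow_add]
    exact mul_le_of_le_one_right' le_top
  let y : ∀ m, M ⟶ ClSub.quotMod (J ^ (m + 1)) := fun m => w m ≫ Lef.quotMap (hle m)
  have hy : Lef.IsFormalHom J M y := fun m => by
    show (w (m + 1) ≫ Lef.quotMap (hle (m + 1))) ≫ Lef.quotMap (Lef.pow_succ_le J m) = w m ≫ Lef.quotMap (hle m)
    rw [← hw m, Category.assoc, Category.assoc, quotMap_comp, quotMap_comp]
  obtain ⟨φ, hφ⟩ := hL.2 y hy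
  refine ⟨φ, fun x hx => surjective_stalk_of_epi_toSubscheme (K := J ^ (0 + 1)) φ ?_ x
    (by rw [Scheme.IdealSheafData.support_pow_succ]; exact hx)⟩
  rw [hφ 0]
  haveI : Epi (adj.unit.app M) :=
    haveI : Coh.IsQCoh M := M2.isQCoh_of_isFinLocFree (M2.isFinLocFree_of_isInvertible hM)
    TZ11.epi_unit _ M
  haveI : Epi w₀ := by
    show Epi (adj.homEquiv _ _ e.hom)
    rw [adj.homEquiv_unit]
    exact epi_comp _ _
  haveI : Epi (Lef.quotMap (hle 0)) := by
    haveI := M2.epi_toSubscheme (X := U) (J ^ (0 + 1))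
    haveI : Epi (ClSub.toSubscheme (J ^ (n + 0 + 1)) ≫ Lef.quotMap (hle 0)) := by
      rw [ES11.toSubscheme_quotMap]; infer_instance
    exact epi_of_epi (ClSub.toSubscheme (J ^ (n + 0 + 1))) _
  exact epi_comp w₀ _

/-- Inverse invertible modules trivial on a thickening are trivial under the Lefschetz condition. -/
theorem nonempty_iso_of_formal {U : Scheme.{u}} {J : U.IdealSheafData}
    (hL : ∀ D : U.Modules, FlatMod.IsFinLocFree D → Lef.HomToFormalBijective J D) (n : ℕ)
    (hstep : ∀ m, n ≤ m → Formal2.PicPullbackInjective (Scheme.IdealSheafData.inclusion (Lef.pow_succ_le J m)) ∧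
      Function.Surjective (Scheme.IdealSheafData.inclusion (Lef.pow_succ_le J m)).appTop)
    {M M' : U.Modules} (hM : PicF.IsInvertible M) (hM' : PicF.IsInvertible M')
    (ε : CohB1.tensorMod M' M ≅ Coh.structureModule U)
    (e : (Scheme.Modules.pullback (J ^ (n + 1)).subschemeι).obj M ≅ Coh.structureModule _)
    (e' : (Scheme.Modules.pullback (J ^ (n + 1)).subschemeι).obj M' ≅ Coh.structureModule _) :
    Nonempty (M ≅ Coh.structureModule U) := by
  obtain ⟨φ, hφ⟩ := exists_hom_generating hM (hL M (M2.isFinLocFree_of_isInvertible hM)) n hstep e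
  obtain ⟨φ', hφ'⟩ := exists_hom_generating hM' (hL M' (M2.isFinLocFree_of_isInvertible hM')) n hstep e'
  let s : Coh.structureModule U ⟶ M := ε.inv ≫ M2.tensorMap φ' (𝟙 M) ≫ (M2.tensorLUnit M).hom
  haveI : IsIso (s ≫ φ) := isIso_of_surjective_stalk
    (hL _ (M2.isFinLocFree_of_isInvertible (PicLoc.isInvertible_structureModule U))) _ fun x hx => by
      have hc : ∀ {A B C : U.Modules} (α : A ⟶ B) (β : B ⟶ C),
          Function.Surjective (CurveCoh17.stalkLin α x) → Function.Surjective (CurveCoh17.stalkLin β x) →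
            Function.Surjective (CurveCoh17.stalkLin (α ≫ β) x) := fun α β hα hβ c => by
        obtain ⟨b, rfl⟩ := hβ c
        obtain ⟨a, rfl⟩ := hα b
        exact ⟨a, CurveCoh17.stalkLin_comp α β x a⟩
      exact hc _ _ (hc _ _ (CurveCoh17.surjective_stalkLin_of_isIso _ x) (hc _ _
        (CurveCoh17.surjective_stalk_tensorMap _ _ x (hφ' x hx) (CurveCoh17.surjective_stalkLin_of_isIso _ x))
        (CurveCoh17.surjective_stalkLin_of_isIso _ x))) (hφ x hx)
  haveI : Epi φ := epi_of_epi s φ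
  haveI := Cyc26A.isIso_of_epi_invertible hM (PicLoc.isInvertible_structureModule U) φ
  exact ⟨asIso φ⟩

end Groth.Agent.PicLef28
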