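import Groth.Agent.Lib.FormalColim28.PicLef
import Groth.Prelude.Def_LefX

/-!
# Invertible modules on a thickening extend to a neighbourhood under the effective Lefschetz condition
-/

set_option autoImplicit false
set_option linter.style.haveILetI false
set_option linter.unusedSectionVars false
set_option backward.isDefEq.respectTransparency false
set_option backward.isDefEq.respectTransparency.types false

universe u

open CategoryTheory CategoryTheory.Limits AlgebraicGeometry TopologicalSpace Opposite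

noncomputable section

namespace Groth.Agent.PicLef28

open Groth.Agent

attribute [local instance] M2.law

/-- Pullback to a square-zero thickening without second cohomology is surjective on invertible modules. -/
theorem picSurjective_of_sq_zero {Z Y : Scheme.{u}} (p : Z ⟶ Y) [IsClosedImmersion p] (hI : p.ker * p.ker = ⊥)
    (h : Subsingleton (Coh.HH Y (ClSub.idealMod p.ker) 2)) : Formal2.PicPullbackSurjective p := fun L₀ hL₀ => by
  haveI := h
  let t : Z ≅ p.ker.subscheme := asIso p.toImage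
  have hi : PicGrp.PullMul p.ker.subschemeι := M2.pullMul _
  have hL₀' := PicLoc.isInvertible_pullback t.inv hL₀
  obtain ⟨d, hd⟩ := (PicH1_21.δ₁Add_eq_zero_iff hI hi (PicGrp.cls _ hL₀')).1 (Subsingleton.elim _ _)
  obtain ⟨L, hL, rfl⟩ := PicGrp.exists_eq_cls d
  rw [PicGrp.pullHom_cls] at hd
  obtain ⟨e⟩ := (PicGrp.cls_eq_cls_iff _ _).1 hd
  exact ⟨L, hL, ⟨(Scheme.Modules.pullbackCongr p.toImage_imageι.symm).app L ≪≫
    ((Scheme.Modules.pullbackComp t.hom p.ker.subschemeι).app L).symm ≪≫ (Scheme.Modules.pullback t.hom).mapIso e ≪≫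
    (Scheme.Modules.pullbackComp t.hom t.inv).app L₀ ≪≫ (Scheme.Modules.pullbackCongr t.hom_inv_id).app L₀ ≪≫
    (Scheme.Modules.pullbackId _).app L₀⟩⟩

variable {X : Scheme.{u}}

/-- Composing inclusions of closed subschemes. -/
theorem inclusion_comp {A B C : X.IdealSheafData} (h : A ≤ B) (h' : B ≤ C) :
    Scheme.IdealSheafData.inclusion h' ≫ Scheme.IdealSheafData.inclusion h =
      Scheme.IdealSheafData.inclusion (h.trans h') := by
  rw [← cancel_mono A.subschemeι, Category.assoc, Scheme.IdealSheafData.inclusion_subschemeι,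
    Scheme.IdealSheafData.inclusion_subschemeι, Scheme.IdealSheafData.inclusion_subschemeι]

/-- Transport along a commutative square. -/
def squareIso {P Q R S : Scheme.{u}} (i : P ⟶ Q) (r' : Q ⟶ S) (r : P ⟶ R) (j : R ⟶ S) (h : i ≫ r' = r ≫ j)
    {A : S.Modules} {B : R.Modules} (a : (Scheme.Modules.pullback j).obj A ≅ B) :
    (Scheme.Modules.pullback i).obj ((Scheme.Modules.pullback r').obj A) ≅ (Scheme.Modules.pullback r).obj B :=
  (Scheme.Modules.pullbackComp i r').app A ≪≫ (Scheme.Modules.pullbackCongr h).app A ≪≫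
    ((Scheme.Modules.pullbackComp r j).app A).symm ≪≫ (Scheme.Modules.pullback r).mapIso a

theorem nonempty_pullback_inclusion_trans {A B C : X.IdealSheafData} (h : A ≤ B) (h' : B ≤ C) (hh : A ≤ C)
    {L : A.subscheme.Modules} {G : B.subscheme.Modules} {N : C.subscheme.Modules}
    (e : (Scheme.Modules.pullback (Scheme.IdealSheafData.inclusion h)).obj L ≅ G)
    (e' : (Scheme.Modules.pullback (Scheme.IdealSheafData.inclusion h')).obj G ≅ N) :
    Nonempty ((Scheme.Modules.pullback (Scheme.IdealSheafData.inclusion hh)).obj L ≅ N) :=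
  ⟨(Scheme.Modules.pullbackCongr (inclusion_comp h h').symm).app L ≪≫
    ((Scheme.Modules.pullbackComp _ _).app L).symm ≪≫ (Scheme.Modules.pullback _).mapIso e ≪≫ e'⟩

theorem nonempty_pullback_inclusion_self {A : X.IdealSheafData} (hh : A ≤ A) {G N : A.subscheme.Modules}
    (h : G = N) : Nonempty ((Scheme.Modules.pullback (Scheme.IdealSheafData.inclusion hh)).obj G ≅ N) := by
  subst h
  exact ⟨(Scheme.Modules.pullbackCongr (show Scheme.IdealSheafData.inclusion hh = 𝟙 A.subscheme by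
    rw [← cancel_mono A.subschemeι, Category.id_comp]
    exact Scheme.IdealSheafData.inclusion_subschemeι _)).app G ≪≫ (Scheme.Modules.pullbackId _).app G⟩

/-- An invertible module on a thickening is a level of a system of invertible modules on the completion. -/
theorem exists_modSys (𝓘 : X.IdealSheafData) (n : ℕ)
    (hH : ∀ m : ℕ, n ≤ m → Subsingleton (Coh.HH X (kernel (Lef.quotMap (Lef.pow_succ_le 𝓘 m))) 2))
    (N : ((FSch.completionAlong X 𝓘).X n).Modules) (hN : PicF.IsInvertible N) :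
    ∃ 𝔐 : FSch.ModSys (FSch.completionAlong X 𝓘), LefX.LevelwiseFinLocFree 𝔐 ∧ Nonempty (𝔐.F n ≅ N) := by
  have step : ∀ (m : ℕ) (G : {L : ((𝓘 ^ (n + m + 1)).subscheme).Modules // PicF.IsInvertible L}),
      ∃ G' : {L : ((𝓘 ^ (n + (m + 1) + 1)).subscheme).Modules // PicF.IsInvertible L},
        Nonempty ((Scheme.Modules.pullback (Scheme.IdealSheafData.inclusion (Lef.pow_succ_le 𝓘 (n + m)))).obj G'.1 ≅
          G.1) := fun m G => by
    obtain ⟨L, hL, e⟩ := picSurjective_of_sq_zero (Scheme.IdealSheafData.inclusion (Lef.pow_succ_le 𝓘 (n + m)))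
      (ker_inclusion_sq _ (by
        rw [← pow_add, show n + m + 1 + (n + m + 1) = n + m + 2 + (n + m) by omega, pow_add]
        exact mul_le_of_le_one_right' le_top))
      (subsingleton_HH_inclusion _ 2 (hH (n + m) (Nat.le_add_right n m))) G.1 G.2
    exact ⟨⟨L, hL⟩, e⟩
  choose next hnext using step
  obtain ⟨G, hG0, hG⟩ : ∃ G : ∀ m, {L : ((𝓘 ^ (n + m + 1)).subscheme).Modules // PicF.IsInvertible L},
      (G 0).1 = N ∧ ∀ m, Nonempty ((Scheme.Modules.pullback (Scheme.IdealSheafData.inclusion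
        (Lef.pow_succ_le 𝓘 (n + m)))).obj (G (m + 1)).1 ≅ (G m).1) :=
    ⟨fun m => Nat.rec ⟨N, hN⟩ (fun m G => next m G) m, rfl, fun m => hnext m _⟩
  have hle : ∀ j k : ℕ, j ≤ k → 𝓘 ^ (k + 1) ≤ 𝓘 ^ (j + 1) := fun j k hjk => by
    obtain ⟨d, rfl⟩ := Nat.exists_eq_add_of_le hjk
    rw [show j + d + 1 = j + 1 + d by omega, pow_add]
    exact mul_le_of_le_one_right' le_top
  let r : ∀ m, (𝓘 ^ (m + 1)).subscheme ⟶ (𝓘 ^ (n + m + 1)).subscheme :=
    fun m => Scheme.IdealSheafData.inclusion (hle m (n + m) (Nat.le_add_left m n))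
  let e : ∀ m, (Scheme.Modules.pullback (Scheme.IdealSheafData.inclusion (FSch.pow_succ_le X 𝓘 m))).obj
      ((Scheme.Modules.pullback (r (m + 1))).obj (G (m + 1)).1) ≅ (Scheme.Modules.pullback (r m)).obj (G m).1 :=
    fun m => squareIso (Scheme.IdealSheafData.inclusion (FSch.pow_succ_le X 𝓘 m)) (r (m + 1)) (r m)
      (Scheme.IdealSheafData.inclusion (Lef.pow_succ_le 𝓘 (n + m)))
      ((inclusion_comp _ _).trans (inclusion_comp _ _).symm) (hG m).some
  refine ⟨⟨fun m => (Scheme.Modules.pullback (r m)).obj (G m).1, e⟩,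
    fun m => M2.isFinLocFree_of_isInvertible (PicLoc.isInvertible_pullback _ (G m).2), ?_⟩
  have hpull : ∀ m, Nonempty ((Scheme.Modules.pullback
      (Scheme.IdealSheafData.inclusion (hle n (n + m) (Nat.le_add_right n m)))).obj (G m).1 ≅ N) := by
    intro m
    induction m with
    | zero => exact nonempty_pullback_inclusion_self _ hG0
    | succ m ih =>
      exact nonempty_pullback_inclusion_trans (Lef.pow_succ_le 𝓘 (n + m)) (hle n (n + m) (Nat.le_add_right n m)) _
        (hG m).some ih.some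
  exact hpull n

/-- A finite locally free module with invertible pullback has rank one at the points in the image. -/
theorem exists_free_one_of_isInvertible_pullback {Y T : Scheme.{u}} (g : T ⟶ Y) {E : Y.Modules}
    (hE : FlatMod.IsFinLocFree E) (hg : PicF.IsInvertible ((Scheme.Modules.pullback g).obj E)) (w : T) :
    ∃ V : Y.Opens, g w ∈ V ∧ Nonempty (E.restrict V.ι ≅ FlatMod.freeMod (V : Scheme.{u}) 1) := by
  obtain ⟨V, n, hw, ⟨e⟩⟩ := hE (g w)
  let P := ((Scheme.Modules.pullback g).obj E).restrict (g ⁻¹ᵁ V).ι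
  have h1 : FlatMod.IsFinLocFreeOfRank n P :=
    M2.isFinLocFreeOfRank_of_iso (M2.pullbackRestrictIso g E V).symm
      (M2.isFinLocFreeOfRank_pullback (g ∣_ V)
        (M2.isFinLocFreeOfRank_of_iso e.symm (M2.isFinLocFreeOfRank_freeMod _ n)))
  have h2 : FlatMod.IsFinLocFreeOfRank 1 P :=
    (M2.isInvertible_iff_isFinLocFreeOfRank_one _).1 (M2.isInvertible_restrict hg _)
  let w' : (g ⁻¹ᵁ V : T.Opens) := ⟨w, hw⟩
  obtain ⟨l₁⟩ := CurveCoh17.nonempty_stalk_equiv h1 w'
  obtain ⟨l₂⟩ := CurveCoh17.nonempty_stalk_equiv h2 w'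
  have hn := LinearEquiv.finrank_eq (l₁.symm.trans l₂)
  rw [Module.finrank_fin_fun, Module.finrank_fin_fun] at hn
  subst hn
  exact ⟨V, hw, ⟨e⟩⟩

/-- Extension of an invertible module from a thickening to a neighbourhood. -/
theorem exists_extend_nhd (𝓘 : X.IdealSheafData) (h : LefX.LeffCond X 𝓘) (n : ℕ)
    (hH : ∀ m : ℕ, n ≤ m → Subsingleton (Coh.HH X (kernel (Lef.quotMap (Lef.pow_succ_le 𝓘 m))) 2))
    (N : ((𝓘 ^ (n + 1)).subscheme).Modules) (hN : PicF.IsInvertible N) :
    ∃ (U : X.Opens) (L : (U : Scheme.{u}).Modules) (g : (𝓘 ^ (n + 1)).subscheme ⟶ U),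
      (𝓘.support : Set X) ⊆ (U : Set X) ∧ g ≫ U.ι = (𝓘 ^ (n + 1)).subschemeι ∧ PicF.IsInvertible L ∧
        Nonempty ((Scheme.Modules.pullback g).obj L ≅ N) := by
  obtain ⟨𝔐, h𝔐, ⟨eN⟩⟩ := exists_modSys 𝓘 n hH N hN
  obtain ⟨U, E, hU, hE, ⟨eM⟩⟩ := h.2 𝔐 h𝔐
  let ι := (𝓘 ^ (n + 1)).subschemeι
  let eA : (Scheme.Modules.pullback ι).obj ((Scheme.Modules.pushforward U.ι).obj E) ≅ 𝔐.F n :=
    ⟨eM.hom.app n, eM.inv.app n, congrArg (fun f => f.app n) eM.hom_inv_id,
      congrArg (fun f => f.app n) eM.inv_hom_id⟩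
  have hr : Set.range ι ⊆ Set.range U.ι := by
    rw [Scheme.IdealSheafData.range_subschemeι, Scheme.Opens.range_ι, Scheme.IdealSheafData.support_pow_succ]
    exact hU
  let gU := IsOpenImmersion.lift U.ι ι hr
  have hgU : gU ≫ U.ι = ι := IsOpenImmersion.lift_fac _ _ _
  let eB : (Scheme.Modules.pullback gU).obj E ≅ N :=
    (Scheme.Modules.pullback gU).mapIso
      ((asIso ((Scheme.Modules.restrictAdjunction U.ι).counit.app E)).symm ≪≫
        (Scheme.Modules.restrictFunctorIsoPullback U.ι).app _) ≪≫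
      (Scheme.Modules.pullbackComp gU U.ι).app _ ≪≫ (Scheme.Modules.pullbackCongr hgU).app _ ≪≫ eA ≪≫ eN
  let W : (U : Scheme.{u}).Opens := ⟨{x | ∃ V : (U : Scheme.{u}).Opens, x ∈ V ∧
      Nonempty (E.restrict V.ι ≅ FlatMod.freeMod (V : Scheme.{u}) 1)}, isOpen_iff_forall_mem_open.2
        fun x ⟨V, hxV, hV⟩ => ⟨V, fun y hy => ⟨V, hy, hV⟩, V.isOpen, hxV⟩⟩
  have hW : ∀ w, gU w ∈ W := exists_free_one_of_isInvertible_pullback gU hE (M2.isInvertible_of_iso eB.symm hN)
  have hWi : PicF.IsInvertible ((Scheme.Modules.pullback W.ι).obj E) := by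
    refine M2.isInvertible_of_iso ((Scheme.Modules.restrictFunctorIsoPullback W.ι).app E) ?_
    refine (M2.isInvertible_iff_isFinLocFreeOfRank_one _).2 fun x => ?_
    obtain ⟨V, hxV, ⟨eV⟩⟩ := x.2
    obtain ⟨eV'⟩ := M2.nonempty_free_mono (inf_le_right : W ⊓ V ≤ V) eV
    refine ⟨W.ι ⁻¹ᵁ V, hxV, ⟨?_⟩⟩
    refine (Scheme.Modules.restrictFunctorIsoPullback (W.ι ⁻¹ᵁ V).ι).app _ ≪≫
      (Scheme.Modules.pullback (W.ι ⁻¹ᵁ V).ι).mapIso ((Scheme.Modules.restrictFunctorIsoPullback W.ι).app E) ≪≫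
      (Scheme.Modules.pullbackComp (W.ι ⁻¹ᵁ V).ι W.ι).app E ≪≫
      (Scheme.Modules.pullbackCongr (morphismRestrict_ι W.ι V).symm).app E ≪≫
      ((Scheme.Modules.pullbackComp (W.ι ∣_ V) V.ι).app E).symm ≪≫
      (Scheme.Modules.pullback (W.ι ∣_ V)).mapIso
        (((Scheme.Modules.restrictFunctorIsoPullback V.ι).app E).symm ≪≫ eV) ≪≫ M2.freeModPullbackIso _ 1
  let σ := U.ι.isoImage W
  have hsub : (𝓘.support : Set X) ⊆ (U.ι ''ᵁ W : X.Opens) := fun x hx => by
    obtain ⟨w, rfl⟩ : x ∈ Set.range ι := by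
      rw [Scheme.IdealSheafData.range_subschemeι, Scheme.IdealSheafData.support_pow_succ]; exact hx
    exact ⟨gU w, hW w, (congrArg (fun f : _ ⟶ X => f.base w) hgU)⟩
  let gW := IsOpenImmersion.lift W.ι gU (by rintro _ ⟨w, rfl⟩; rw [Scheme.Opens.range_ι]; exact hW w)
  have hgW : gW ≫ W.ι = gU := IsOpenImmersion.lift_fac _ _ _
  refine ⟨U.ι ''ᵁ W, (Scheme.Modules.pullback σ.inv).obj ((Scheme.Modules.pullback W.ι).obj E), gW ≫ σ.hom, hsub, ?_,
    PicLoc.isInvertible_pullback _ hWi, ⟨(Scheme.Modules.pullbackComp (gW ≫ σ.hom) σ.inv).app _ ≪≫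
      (Scheme.Modules.pullbackCongr (show (gW ≫ σ.hom) ≫ σ.inv = gW by simp)).app _ ≪≫
      (Scheme.Modules.pullbackComp gW W.ι).app E ≪≫ (Scheme.Modules.pullbackCongr hgW).app E ≪≫ eB⟩⟩
  rw [Category.assoc, Scheme.Hom.isoImage_hom_ι, ← Category.assoc, hgW, hgU]

end Groth.Agent.PicLef28
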