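import Groth.Agent.Lib.FormalColim28.PicLeff
import Groth.Agent.Lib.ParaFDesc27.Stalkwise
import Groth.Prelude.Def_Formal2

/-!
# Picard groups of a scheme, of neighbourhoods and of thickenings
-/

set_option autoImplicit false
set_option linter.style.haveILetI false
set_option linter.unusedSectionVars false
set_option backward.isDefEq.respectTransparency false
set_option backward.isDefEq.respectTransparency.types false

universe u

open CategoryTheory CategoryTheory.Limits AlgebraicGeometry TopologicalSpace Opposite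

noncomputable section

namespace Groth.Agent.PicLef28

open Groth.Agent

attribute [local instance] M2.law

variable {X : Scheme.{u}} [IsLocallyNoetherian X]

/-- The Lefschetz condition makes restriction to a thickening injective on the Picard group of a neighbourhood. -/
theorem picInjective_thickening (𝓘 : X.IdealSheafData) (h : Lef.LefCond X 𝓘) (n : ℕ)
    (hH1 : ∀ m : ℕ, n ≤ m → Subsingleton (Coh.HH X (kernel (Lef.quotMap (Lef.pow_succ_le 𝓘 m))) 1))
    (U : X.Opens) (hU : (𝓘.support : Set X) ⊆ (U : Set X)) :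
    Formal2.PicPullbackInjective ((𝓘.comap U.ι) ^ (n + 1)).subschemeι := by
  have hcomap : ∀ m : ℕ, (𝓘.comap U.ι) ^ (m + 1) = (𝓘 ^ (m + 1)).comap U.ι := fun m =>
    (BlowUpExist.comap_pow 𝓘 U.ι (m + 1)).symm
  have hsupp : ∀ m : ℕ, ((𝓘 ^ (m + 1)).support : Set X) ⊆ U := fun m => by
    rw [Scheme.IdealSheafData.support_pow_succ]; exact hU
  have hstep : ∀ m, n ≤ m →
      Formal2.PicPullbackInjective (Scheme.IdealSheafData.inclusion (Lef.pow_succ_le (𝓘.comap U.ι) m)) ∧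
        Function.Surjective (Scheme.IdealSheafData.inclusion (Lef.pow_succ_le (𝓘.comap U.ι) m)).appTop := fun m hm =>
    restrict_step U (hsupp (m + 1)) (hsupp m) (hcomap (m + 1)) (hcomap m) (Lef.pow_succ_le 𝓘 m) _
      (by
        rw [← pow_add, show m + 1 + (m + 1) = m + 2 + m by omega, pow_add]
        exact mul_le_of_le_one_right' le_top)
      (hH1 m hm)
  intro L hL he
  let i := ((𝓘.comap U.ι) ^ (n + 1)).subschemeι
  have hi : PicGrp.PullMul i := M2.pullMul _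
  obtain ⟨e₁⟩ := he
  obtain ⟨M', hM', hMc'⟩ := PicGrp.exists_eq_cls (PicGrp.cls L hL)⁻¹
  obtain ⟨ε⟩ := (PicGrp.cls_mul_cls_eq_one_iff hM' hL).1 (by rw [← hMc', inv_mul_cancel])
  obtain ⟨e₂⟩ := (PicGrp.cls_eq_one_iff _).1 ((PicGrp.pullHom_cls i hi M' hM').symm.trans (by
    rw [← hMc', map_inv, PicGrp.pullHom_cls i hi L hL, (PicGrp.cls_eq_one_iff _).2 ⟨e₁⟩, inv_one]))
  exact nonempty_iso_of_formal (h U hU) n hstep hL hM' ε e₁ e₂

/-- A morphism from the thickening into a neighbourhood through the thickening of the neighbourhood. -/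
theorem exists_iso_thickening (𝓘 : X.IdealSheafData) (n : ℕ) (U : X.Opens) (hU : (𝓘.support : Set X) ⊆ (U : Set X))
    (g : (𝓘 ^ (n + 1)).subscheme ⟶ U) (hg : g ≫ U.ι = (𝓘 ^ (n + 1)).subschemeι) :
    ∃ σ : ((𝓘.comap U.ι) ^ (n + 1)).subscheme ≅ (𝓘 ^ (n + 1)).subscheme,
      σ.hom ≫ g = ((𝓘.comap U.ι) ^ (n + 1)).subschemeι := by
  obtain ⟨σ, hσ⟩ := exists_iso_subscheme_restrict U
    (K := 𝓘 ^ (n + 1)) (by rw [Scheme.IdealSheafData.support_pow_succ]; exact hU)
    (BlowUpExist.comap_pow 𝓘 U.ι (n + 1)).symm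
  refine ⟨σ, ?_⟩
  rw [← cancel_mono U.ι, Category.assoc, hg, hσ]

theorem picInjective_lift (𝓘 : X.IdealSheafData) (h : Lef.LefCond X 𝓘) (n : ℕ)
    (hH1 : ∀ m : ℕ, n ≤ m → Subsingleton (Coh.HH X (kernel (Lef.quotMap (Lef.pow_succ_le 𝓘 m))) 1))
    (U : X.Opens) (hU : (𝓘.support : Set X) ⊆ (U : Set X))
    (g : (𝓘 ^ (n + 1)).subscheme ⟶ U) (hg : g ≫ U.ι = (𝓘 ^ (n + 1)).subschemeι) :
    Formal2.PicPullbackInjective g := by
  obtain ⟨σ, hσ⟩ := exists_iso_thickening 𝓘 n U hU g hg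
  intro L hL he
  obtain ⟨e⟩ := he
  exact picInjective_thickening 𝓘 h n hH1 U hU L hL
    ⟨(Scheme.Modules.pullbackCongr hσ.symm).app L ≪≫ ((Scheme.Modules.pullbackComp σ.hom g).app L).symm ≪≫
      (Scheme.Modules.pullback σ.hom).mapIso e ≪≫ PicLoc.pullbackStructureIso σ.hom⟩

/-- Restriction to an open whose complement consists of parafactorial points. -/
theorem picPullback_ι_bijective (U : X.Opens)
    (h : ∀ x : X, x ∉ U → ParaF.IsParafactorialLocalRing (X.presheaf.stalk x)) :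
    Formal2.PicPullbackInjective U.ι ∧ Formal2.PicPullbackSurjective U.ι := by
  let Y : Closeds X := ⟨(U : Set X)ᶜ, U.isOpen.isClosed_compl⟩
  have hY : Y.compl = U := Opens.ext (compl_compl _)
  have hPF : ParaF27.PF U := hY ▸
    (ParaF27.pair_iff Y).1 ((ParaFDesc27.pair_iff_stalks Y).2 fun x hx => h x hx)
  have hRB : ParaF27.RB U.ι.opensRange := by rw [Scheme.Opens.opensRange_ι]; exact hPF.1
  refine ⟨fun L hL he => ?_, fun L₀ hL₀ => ?_⟩
  · obtain ⟨e⟩ := he
    exact ParaF27.nonempty_iso_of_restrict U.ι hRB hL (PicLoc.isInvertible_structureModule X)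
      ((Scheme.Modules.restrictFunctorIsoPullback U.ι).app L ≪≫ e ≪≫
        (PicLoc.pullbackStructureIso U.ι).symm ≪≫ ((Scheme.Modules.restrictFunctorIsoPullback U.ι).app _).symm)
  · exact ⟨_, hPF.push (𝟙 X) U.ι (by rw [Scheme.Opens.opensRange_ι]; rfl) L₀ hL₀,
      ⟨((Scheme.Modules.restrictFunctorIsoPullback U.ι).app _).symm ≪≫ ParaF27.counitIso U.ι L₀⟩⟩

/-- The Picard groups of a scheme, a neighbourhood and a thickening. -/
theorem picPullback_bijective_of_leff (𝓘 : X.IdealSheafData) (h : LefX.LeffCond X 𝓘) (n : ℕ)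
    (hH1 : ∀ m : ℕ, n ≤ m → Subsingleton (Coh.HH X (kernel (Lef.quotMap (Lef.pow_succ_le 𝓘 m))) 1))
    (hH2 : ∀ m : ℕ, n ≤ m → Subsingleton (Coh.HH X (kernel (Lef.quotMap (Lef.pow_succ_le 𝓘 m))) 2))
    (hpara : ∀ U : X.Opens, (𝓘.support : Set X) ⊆ (U : Set X) → ∀ x : X, x ∉ U →
      ParaF.IsParafactorialLocalRing (X.presheaf.stalk x))
    (U : X.Opens) (hU : (𝓘.support : Set X) ⊆ (U : Set X)) :
    (Formal2.PicPullbackInjective U.ι ∧ Formal2.PicPullbackSurjective U.ι) ∧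
      (Formal2.PicPullbackInjective (𝓘 ^ (n + 1)).subschemeι ∧
        Formal2.PicPullbackSurjective (𝓘 ^ (n + 1)).subschemeι) ∧
      (Formal2.PicPullbackInjective ((𝓘.comap U.ι) ^ (n + 1)).subschemeι ∧
        Formal2.PicPullbackSurjective ((𝓘.comap U.ι) ^ (n + 1)).subschemeι) := by
  have hUi := picPullback_ι_bijective U (hpara U hU)
  let ι := (𝓘 ^ (n + 1)).subschemeι
  have hr : Set.range ι ⊆ Set.range U.ι := by
    rw [Scheme.IdealSheafData.range_subschemeι, Scheme.Opens.range_ι, Scheme.IdealSheafData.support_pow_succ]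
    exact hU
  let g := IsOpenImmersion.lift U.ι ι hr
  have hg : g ≫ U.ι = ι := IsOpenImmersion.lift_fac _ _ _
  have hgi := picInjective_lift 𝓘 h.1 n hH1 U hU g hg
  have hsurj : Formal2.PicPullbackSurjective ι := fun N hN => by
    obtain ⟨U', L', g', hU', hg', hL', ⟨e⟩⟩ := exists_extend_nhd 𝓘 h n hH2 N hN
    obtain ⟨L, hL, ⟨eL⟩⟩ := (picPullback_ι_bijective U' (hpara U' hU')).2 L' hL'
    exact ⟨L, hL, ⟨(Scheme.Modules.pullbackCongr hg'.symm).app L ≪≫
      ((Scheme.Modules.pullbackComp g' U'.ι).app L).symm ≪≫ (Scheme.Modules.pullback g').mapIso eL ≪≫ e⟩⟩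
  refine ⟨hUi, ⟨fun L hL he => ?_, hsurj⟩, picInjective_thickening 𝓘 h.1 n hH1 U hU, fun N hN => ?_⟩
  · obtain ⟨e⟩ := he
    exact hUi.1 L hL (hgi _ (PicLoc.isInvertible_pullback _ hL)
      ⟨(Scheme.Modules.pullbackComp g U.ι).app L ≪≫ (Scheme.Modules.pullbackCongr hg).app L ≪≫ e⟩)
  · obtain ⟨σ, hσ⟩ := exists_iso_thickening 𝓘 n U hU g hg
    obtain ⟨L, hL, ⟨e⟩⟩ := hsurj _ (PicLoc.isInvertible_pullback σ.inv hN)
    exact ⟨_, PicLoc.isInvertible_pullback U.ι hL, ⟨(Scheme.Modules.pullbackCongr hσ.symm).app _ ≪≫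
      ((Scheme.Modules.pullbackComp σ.hom g).app _).symm ≪≫ (Scheme.Modules.pullback σ.hom).mapIso
        ((Scheme.Modules.pullbackComp g U.ι).app L ≪≫ (Scheme.Modules.pullbackCongr hg).app L ≪≫ e) ≪≫
      (Scheme.Modules.pullbackComp σ.hom σ.inv).app N ≪≫ (Scheme.Modules.pullbackCongr σ.hom_inv_id).app N ≪≫
      (Scheme.Modules.pullbackId _).app N⟩⟩

end Groth.Agent.PicLef28
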